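import Groth.Agent.FDescent.QuasiFlat
import Groth.Agent.FlatLoc6.Loc
import Groth.Agent.S6285
import Mathlib.RingTheory.Spectrum.Prime.Chevalley

/-!
# The support of a flat module maps openly to the base
-/

set_option autoImplicit false
set_option linter.style.haveILetI false
set_option backward.isDefEq.respectTransparency false
set_option backward.isDefEq.respectTransparency.types false

universe u

open TensorProduct PrimeSpectrum Topology

namespace Groth.Agent.Codepth5

variable {A B : Type u} [CommRing A] [CommRing B] [Algebra A B]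
  (M : Type u) [AddCommGroup M] [Module B M] [Module A M] [IsScalarTower A B M]

/-- Generizations lift inside the support of a flat finite module. -/
theorem exists_mem_support_comap_eq [Module.Finite B M] [Module.Flat A M] (q : PrimeSpectrum B)
    (hq : q ∈ Module.support B M) (p' : PrimeSpectrum A) (hp' : p' ≤ PrimeSpectrum.comap (algebraMap A B) q) :
    ∃ q' : PrimeSpectrum B, q' ∈ Module.support B M ∧ q' ≤ q ∧ PrimeSpectrum.comap (algebraMap A B) q' = p' := by
  let p := q.asIdeal.comap (algebraMap A B)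
  haveI : q.asIdeal.LiesOver p := ⟨rfl⟩
  letI := Localization.AtPrime.algebraOfLiesOver p q.asIdeal
  let Ap := Localization.AtPrime p
  let Bq := Localization.AtPrime q.asIdeal
  let N := Bq ⊗[B] M
  haveI hflat : Module.Flat Ap N := FlatLoc6.flat_atPrime M p q.asIdeal
  haveI : IsLocalHom (algebraMap Ap Bq) := FlatLoc6.isLocalHom_atPrime p q.asIdeal
  haveI hnt : Nontrivial N := by
    haveI := Module.mem_support_iff.1 hq
    exact (LocalizedModule.equivTensorProduct q.asIdeal.primeCompl M).symm.toEquiv.nontrivial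
  haveI : Module.Finite Bq N := Module.Finite.base_change B Bq M
  let I := Module.annihilator Bq N
  have hI : I ≠ ⊤ := by
    rw [Ne, Module.annihilator_eq_top_iff, not_subsingleton_iff_nontrivial]
    exact hnt
  haveI : Nontrivial (Bq ⧸ I) := Ideal.Quotient.nontrivial_iff.mpr hI
  haveI : IsLocalRing (Bq ⧸ I) := IsLocalRing.of_surjective' _ Ideal.Quotient.mk_surjective
  letI : Module (Bq ⧸ I) N :=
    Module.IsTorsionBySet.module (I := I) fun x a => Module.mem_annihilator.1 a.2 x
  haveI : IsScalarTower Bq (Bq ⧸ I) N := IsScalarTower.of_algebraMap_smul fun _ _ => rfl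
  haveI : IsScalarTower Ap (Bq ⧸ I) N := IsScalarTower.of_algebraMap_smul fun a x => by
    rw [IsScalarTower.algebraMap_apply Ap Bq (Bq ⧸ I), algebraMap_smul, algebraMap_smul]
  haveI : Module.Finite (Bq ⧸ I) N := Module.Finite.of_restrictScalars_finite Bq _ _
  haveI : IsLocalHom (algebraMap Ap (Bq ⧸ I)) := by
    haveI : IsLocalHom (Ideal.Quotient.mk I) := IsLocalHom.of_surjective _ Ideal.Quotient.mk_surjective
    exact RingHom.isLocalHom_comp (Ideal.Quotient.mk I) (algebraMap Ap Bq)
  have hdisj : Disjoint (p.primeCompl : Set A) p'.asIdeal :=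
    Set.disjoint_left.mpr fun x hx hxp => hx (hp' hxp)
  let P : PrimeSpectrum Ap := ⟨p'.asIdeal.map (algebraMap A Ap),
    IsLocalization.isPrime_of_isPrime_disjoint p.primeCompl Ap _ p'.2 hdisj⟩
  obtain ⟨Q, hQ⟩ := FDescent.comap_surjective_of_flat_module (A := Ap) (B := Bq ⧸ I) N P
  let Q₁ := PrimeSpectrum.comap (Ideal.Quotient.mk I) Q
  let q' := PrimeSpectrum.comap (algebraMap B Bq) Q₁
  refine ⟨q', ?_, ?_, ?_⟩
  · rw [Module.support_eq_zeroLocus]
    intro b hb
    show algebraMap B Bq b ∈ Q₁.asIdeal
    refine Ideal.mem_comap.2 ?_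
    rw [Ideal.Quotient.eq_zero_iff_mem.2 (show algebraMap B Bq b ∈ I from Module.mem_annihilator.2 fun x => ?_)]
    · exact zero_mem _
    · rw [algebraMap_smul]
      induction x using TensorProduct.induction_on with
      | zero => rw [smul_zero]
      | tmul c m => rw [TensorProduct.smul_tmul', TensorProduct.smul_tmul, Module.mem_annihilator.1 hb m,
          TensorProduct.tmul_zero]
      | add x y hx hy => rw [smul_add, hx, hy, add_zero]
  · intro b hb
    by_contra hbq
    exact Q₁.2.ne_top (Ideal.eq_top_of_isUnit_mem _ hb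
      (IsLocalization.map_units Bq (⟨b, hbq⟩ : q.asIdeal.primeCompl)))
  · have h1 : p'.asIdeal = P.asIdeal.comap (algebraMap A Ap) :=
      (IsLocalization.comap_map_of_isPrime_disjoint p.primeCompl Ap p'.2 hdisj).symm
    refine PrimeSpectrum.ext ?_
    show (((Q.asIdeal.comap (Ideal.Quotient.mk I)).comap (algebraMap B Bq))).comap (algebraMap A B) = p'.asIdeal
    rw [h1, ← hQ]
    show _ = ((Q.asIdeal.comap (algebraMap Ap (Bq ⧸ I)))).comap (algebraMap A Ap)
    rw [Ideal.comap_comap, Ideal.comap_comap, Ideal.comap_comap]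
    refine congrArg (fun h => Ideal.comap h Q.asIdeal) ?_
    rw [← IsScalarTower.algebraMap_eq A B Bq, ← IsScalarTower.algebraMap_eq A Ap (Bq ⧸ I),
      IsScalarTower.algebraMap_eq A Bq (Bq ⧸ I)]
    rfl

/-- The support of a flat finitely presented module maps openly to the base. -/
theorem isOpen_image_inter_support [Algebra.FinitePresentation A B] [Module.FinitePresentation B M]
    [Module.Flat A M] {W : Set (PrimeSpectrum B)} (hW : IsOpen W) :
    IsOpen (PrimeSpectrum.comap (algebraMap A B) '' (W ∩ Module.support B M)) := by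
  rw [isOpen_iff_forall_mem_open]
  rintro _ ⟨q, ⟨hqW, hqM⟩, rfl⟩
  obtain ⟨_, ⟨g, rfl⟩, hqg, hgW⟩ := PrimeSpectrum.isTopologicalBasis_basic_opens.exists_subset_of_mem_open hqW hW
  refine ⟨_, Set.image_mono (Set.inter_subset_inter_left _ hgW), ?_, q, ⟨hqg, hqM⟩, rfl⟩
  obtain ⟨hcl, hc⟩ := S6285.result B M
  have hsupp : IsConstructible (Module.support B M) :=
    (hc.isConstructible hcl.isOpen_compl).of_compl
  refine isOpen_of_stableUnderGeneralization_of_isConstructible ?_
    (isConstructible_comap_image (RingHom.finitePresentation_algebraMap.mpr ‹_›)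
      (isConstructible_basicOpen.inter hsupp))
  rintro _ p' hp ⟨q, ⟨hqg, hqM⟩, rfl⟩
  obtain ⟨q', hq'M, hle, heq⟩ := exists_mem_support_comap_eq M q hqM p' ((le_iff_specializes _ _).2 hp)
  exact ⟨q', ⟨((le_iff_specializes _ _).1 hle).mem_open (PrimeSpectrum.basicOpen g).2 hqg, hq'M⟩, heq⟩

end Groth.Agent.Codepth5
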