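import Groth.Agent.Codepth5.AssScheme
import Groth.Agent.Codepth5.SuppOpen

/-!
# Associated points and components of the supports of the fibres of a proper morphism
-/

set_option autoImplicit false
set_option linter.style.haveILetI false
set_option backward.isDefEq.respectTransparency false
set_option backward.isDefEq.respectTransparency.types false

universe u

open AlgebraicGeometry CategoryTheory IsLocalRing TensorProduct

namespace Groth.Agent.Codepth5

variable {X Y : Scheme.{u}} (f : X ⟶ Y) [LocallyOfFinitePresentation f] (F : X.Modules)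

omit [LocallyOfFinitePresentation f] in
/-- Induction over the points of the fibres. -/
theorem fibre_induction (P : ∀ y : Y, ↥(f.fiber y) → Prop) (h : ∀ x : X, P (f.base x) (f.asFiber x))
    (y : Y) (w : ↥(f.fiber y)) : P y w := by
  have key : ∀ z, f.fiberι y w = z → P y w := by
    intro z hz
    obtain rfl : f z = y := hz ▸ FlatDvr.fiberι_apply_eq f w
    obtain rfl : f.asFiber z = w :=
      (f.fiberι (f z)).isEmbedding.injective ((f.fiberι_asFiber z).trans hz.symm)
    exact h z
  exact key _ rfl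

omit [LocallyOfFinitePresentation f] in
theorem isOpen_base [IsProper f] {P : X → Prop} (hP : IsOpen {x | P x}) :
    IsOpen {y : Y | ∀ x, f.base x = y → P x} := by
  convert (f.isClosedMap _ hP.isClosed_compl).isOpen_compl using 1
  ext y
  simp only [Set.mem_ofPred_eq, Set.mem_compl_iff, Set.mem_image]
  exact ⟨fun h ⟨x, hx, hxy⟩ => hx (h x hxy), fun h x hxy => by_contra fun hx => h ⟨x, hx, hxy⟩⟩

/-- The support of the fibre. -/
noncomputable abbrev fibSupp (y : Y) : Set ↥(f.fiber y) := {z | Nontrivial ((fibMod f F y).presheaf.stalk z)}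

omit [LocallyOfFinitePresentation f] in
theorem mem_fibSupp_iff (hF : CohB1.IsFP F) {y : Y} (w : ↥(f.fiber y)) :
    w ∈ fibSupp f F y ↔ f.fiberι y w ∈ CohB1.support F := by
  obtain ⟨σ, hσ, e, he⟩ := fibre_semi f F (f.fiberι y w) y w rfl
  haveI : Module.Finite (X.presheaf.stalk (f.fiberι y w)) (F.presheaf.stalk (f.fiberι y w)) :=
    QCoh.finite_stalk_of_isFT (QCoh.isQCoh_of_isFP hF) (QCoh.isFT_of_isFP hF) _
  show Nontrivial _ ↔ ¬ Subsingleton (F.presheaf.stalk (f.fiberι y w))
  rw [← e.toEquiv.nontrivial_congr, not_subsingleton_iff_nontrivial, Submodule.Quotient.nontrivial_iff]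
  refine ⟨fun h => ?_, fun h htop => ?_⟩
  · rcases subsingleton_or_nontrivial (F.presheaf.stalk (f.fiberι y w)) with hs | hs
    · exact absurd (Subsingleton.elim _ _) h
    · exact hs
  · exact (top_ne_bot : (⊤ : Submodule (X.presheaf.stalk (f.fiberι y w)) (F.presheaf.stalk (f.fiberι y w))) ≠ ⊥)
      (Submodule.eq_bot_of_le_smul_of_le_jacobson_bot _ _ Module.Finite.fg_top htop.ge
        ((IsLocalRing.le_maximalIdeal (IsLocalRing.map_maximalIdeal_lt_top (f.stalkMap _).hom).ne).trans
          (IsLocalRing.jacobson_eq_maximalIdeal ⊥ bot_ne_top).ge))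

omit [LocallyOfFinitePresentation f] in
theorem isClosed_fibSupp (hF : CohB1.IsFP F) (y : Y) : IsClosed (fibSupp f F y) := by
  convert (QCoh.isClosed_support_of_isFT (QCoh.isQCoh_of_isFP hF) (QCoh.isFT_of_isFP hF)).preimage
    (f.fiberι y).continuous using 1
  ext w
  exact mem_fibSupp_iff f F hF w

omit [LocallyOfFinitePresentation f] in
theorem mem_support_sections_iff (hF : CohB1.IsFP F) {U : X.Opens} (hU : IsAffineOpen U) {x : X} (hx : x ∈ U) :
    hU.primeIdealOf ⟨x, hx⟩ ∈ Module.support Γ(X, U) Γ(F, U) ↔ x ∈ CohB1.support F := by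
  letI := QCoh.stalkModule F hx
  haveI := QCoh.isLocalizedModule_germLin (QCoh.isQCoh_of_isFP hF) hU hx
  rw [Module.mem_support_iff,
    (IsLocalizedModule.iso (hU.primeIdealOf ⟨x, hx⟩).asIdeal.primeCompl (QCoh.germLin F hx)).toEquiv.nontrivial_congr]
  exact not_subsingleton_iff_nontrivial.symm

omit [LocallyOfFinitePresentation f] in
theorem ass_subset_fibSupp {y : Y} : AssSch.Ass (fibMod f F y) ⊆ fibSupp f F y := by
  intro w hw
  show Nontrivial _
  rcases subsingleton_or_nontrivial ((fibMod f F y).presheaf.stalk w) with hs | hs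
  · have h : maximalIdeal ((f.fiber y).presheaf.stalk w) ∈
        associatedPrimes ((f.fiber y).presheaf.stalk w) ((fibMod f F y).presheaf.stalk w) := hw
    rw [associatedPrimes.eq_empty_of_subsingleton] at h
    exact h.elim
  · exact hs

/-- Every point of the support is a specialization of an associated point. -/
theorem exists_ass_specializes (hF : CohB1.IsFP F) (hflat : FlatMod.IsFlatOver f F) {y : Y} (w : ↥(f.fiber y))
    (hw : w ∈ fibSupp f F y) : ∃ w' ∈ AssSch.Ass (fibMod f F y), w' ⤳ w := by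
  revert hw
  refine fibre_induction f (fun y w => w ∈ fibSupp f F y → ∃ w' ∈ AssSch.Ass (fibMod f F y), w' ⤳ w)
    (fun x hx => ?_) y w
  rw [mem_fibSupp_iff f F hF, f.fiberι_asFiber] at hx
  obtain ⟨V, hV, hxV, -⟩ := exists_isAffineOpen_mem_and_subset (U := (⊤ : Y.Opens)) (x := f x) trivial
  obtain ⟨U, hU, hxU, hle⟩ := exists_isAffineOpen_mem_and_subset (U := f ⁻¹ᵁ V) (x := x) hxV
  letI : Algebra Γ(Y, V) Γ(X, U) := (f.appLE V U hle).hom.toAlgebra
  haveI : Algebra.FinitePresentation Γ(Y, V) Γ(X, U) := f.finitePresentation_appLE hV hU hle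
  letI : Module Γ(Y, V) Γ(F, U) := Module.compHom _ (f.appLE V U hle).hom
  haveI : IsScalarTower Γ(Y, V) Γ(X, U) Γ(F, U) := IsScalarTower.of_algebraMap_smul fun _ _ => rfl
  haveI := QCoh.finitePresentation_of_isFP hF hU
  haveI : Module.Flat Γ(Y, V) Γ(F, U) :=
    (QCoh.flat_appLE_iff f (QCoh.isQCoh_of_isFP hF) hU hV hle).2 fun z _ => hflat z
  obtain ⟨t', ht', hfib, hta⟩ := exists_assAt_le' (A := Γ(Y, V)) Γ(F, U) _
    ((mem_support_sections_iff F hF hU hxU).2 hx)
  obtain ⟨w', hw', hwt⟩ := exists_fibre_point f hU hV hle hxU t' hfib ht'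
  refine ⟨w', (mem_ass_iff_assAt f F hU hV hle hF w' (fiberι_mem f hxU hw') rfl).2 ?_, hw'⟩
  subst hwt
  exact hta

omit [LocallyOfFinitePresentation f] in
/-- A point maximal among the points of the support. -/
def IsMaxSupp {y : Y} (w : ↥(f.fiber y)) : Prop :=
  w ∈ fibSupp f F y ∧ ∀ w' ∈ fibSupp f F y, w' ⤳ w → w' = w

theorem IsMaxSupp.mem_ass (hF : CohB1.IsFP F) (hflat : FlatMod.IsFlatOver f F) {y : Y} {w : ↥(f.fiber y)}
    (hw : IsMaxSupp f F w) : w ∈ AssSch.Ass (fibMod f F y) := by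
  obtain ⟨w', hw', hspec⟩ := exists_ass_specializes f F hF hflat w hw.1
  exact hw.2 w' (ass_subset_fibSupp f F hw') hspec ▸ hw'

omit [LocallyOfFinitePresentation f] in
/-- The dimensions of the components of the support are those of the closures of its maximal points. -/
theorem image_dim_components (hF : CohB1.IsFP F) (y : Y) :
    (fun Z : Set ↥(fibSupp f F y) => topologicalKrullDim ↥Z) '' irreducibleComponents ↥(fibSupp f F y) =
      {n | ∃ w, IsMaxSupp f F w ∧ topologicalKrullDim ↥(closure ({w} : Set ↥(f.fiber y))) = n} := by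
  have hS := isClosed_fibSupp f F hF y
  haveI : QuasiSober ↥(fibSupp f F y) := hS.isClosedEmbedding_subtypeVal.quasiSober
  have hdim : ∀ g : ↥(fibSupp f F y), topologicalKrullDim ↥(closure ({g} : Set ↥(fibSupp f F y))) =
      topologicalKrullDim ↥(closure ({g.1} : Set ↥(f.fiber y))) := fun g => by
    have h := hS.isClosedEmbedding_subtypeVal.closure_image_eq ({g} : Set ↥(fibSupp f F y))
    rw [Set.image_singleton] at h
    rw [h]
    exact IsHomeomorph.topologicalKrullDim_eq _ (Topology.IsEmbedding.subtypeVal.homeomorphImage _).isHomeomorph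
  ext n
  constructor
  · rintro ⟨Z, hZ, rfl⟩
    obtain ⟨g, hg⟩ := QuasiSober.sober hZ.1 (isClosed_of_mem_irreducibleComponents Z hZ)
    refine ⟨g.1, ⟨g.2, fun w' hw' hspec => ?_⟩, ?_⟩
    · let g' : ↥(fibSupp f F y) := ⟨w', hw'⟩
      have h1 : g' ⤳ g := (subtype_specializes_iff _ _).2 hspec
      have h2 : closure ({g'} : Set ↥(fibSupp f F y)) ≤ Z := hZ.2 isIrreducible_singleton.closure (by
        rw [← hg.def]
        exact closure_minimal (Set.singleton_subset_iff.2 h1.mem_closure) isClosed_closure)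
      have h3 : g ⤳ g' := specializes_iff_mem_closure.2 (hg.def.symm ▸ h2 (subset_closure rfl))
      exact congrArg Subtype.val (h1.antisymm h3).eq
    · rw [← hdim g, hg.def]
  · rintro ⟨w, ⟨hw, hmax⟩, rfl⟩
    refine ⟨closure {⟨w, hw⟩}, ⟨isIrreducible_singleton.closure, fun Z hZ hle => ?_⟩, hdim ⟨w, hw⟩⟩
    obtain ⟨g, hg⟩ := QuasiSober.sober hZ.closure isClosed_closure
    have h1 : g ⤳ (⟨w, hw⟩ : ↥(fibSupp f F y)) := specializes_iff_mem_closure.2
      (hg.def.symm ▸ subset_closure (hle (subset_closure rfl)))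
    obtain rfl : g = ⟨w, hw⟩ := Subtype.ext (hmax g.1 g.2 ((subtype_specializes_iff _ _).1 h1))
    exact subset_closure.trans hg.def.ge

theorem dim_closure_eq_deg {y : Y} (w : ↥(f.fiber y)) :
    topologicalKrullDim ↥(closure ({w} : Set ↥(f.fiber y))) =
      ((VarDim.deg (f.fiberToSpecResidueField y) w : ℕ∞) : WithBot ℕ∞) :=
  VarDim.topologicalKrullDim_closure_singleton (k := Y.residueField y) (f.fiberToSpecResidueField y) w

/-- The dimension of the support is attained at a maximal point. -/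
theorem exists_isMaxSupp_dim (hF : CohB1.IsFP F) {y : Y} {n : ℕ}
    (h : topologicalKrullDim ↥(fibSupp f F y) = (n : WithBot ℕ∞)) :
    ∃ w : ↥(f.fiber y), IsMaxSupp f F w ∧ topologicalKrullDim ↥(closure ({w} : Set ↥(f.fiber y))) = (n : WithBot ℕ∞) := by
  rw [VarDim.topologicalKrullDim_set_eq_iSup_deg (k := Y.residueField y) (f.fiberToSpecResidueField y)
    (isClosed_fibSupp f F hF y)] at h
  have hle : ∀ z : ↥(fibSupp f F y), VarDim.deg (f.fiberToSpecResidueField y) z.1 ≤ n := fun z => by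
    have := (le_iSup (fun z : ↥(fibSupp f F y) =>
      ((VarDim.deg (f.fiberToSpecResidueField y) z.1 : ℕ∞) : WithBot ℕ∞)) z).trans h.le
    exact_mod_cast this
  obtain ⟨z, hz⟩ : ∃ z : ↥(fibSupp f F y), VarDim.deg (f.fiberToSpecResidueField y) z.1 = n := by
    by_contra hc
    push Not at hc
    rcases isEmpty_or_nonempty ↥(fibSupp f F y) with hemp | hne
    · rw [iSup_of_empty] at h
      exact WithBot.natCast_ne_bot n h.symm
    rcases Nat.eq_zero_or_pos n with rfl | hpos
    · exact hc hne.some (Nat.le_zero.1 (hle _))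
    have : (⨆ z : ↥(fibSupp f F y), ((VarDim.deg (f.fiberToSpecResidueField y) z.1 : ℕ∞) : WithBot ℕ∞)) ≤
        ((n - 1 : ℕ) : WithBot ℕ∞) := iSup_le fun z => by
      have h1 := hle z
      have h2 := hc z
      exact WithBot.coe_le_coe.2 (Nat.cast_le.2 (show VarDim.deg (f.fiberToSpecResidueField y) z.1 ≤ n - 1 by omega))
    rw [h] at this
    have : n ≤ n - 1 := by exact_mod_cast this
    omega
  refine ⟨z.1, ⟨z.2, fun w' hw' hspec => ?_⟩, by rw [dim_closure_eq_deg, hz]; rfl⟩
  exact VarDim.eq_of_specializes_of_deg_le (f.fiberToSpecResidueField y) hspec ((hle ⟨w', hw'⟩).trans_eq hz.symm)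

omit [LocallyOfFinitePresentation f] in
/-- The support of the fibre has finite dimension. -/
theorem exists_dim_fibSupp_le [IsProper f] (y : Y) (hne : (fibSupp f F y).Nonempty) (hF : CohB1.IsFP F) :
    ∃ n : ℕ, topologicalKrullDim ↥(fibSupp f F y) = (n : WithBot ℕ∞) := by
  haveI : Nonempty ↥(f.fiber y) := ⟨hne.some⟩
  obtain ⟨η, -, hη, -⟩ := VarDim.exists_deg_eq_topologicalKrullDim (k := Y.residueField y) (f.fiberToSpecResidueField y)
  have hle : topologicalKrullDim ↥(fibSupp f F y) ≤
      ((VarDim.deg (f.fiberToSpecResidueField y) η : ℕ) : WithBot ℕ∞) := by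
    rw [VarDim.topologicalKrullDim_set_eq_iSup_deg (k := Y.residueField y) (f.fiberToSpecResidueField y)
      (isClosed_fibSupp f F hF y)]
    exact iSup_le fun z => by exact_mod_cast hη z.1
  have hge : topologicalKrullDim ↥(fibSupp f F y) ≠ ⊥ := by
    rw [VarDim.topologicalKrullDim_set_eq_iSup_deg (k := Y.residueField y) (f.fiberToSpecResidueField y)
      (isClosed_fibSupp f F hF y)]
    exact ne_bot_of_le_ne_bot WithBot.coe_ne_bot (le_iSup_of_le ⟨hne.some, hne.some_mem⟩ le_rfl)
  generalize topologicalKrullDim ↥(fibSupp f F y) = d at hle hge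
  induction d with
  | bot => exact absurd rfl hge
  | coe d =>
    induction d using ENat.recTopCoe with
    | top =>
      have : (⊤ : ℕ∞) ≤ (VarDim.deg (f.fiberToSpecResidueField y) η : ℕ∞) := by exact_mod_cast hle
      simp at this
    | coe d => exact ⟨d, rfl⟩

/-- The image of the support over an open set is open. -/
theorem isOpen_image_support (hF : CohB1.IsFP F) (hflat : FlatMod.IsFlatOver f F) {W : Set X} (hW : IsOpen W) :
    IsOpen (f.base '' (W ∩ CohB1.support F)) := by
  rw [isOpen_iff_forall_mem_open]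
  rintro _ ⟨x, ⟨hxW, hxF⟩, rfl⟩
  obtain ⟨V, hV, hxV, -⟩ := exists_isAffineOpen_mem_and_subset (U := (⊤ : Y.Opens)) (x := f x) trivial
  obtain ⟨U, hU, hxU, hle⟩ := exists_isAffineOpen_mem_and_subset (U := f ⁻¹ᵁ V) (x := x) hxV
  letI : Algebra Γ(Y, V) Γ(X, U) := (f.appLE V U hle).hom.toAlgebra
  haveI : Algebra.FinitePresentation Γ(Y, V) Γ(X, U) := f.finitePresentation_appLE hV hU hle
  letI : Module Γ(Y, V) Γ(F, U) := Module.compHom _ (f.appLE V U hle).hom
  haveI : IsScalarTower Γ(Y, V) Γ(X, U) Γ(F, U) := IsScalarTower.of_algebraMap_smul fun _ _ => rfl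
  haveI := QCoh.finitePresentation_of_isFP hF hU
  haveI : Module.Flat Γ(Y, V) Γ(F, U) :=
    (QCoh.flat_appLE_iff f (QCoh.isQCoh_of_isFP hF) hU hV hle).2 fun z _ => hflat z
  refine ⟨hV.fromSpec '' (PrimeSpectrum.comap (algebraMap Γ(Y, V) Γ(X, U)) ''
    ((hU.fromSpec ⁻¹' W) ∩ Module.support Γ(X, U) Γ(F, U))), ?_,
    hV.fromSpec.isOpenEmbedding.isOpenMap _
      (isOpen_image_inter_support Γ(F, U) (hW.preimage hU.fromSpec.continuous)),
    hV.primeIdealOf ⟨f x, hxV⟩, ⟨hU.primeIdealOf ⟨x, hxU⟩,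
      ⟨by rw [Set.mem_preimage, hU.fromSpec_primeIdealOf]; exact hxW,
        (mem_support_sections_iff F hF hU hxU).2 hxF⟩,
      comap_primeIdealOf f hU hV hle hxU⟩, hV.fromSpec_primeIdealOf _⟩
  rintro _ ⟨_, ⟨q, ⟨hqW, hqF⟩, rfl⟩, rfl⟩
  have hz : hU.fromSpec q ∈ U := (Set.ext_iff.1 hU.range_fromSpec _).1 (Set.mem_range_self q)
  have he : hU.primeIdealOf ⟨hU.fromSpec q, hz⟩ = q :=
    hU.fromSpec.isOpenEmbedding.injective (hU.fromSpec_primeIdealOf ⟨_, hz⟩)
  refine ⟨hU.fromSpec q, ⟨hqW, (mem_support_sections_iff F hF hU hz).1 (he.symm ▸ hqF)⟩, ?_⟩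
  rw [← he, comap_primeIdealOf f hU hV hle hz, hV.fromSpec_primeIdealOf, hU.fromSpec_primeIdealOf]

section Base

variable [IsProper f]

/-- The base locus of the dimensions of all associated points. -/
theorem isOpen_base_assDims (hF : CohB1.IsFP F) (hflat : FlatMod.IsFlatOver f F) (S : Set ℕ) :
    IsOpen {y : Y | ∀ w ∈ AssSch.Ass (fibMod f F y), ∃ n ∈ S,
      topologicalKrullDim ↥(closure ({w} : Set ↥(f.fiber y))) = (n : WithBot ℕ∞)} := by
  convert isOpen_base f (isOpen_assDimsAt f F hF hflat S) using 1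
  ext y
  refine ⟨fun h x hx => ?_, fun h w hw => ?_⟩
  · subst hx
    exact fun w hw _ => h w hw
  · revert hw
    refine fibre_induction f (fun y w => (∀ x, f.base x = y → AssDimsAt f F S x) →
      w ∈ AssSch.Ass (fibMod f F y) → ∃ n ∈ S,
        topologicalKrullDim ↥(closure ({w} : Set ↥(f.fiber y))) = (n : WithBot ℕ∞)) (fun x h hx => ?_) y w h
    exact h x rfl _ hx (specializes_refl _)

theorem isOpen_base_noEmbedded (hF : CohB1.IsFP F) (hflat : FlatMod.IsFlatOver f F) :
    IsOpen {y : Y | AssSch.NoEmbedded (fibMod f F y)} := by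
  convert isOpen_base f (isOpen_noEmbAt f F hF hflat) using 1
  ext y
  refine ⟨fun h x hx => ?_, fun h w hw w' hw' hspec => ?_⟩
  · subst hx
    exact fun w hw _ w' hw' hspec => (h w hw w' hw' hspec).symm
  · revert hspec hw' w' hw
    refine fibre_induction f (fun y w => (∀ x, f.base x = y → NoEmbAt f F x) →
      w ∈ AssSch.Ass (fibMod f F y) → ∀ w' ∈ AssSch.Ass (fibMod f F y), w' ⤳ w → w = w') (fun x h hx => ?_) y w h
    exact fun w' hw' hspec => (h x rfl _ hx (specializes_refl _) w' hw' hspec).symm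

theorem isOpen_base_component_dim (hF : CohB1.IsFP F) (hflat : FlatMod.IsFlatOver f F) (n : ℕ) :
    IsOpen {y : Y | ∃ w : ↥(f.fiber y), IsMaxSupp f F w ∧
      topologicalKrullDim ↥(closure ({w} : Set ↥(f.fiber y))) = (n : WithBot ℕ∞)} := by
  convert isOpen_image_support f F hF hflat (isOpen_assDimsAt f F hF hflat {n}) using 1
  ext y
  constructor
  · rintro ⟨w, hw, hd⟩
    revert hw hd
    refine fibre_induction f (fun y w => IsMaxSupp f F w →
      topologicalKrullDim ↥(closure ({w} : Set ↥(f.fiber y))) = (n : WithBot ℕ∞) →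
        y ∈ f.base '' ({x | AssDimsAt f F {n} x} ∩ CohB1.support F)) (fun x hw hd => ?_) y w
    refine ⟨x, ⟨fun w' hw' hspec => ⟨n, rfl, ?_⟩, ?_⟩, rfl⟩
    · rw [hw.2 w' (ass_subset_fibSupp f F hw') hspec]
      exact hd
    · have := (mem_fibSupp_iff f F hF _).1 hw.1
      rwa [f.fiberι_asFiber] at this
  · rintro ⟨x, ⟨hx, hxF⟩, rfl⟩
    have hxS : f.asFiber x ∈ fibSupp f F (f.base x) := by
      rw [mem_fibSupp_iff f F hF, f.fiberι_asFiber]
      exact hxF
    obtain ⟨η, ⟨hη, hηS⟩, hmax⟩ : ∃ η, (η ⤳ f.asFiber x ∧ η ∈ fibSupp f F (f.base x)) ∧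
        ∀ w' ∈ fibSupp f F (f.base x), w' ⤳ η → w' = η := by
      obtain ⟨η, hη⟩ := Set.Finite.exists_maximalFor (fun m => m)
        ((fun w => VarDim.deg (f.fiberToSpecResidueField (f.base x)) w) ''
          {w | w ⤳ f.asFiber x ∧ w ∈ fibSupp f F (f.base x)}) (by
            obtain ⟨z, -, hz, -⟩ := @VarDim.exists_deg_eq_topologicalKrullDim (Y.residueField (f.base x)) _
              (f.fiber (f.base x)) (f.fiberToSpecResidueField (f.base x)) _ _ ⟨f.asFiber x⟩
            exact (Set.finite_Iic (VarDim.deg (f.fiberToSpecResidueField (f.base x)) z)).subset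
              (Set.image_subset_iff.2 fun w _ => hz w))
        ⟨_, f.asFiber x, ⟨specializes_refl _, hxS⟩, rfl⟩
      obtain ⟨⟨η, hη', rfl⟩, hmax⟩ := hη
      refine ⟨η, hη', fun w' hw' hspec => VarDim.eq_of_specializes_of_deg_le (f.fiberToSpecResidueField (f.base x)) hspec ?_⟩
      by_contra hlt
      exact hlt (hmax ⟨w', ⟨hspec.trans hη'.1, hw'⟩, rfl⟩ (le_of_lt (not_le.1 hlt)))
    obtain ⟨_, rfl, hd⟩ := hx η (IsMaxSupp.mem_ass f F hF hflat ⟨hηS, hmax⟩) hη
    exact ⟨η, ⟨hηS, hmax⟩, hd⟩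

theorem isOpen_base_equidimSk (hF : CohB1.IsFP F) (hflat : FlatMod.IsFlatOver f F) (k : ℕ) (hk : 1 ≤ k) :
    IsOpen {y : Y | ∀ w : ↥(f.fiber y),
      EGA4.IsEquidimModule ((f.fiber y).presheaf.stalk w) ((fibMod f F y).presheaf.stalk w) ∧
        LocCoh.HasSk k ((f.fiber y).presheaf.stalk w) ((fibMod f F y).presheaf.stalk w)} := by
  convert isOpen_base f (isOpen_equidimSk f F hF hflat k hk) using 1
  ext y
  refine ⟨fun h x hx => ?_, fun h w => ?_⟩
  · subst hx
    exact h _
  · refine fibre_induction f (fun y w => (∀ x, f.base x = y →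
      EGA4.IsEquidimModule ((f.fiber (f.base x)).presheaf.stalk (f.asFiber x))
        ((fibMod f F (f.base x)).presheaf.stalk (f.asFiber x)) ∧
      LocCoh.HasSk k ((f.fiber (f.base x)).presheaf.stalk (f.asFiber x))
        ((fibMod f F (f.base x)).presheaf.stalk (f.asFiber x))) →
      EGA4.IsEquidimModule ((f.fiber y).presheaf.stalk w) ((fibMod f F y).presheaf.stalk w) ∧
        LocCoh.HasSk k ((f.fiber y).presheaf.stalk w) ((fibMod f F y).presheaf.stalk w)) (fun x h => h x rfl) y w h

/-- The dimension of the supports of the fibres is locally constant. -/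
theorem isLocallyConstant_dim_fibSupp (hF : CohB1.IsFP F) (hflat : FlatMod.IsFlatOver f F) :
    IsLocallyConstant fun y : Y => topologicalKrullDim ↥(fibSupp f F y) := by
  rw [IsLocallyConstant.iff_exists_open]
  intro y
  rcases (fibSupp f F y).eq_empty_or_nonempty with he | hne
  · refine ⟨_, isOpen_base_assDims f F hF hflat ∅,
      fun w hw => absurd (ass_subset_fibSupp f F hw) (by rw [he]; exact id), fun y' hy' => ?_⟩
    have he' : fibSupp f F y' = ∅ := by
      by_contra hne
      obtain ⟨z, hz⟩ := Set.nonempty_iff_ne_empty.2 hne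
      obtain ⟨w, hw, -⟩ := exists_ass_specializes f F hF hflat z hz
      obtain ⟨n, hn, -⟩ := hy' w hw
      exact hn.elim
    show topologicalKrullDim _ = topologicalKrullDim _
    rw [VarDim.topologicalKrullDim_set_eq_iSup_deg (k := Y.residueField y') (f.fiberToSpecResidueField y')
        (isClosed_fibSupp f F hF y'),
      VarDim.topologicalKrullDim_set_eq_iSup_deg (k := Y.residueField y) (f.fiberToSpecResidueField y)
        (isClosed_fibSupp f F hF y)]
    haveI := Set.isEmpty_coe_sort.2 he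
    haveI := Set.isEmpty_coe_sort.2 he'
    rw [iSup_of_empty, iSup_of_empty]
  obtain ⟨n, hn⟩ := exists_dim_fibSupp_le f F y hne hF
  refine ⟨_, (isOpen_base_assDims f F hF hflat (Set.Iic n)).inter (isOpen_base_component_dim f F hF hflat n),
    ⟨fun w hw => ?_, exists_isMaxSupp_dim f F hF hn⟩, fun y' ⟨h1, h2⟩ => ?_⟩
  · refine ⟨VarDim.deg (f.fiberToSpecResidueField y) w, ?_, dim_closure_eq_deg f w⟩
    have := hn.ge
    rw [VarDim.topologicalKrullDim_set_eq_iSup_deg (k := Y.residueField y) (f.fiberToSpecResidueField y)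
      (isClosed_fibSupp f F hF y)] at hn
    have h := (le_iSup (fun z : ↥(fibSupp f F y) =>
      ((VarDim.deg (f.fiberToSpecResidueField y) z.1 : ℕ∞) : WithBot ℕ∞)) ⟨w, ass_subset_fibSupp f F hw⟩).trans hn.le
    exact_mod_cast h
  · show topologicalKrullDim _ = topologicalKrullDim _
    rw [hn, VarDim.topologicalKrullDim_set_eq_iSup_deg (k := Y.residueField y') (f.fiberToSpecResidueField y')
      (isClosed_fibSupp f F hF y')]
    refine le_antisymm (iSup_le fun z => ?_) ?_
    · obtain ⟨w, hw, hspec⟩ := exists_ass_specializes f F hF hflat z.1 z.2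
      obtain ⟨m, hm, hd⟩ := h1 w hw
      rw [dim_closure_eq_deg] at hd
      have hd' : VarDim.deg (f.fiberToSpecResidueField y') w = m := by exact_mod_cast hd
      have := VarDim.deg_le_of_specializes (f.fiberToSpecResidueField y') hspec
      have hmn : m ≤ n := hm
      exact_mod_cast (show VarDim.deg (f.fiberToSpecResidueField y') z.1 ≤ n by omega)
    · obtain ⟨w, hw, hd⟩ := h2
      rw [dim_closure_eq_deg] at hd
      exact le_iSup_of_le ⟨w, hw.1⟩ hd.ge

end Base

end Groth.Agent.Codepth5
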