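import Groth.Agent.Codepth5.ConsAff
import Groth.Agent.Codepth5.AssBase
import Groth.Prelude.Def_CInt

/-!
# Local constructibility of properties of the fibres of a module of finite presentation
-/

set_option autoImplicit false
set_option linter.style.haveILetI false
set_option backward.isDefEq.respectTransparency false
set_option backward.isDefEq.respectTransparency.types false

universe u

open AlgebraicGeometry CategoryTheory TopologicalSpace Topology

namespace Groth.Agent.Codepth5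

open FibDim (fib)

section Top

variable {T : Type u} [TopologicalSpace T]

theorem isLC_compl {E : Set T} (h : IsLocallyConstructible E) : IsLocallyConstructible Eᶜ := fun x => by
  obtain ⟨U, hU, hUo, hc⟩ := h x
  exact ⟨U, hU, hUo, by rw [Set.preimage_compl]; exact hc.compl⟩

theorem isLC_biInter {ι : Type*} (s : Finset ι) (E : ι → Set T) (h : ∀ i ∈ s, IsLocallyConstructible (E i)) :
    IsLocallyConstructible (⋂ i ∈ s, E i) := by
  classical
  induction s using Finset.induction_on with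
  | empty =>
    simp only [Finset.notMem_empty, Set.iInter_of_empty, Set.iInter_univ]
    exact fun x => ⟨Set.univ, Filter.univ_mem, isOpen_univ, by rw [Set.preimage_univ]; exact IsConstructible.univ⟩
  | insert i s hi ih =>
    rw [Finset.set_biInter_insert]
    exact (h i (Finset.mem_insert_self i s)).inter (ih fun j hj => h j (Finset.mem_insert_of_mem hj))

end Top

theorem enat_eq_iff (v : ℕ∞) (n : ℕ) : v = (n : ℕ∞) ↔ (n : ℕ∞) ≤ v ∧ ¬ ((n + 1 : ℕ) : ℕ∞) ≤ v := by
  induction v using ENat.recTopCoe with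
  | top => simp
  | coe v =>
    simp only [Nat.cast_inj, Nat.cast_le]
    omega

variable {X Y : Scheme.{u}} (f : X ⟶ Y) [LocallyOfFinitePresentation f] (F : X.Modules)

omit [LocallyOfFinitePresentation f] in
/-- A set which is constructible on affine charts is locally constructible. -/
theorem isLC_of_charts (P : X → Prop)
    (h : ∀ (U : X.Opens) (hU : IsAffineOpen U) (V : Y.Opens) (_ : IsAffineOpen V) (_ : U ≤ f ⁻¹ᵁ V),
      ∃ S : Set (PrimeSpectrum Γ(X, U)), IsConstructible S ∧ ∀ z (hz : z ∈ U), P z ↔ hU.primeIdealOf ⟨z, hz⟩ ∈ S) :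
    IsLocallyConstructible {x | P x} := by
  intro x
  obtain ⟨V, hV, hxV, -⟩ := exists_isAffineOpen_mem_and_subset (U := (⊤ : Y.Opens)) (x := f x) trivial
  obtain ⟨U, hU, hxU, hUV⟩ := exists_isAffineOpen_mem_and_subset (U := f ⁻¹ᵁ V) (x := x) hxV
  obtain ⟨S, hS, hiff⟩ := h U hU V hV hUV
  refine ⟨U, U.2.mem_nhds hxU, U.2, ?_⟩
  have h1 : IsConstructible (hU.isoSpec.hom ⁻¹' S) :=
    hS.preimage_of_isOpenEmbedding hU.isoSpec.hom.isOpenEmbedding
  have he : (Subtype.val ⁻¹' {x | P x} : Set ↥U) = hU.isoSpec.hom ⁻¹' S := Set.ext fun z => hiff z.1 z.2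
  show IsConstructible (Subtype.val ⁻¹' {x | P x} : Set ↥U)
  rw [he]
  exact h1

/-- The support in the fibre has dimension at most `n` near `x`. -/
def DimSuppAt (n : ℕ) (x : X) : Prop :=
  ∀ w ∈ fibSupp f F (f.base x), w ⤳ f.asFiber x →
    topologicalKrullDim ↥(closure ({w} : Set ↥(f.fiber (f.base x)))) ≤ (n : WithBot ℕ∞)

/-- The local dimension of the support in the fibre. -/
def DimSuppEq (n : ℕ) (x : X) : Prop :=
  DimSuppAt f F n x ∧ ∀ m < n, ¬ DimSuppAt f F m x

section Chart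

variable {U : X.Opens} (hU : IsAffineOpen U) {V : Y.Opens} (hV : IsAffineOpen V) (hle : U ≤ f ⁻¹ᵁ V)

include hV in
theorem dimSuppAt_iff (hF : CohB1.IsFP F) (n : ℕ) {x : X} (hx : x ∈ U) :
    letI := (f.appLE V U hle).hom.toAlgebra
    DimSuppAt f F n x ↔ DimLE Γ(Y, V) Γ(F, U) n (hU.primeIdealOf ⟨x, hx⟩) := by
  letI := (f.appLE V U hle).hom.toAlgebra
  constructor
  · intro h t ht htM
    obtain ⟨w, hw, hwt⟩ := exists_fibre_point f hU hV hle hx t.1 t.2 ht
    have hs : w ∈ fibSupp f F (f.base x) := by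
      rw [mem_fibSupp_iff f F hF, ← mem_support_sections_iff F hF hU (fiberι_mem f hx hw), hwt]
      exact htM
    have hd := h w hs hw
    rw [dim_closure_chart f hU hV hle hx hw] at hd
    rw [← (congrArg Order.coheight (Subtype.ext hwt : (⟨_, (mem_fib_of_specializes f hU hV hle hx hw).1⟩ :
      ↥(fib (B := Γ(X, U)) (PrimeSpectrum.comap (algebraMap Γ(Y, V) Γ(X, U)) (hU.primeIdealOf ⟨x, hx⟩)))) = t))]
    exact_mod_cast hd
  · intro h w hws hw
    rw [dim_closure_chart f hU hV hle hx hw]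
    rw [mem_fibSupp_iff f F hF, ← mem_support_sections_iff F hF hU (fiberι_mem f hx hw)] at hws
    have := h ⟨_, (mem_fib_of_specializes f hU hV hle hx hw).1⟩ (mem_fib_of_specializes f hU hV hle hx hw).2 hws
    exact_mod_cast this

include hV in
theorem rect_chart (hF : CohB1.IsFP F) {x : X} (hx : x ∈ U) :
    letI := (f.appLE V U hle).hom.toAlgebra
    ((CInt.fiberDepth f F x : ℕ∞) : WithBot ℕ∞) +
        topologicalKrullDim ↥(closure ({f.asFiber x} : Set ↥(f.fiber (f.base x)))) =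
      (((dd (Localization.AtPrime (hU.primeIdealOf ⟨x, hx⟩).asIdeal)
          (EGA4.FibLocMod Γ(Y, V) Γ(X, U) (hU.primeIdealOf ⟨x, hx⟩).asIdeal Γ(F, U))).2 +
        Order.coheight (⟨hU.primeIdealOf ⟨x, hx⟩, rfl⟩ : ↥(fib (B := Γ(X, U))
          (PrimeSpectrum.comap (algebraMap Γ(Y, V) Γ(X, U)) (hU.primeIdealOf ⟨x, hx⟩)))) : ℕ∞) : WithBot ℕ∞) := by
  letI := (f.appLE V U hle).hom.toAlgebra
  have h := congrArg Prod.snd (semi_fibre_chart f F hU hV hle hF (f.asFiber x) hx (f.fiberι_asFiber x)).dd_eq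
  have hd : topologicalKrullDim ↥(closure ({f.asFiber x} : Set ↥(f.fiber (f.base x)))) =
      ((FibDim.rd f x : ℕ∞) : WithBot ℕ∞) :=
    VarDim.topologicalKrullDim_closure_singleton (k := Y.residueField (f x)) (f.fiberToSpecResidueField (f x))
      (f.asFiber x)
  have hc := coheight_eq_rd f hU hV hle (hU.primeIdealOf ⟨x, hx⟩)
  rw [hU.fromSpec_primeIdealOf ⟨x, hx⟩] at hc
  rw [hd, h, hc, WithBot.coe_add]
  rfl

end Chart

section Loci

variable (hF : CohB1.IsFP F)
include hF

theorem isLC_noEmbAt : IsLocallyConstructible {x : X | NoEmbAt f F x} := by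
  refine isLC_of_charts f _ fun U hU V hV hle => ?_
  letI : Algebra Γ(Y, V) Γ(X, U) := (f.appLE V U hle).hom.toAlgebra
  haveI : Algebra.FinitePresentation Γ(Y, V) Γ(X, U) := f.finitePresentation_appLE hV hU hle
  haveI := QCoh.finitePresentation_of_isFP hF hU
  exact ⟨_, isConstructible_noEmb (A := Γ(Y, V)) Γ(F, U), fun z hz => noEmbAt_iff f F hU hV hle hF hz⟩

theorem isLC_assDimsAt (S : Set ℕ) : IsLocallyConstructible {x : X | AssDimsAt f F S x} := by
  refine isLC_of_charts f _ fun U hU V hV hle => ?_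
  letI : Algebra Γ(Y, V) Γ(X, U) := (f.appLE V U hle).hom.toAlgebra
  haveI : Algebra.FinitePresentation Γ(Y, V) Γ(X, U) := f.finitePresentation_appLE hV hU hle
  haveI := QCoh.finitePresentation_of_isFP hF hU
  exact ⟨_, isConstructible_assDims (A := Γ(Y, V)) Γ(F, U) S, fun z hz => assDimsAt_iff f F hU hV hle hF S hz⟩

theorem isLC_dimSuppAt (n : ℕ) : IsLocallyConstructible {x : X | DimSuppAt f F n x} := by
  refine isLC_of_charts f _ fun U hU V hV hle => ?_
  letI : Algebra Γ(Y, V) Γ(X, U) := (f.appLE V U hle).hom.toAlgebra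
  haveI : Algebra.FinitePresentation Γ(Y, V) Γ(X, U) := f.finitePresentation_appLE hV hU hle
  haveI := QCoh.finitePresentation_of_isFP hF hU
  exact ⟨_, isConstructible_dimLE (A := Γ(Y, V)) Γ(F, U) n, fun z hz => dimSuppAt_iff f F hU hV hle hF n hz⟩

theorem isLC_fibSupp : IsLocallyConstructible {x : X | f.asFiber x ∈ fibSupp f F (f.base x)} := by
  refine isLC_of_charts f _ fun U hU V hV hle => ?_
  letI : Algebra Γ(Y, V) Γ(X, U) := (f.appLE V U hle).hom.toAlgebra
  haveI : Algebra.FinitePresentation Γ(Y, V) Γ(X, U) := f.finitePresentation_appLE hV hU hle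
  haveI := QCoh.finitePresentation_of_isFP hF hU
  refine ⟨_, isConstructible_support (A := Γ(Y, V)) Γ(F, U), fun z hz => ?_⟩
  rw [mem_fibSupp_iff f F hF, f.fiberι_asFiber, ← mem_support_sections_iff F hF hU hz]
  rfl

theorem isLC_dimSuppEq (n : ℕ) : IsLocallyConstructible {x : X | DimSuppEq f F n x} := by
  convert (isLC_dimSuppAt f F hF n).inter
    (isLC_biInter (Finset.range n) (fun m => {x : X | DimSuppAt f F m x}ᶜ)
      fun m _ => isLC_compl (isLC_dimSuppAt f F hF m)) using 1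
  ext x
  simp [DimSuppEq]

theorem exists_dimSuppAt (x : X) : ∃ n, DimSuppAt f F n x := by
  obtain ⟨V, hV, hxV, -⟩ := exists_isAffineOpen_mem_and_subset (U := (⊤ : Y.Opens)) (x := f x) trivial
  obtain ⟨U, hU, hxU, hle⟩ := exists_isAffineOpen_mem_and_subset (U := f ⁻¹ᵁ V) (x := x) hxV
  letI : Algebra Γ(Y, V) Γ(X, U) := (f.appLE V U hle).hom.toAlgebra
  haveI : Algebra.FinitePresentation Γ(Y, V) Γ(X, U) := f.finitePresentation_appLE hV hU hle
  haveI := QCoh.finitePresentation_of_isFP hF hU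
  obtain ⟨N, iB, iM, h1, h2, hf, hfp⟩ := exists_presentation' (A := Γ(Y, V)) (B := Γ(X, U)) Γ(F, U)
  refine ⟨N, (dimSuppAt_iff f F hU hV hle hF N hxU).2
    ((dimLE_iff_of_surjective (A := Γ(Y, V)) (P := MvPolynomial (Fin N) Γ(Y, V)) hf Γ(F, U) N _).1 ?_)⟩
  intro t _ _
  exact le_add_self.trans_eq (height_add_coheight_fib _ t)

theorem exists_dimSuppEq (x : X) : ∃ n, DimSuppEq f F n x := by
  classical
  exact ⟨_, Nat.find_spec (exists_dimSuppAt f F hF x), fun m hm => Nat.find_min (exists_dimSuppAt f F hF x) hm⟩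

omit hF [LocallyOfFinitePresentation f] in
theorem DimSuppEq.unique {x : X} {m n : ℕ} (hm : DimSuppEq f F m x) (hn : DimSuppEq f F n x) : m = n := by
  by_contra h
  rcases lt_or_gt_of_ne h with h | h
  · exact hn.2 m h hm.1
  · exact hm.2 n h hn.1

omit hF in
theorem exists_dim_nat {y : Y} (w : ↥(f.fiber y)) :
    ∃ n : ℕ, topologicalKrullDim ↥(closure ({w} : Set ↥(f.fiber y))) = (n : WithBot ℕ∞) :=
  ⟨_, dim_closure_eq_deg f w⟩

omit hF in
/-- A maximal point of the support is where the local dimension is that of its closure. -/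
theorem IsMaxSupp.exists_dimSuppEq {y : Y} {w : ↥(f.fiber y)} (hw : IsMaxSupp f F w) {n : ℕ}
    (hd : topologicalKrullDim ↥(closure ({w} : Set ↥(f.fiber y))) = (n : WithBot ℕ∞)) :
    ∃ x, f.base x = y ∧ f.asFiber x ∈ fibSupp f F (f.base x) ∧ DimSuppEq f F n x := by
  refine fibre_induction f (fun y w => IsMaxSupp f F w →
    topologicalKrullDim ↥(closure ({w} : Set ↥(f.fiber y))) = (n : WithBot ℕ∞) →
      ∃ x, f.base x = y ∧ f.asFiber x ∈ fibSupp f F (f.base x) ∧ DimSuppEq f F n x) (fun x hmax hdim => ?_) _ _ hw hd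
  refine ⟨x, rfl, hmax.1, fun w' hw' hspec => ?_, fun m hm h => ?_⟩
  · rw [hmax.2 w' hw' hspec]
    exact hdim.le
  · have := h _ hmax.1 specializes_rfl
    rw [hdim] at this
    exact absurd (show n ≤ m by exact_mod_cast this) (not_le.2 hm)

omit hF in
/-- The local dimension of the support is the dimension of the closure of a maximal point. -/
theorem DimSuppEq.exists_isMaxSupp {x : X} {n : ℕ} (hs : f.asFiber x ∈ fibSupp f F (f.base x))
    (h : DimSuppEq f F n x) :
    ∃ w : ↥(f.fiber (f.base x)), IsMaxSupp f F w ∧ w ⤳ f.asFiber x ∧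
      topologicalKrullDim ↥(closure ({w} : Set ↥(f.fiber (f.base x)))) = (n : WithBot ℕ∞) := by
  obtain ⟨w, hws, hw, hd⟩ : ∃ w ∈ fibSupp f F (f.base x), w ⤳ f.asFiber x ∧
      topologicalKrullDim ↥(closure ({w} : Set ↥(f.fiber (f.base x)))) = (n : WithBot ℕ∞) := by
    rcases Nat.eq_zero_or_pos n with rfl | hpos
    · refine ⟨_, hs, specializes_rfl, ?_⟩
      obtain ⟨k, hk⟩ := exists_dim_nat f (f.asFiber x)
      have := h.1 _ hs specializes_rfl
      rw [hk] at this ⊢
      have hk0 : k ≤ 0 := by exact_mod_cast this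
      rw [Nat.le_zero.1 hk0]
    · have h' := h.2 (n - 1) (by omega)
      simp only [DimSuppAt, not_forall] at h'
      obtain ⟨w, hws, hw, hlt⟩ := h'
      refine ⟨w, hws, hw, ?_⟩
      obtain ⟨k, hk⟩ := exists_dim_nat f w
      have h1 := h.1 w hws hw
      rw [hk] at hlt h1 ⊢
      have h2 : k ≤ n := by exact_mod_cast h1
      have h3 : ¬ k ≤ n - 1 := fun hc => hlt (by exact_mod_cast hc)
      rw [show k = n by omega]
  refine ⟨w, ⟨hws, fun w' hw' hspec => ?_⟩, hw, hd⟩
  refine VarDim.eq_of_specializes_of_deg_le (f.fiberToSpecResidueField (f.base x)) hspec ?_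
  have h1 := h.1 w' hw' (hspec.trans hw)
  rw [← hd, dim_closure_eq_deg, dim_closure_eq_deg] at h1
  exact_mod_cast h1

end Loci

section Rect

variable (hF : CohB1.IsFP F)
include hF

/-- The level sets of the rectified depth on the fibres are locally constructible. -/
theorem isLC_rect (n : ℕ∞) : IsLocallyConstructible {x : X |
    ((CInt.fiberDepth f F x : ℕ∞) : WithBot ℕ∞) +
      topologicalKrullDim ↥(closure ({f.asFiber x} : Set ↥(f.fiber (f.base x)))) = ((n : ℕ∞) : WithBot ℕ∞)} := by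
  refine isLC_of_charts f _ fun U hU V hV hle => ?_
  letI : Algebra Γ(Y, V) Γ(X, U) := (f.appLE V U hle).hom.toAlgebra
  haveI : Algebra.FinitePresentation Γ(Y, V) Γ(X, U) := f.finitePresentation_appLE hV hU hle
  haveI := QCoh.finitePresentation_of_isFP hF hU
  induction n using ENat.recTopCoe with
  | top =>
    refine ⟨_, (isConstructible_support (A := Γ(Y, V)) Γ(F, U)).compl, fun z hz => ?_⟩
    rw [rect_chart f F hU hV hle hF hz, WithBot.coe_inj]
    exact rect_eq_top_iff Γ(F, U) _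
  | coe n =>
    refine ⟨_, (isConstructible_rectGE (A := Γ(Y, V)) Γ(F, U) n).inter
      (isConstructible_rectGE (A := Γ(Y, V)) Γ(F, U) (n + 1)).compl, fun z hz => ?_⟩
    rw [rect_chart f F hU hV hle hF hz, WithBot.coe_inj]
    exact enat_eq_iff _ n

end Rect

section Base

variable [QuasiCompact f] [QuasiSeparated f] (hF : CohB1.IsFP F)
include hF

theorem isLC_base_noEmbedded :
    IsLocallyConstructible {y : Y | AssSch.NoEmbedded (fibMod f F y)} := by
  convert isLC_compl (f.isLocallyConstructible_image (isLC_compl (isLC_noEmbAt f F hF))) using 1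
  ext y
  constructor
  · rintro h ⟨x, hx, rfl⟩
    exact hx fun w hw _ w' hw' hspec => (h w hw w' hw' hspec).symm
  · intro h
    have key : ∀ x, f.base x = y → NoEmbAt f F x := fun x hx => by
      by_contra hc
      exact h ⟨x, hc, hx⟩
    intro w hw w' hw' hspec
    exact fibre_induction f (fun y w => (∀ x, f.base x = y → NoEmbAt f F x) →
      ∀ w', w ∈ AssSch.Ass (fibMod f F y) → w' ∈ AssSch.Ass (fibMod f F y) → w' ⤳ w → w = w')
      (fun x hk w' hw hw' hspec => (hk x rfl _ hw specializes_rfl w' hw' hspec).symm) _ w key w' hw hw' hspec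

theorem isLC_base_assDims (Φ : Finset ℕ) :
    IsLocallyConstructible {y : Y |
      (fun z : ↥(f.fiber y) => topologicalKrullDim ↥(closure ({z} : Set ↥(f.fiber y)))) ''
          AssSch.Ass (fibMod f F y) = (fun n : ℕ => (n : WithBot ℕ∞)) '' (Φ : Set ℕ)} := by
  convert (isLC_compl (f.isLocallyConstructible_image (isLC_compl (isLC_assDimsAt f F hF (Φ : Set ℕ))))).inter
    (isLC_biInter Φ (fun n => f.base '' {x : X | AssDimsAt f F ({n}ᶜ) x}ᶜ)
      fun n _ => f.isLocallyConstructible_image (isLC_compl (isLC_assDimsAt f F hF ({n}ᶜ)))) using 1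
  ext y
  simp only [Set.mem_inter_iff, Set.mem_iInter, Set.mem_ofPred_eq]
  constructor
  · intro h
    refine ⟨?_, fun n hn => ?_⟩
    · rintro ⟨x, hx, rfl⟩
      refine hx fun w hw _ => ?_
      obtain ⟨n, hn, he⟩ := h.le ⟨w, hw, rfl⟩
      exact ⟨n, hn, he.symm⟩
    · obtain ⟨w, hw, hd⟩ := h.ge ⟨n, hn, rfl⟩
      refine fibre_induction f (fun y w => w ∈ AssSch.Ass (fibMod f F y) →
        topologicalKrullDim ↥(closure ({w} : Set ↥(f.fiber y))) = (n : WithBot ℕ∞) →
          y ∈ f.base '' {x : X | AssDimsAt f F ({n}ᶜ) x}ᶜ) (fun x hw hd => ?_) _ w hw hd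
      refine ⟨x, fun hc => ?_, rfl⟩
      obtain ⟨m, hm, hd'⟩ := hc _ hw specializes_rfl
      exact hm (by exact_mod_cast hd'.symm.trans hd)
  · rintro ⟨h1, h2⟩
    refine Set.Subset.antisymm ?_ ?_
    · rintro _ ⟨w, hw, rfl⟩
      refine fibre_induction f (fun y w => (∀ x, f.base x = y → AssDimsAt f F (Φ : Set ℕ) x) →
        w ∈ AssSch.Ass (fibMod f F y) → topologicalKrullDim ↥(closure ({w} : Set ↥(f.fiber y))) ∈
          (fun n : ℕ => (n : WithBot ℕ∞)) '' (Φ : Set ℕ)) (fun x hk hw => ?_) _ w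
        (fun x hx => by_contra fun hc => h1 ⟨x, hc, hx⟩) hw
      obtain ⟨n, hn, he⟩ := hk x rfl _ hw specializes_rfl
      exact ⟨n, hn, he.symm⟩
    · rintro _ ⟨n, hn, rfl⟩
      obtain ⟨x, hx, rfl⟩ := h2 n hn
      simp only [Set.mem_compl_iff, Set.mem_ofPred_eq, AssDimsAt, not_forall] at hx
      obtain ⟨w, hw, -, hno⟩ := hx
      obtain ⟨m, hm⟩ := exists_dim_nat f w
      refine ⟨w, hw, ?_⟩
      by_contra hc
      exact hno ⟨m, fun hmn => hc (hm.trans (by rw [Set.mem_singleton_iff.1 hmn])), hm⟩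

theorem isLC_base_suppDims (Φ : Finset ℕ) :
    IsLocallyConstructible {y : Y |
      (fun Z : Set ↥(fibSupp f F y) => topologicalKrullDim ↥Z) '' irreducibleComponents ↥(fibSupp f F y) =
        (fun n : ℕ => (n : WithBot ℕ∞)) '' (Φ : Set ℕ)} := by
  convert (isLC_compl (f.isLocallyConstructible_image ((isLC_fibSupp f F hF).inter
      (isLC_biInter Φ (fun n => {x : X | DimSuppEq f F n x}ᶜ) fun n _ => isLC_compl (isLC_dimSuppEq f F hF n))))).inter
    (isLC_biInter Φ (fun n => f.base '' ({x : X | f.asFiber x ∈ fibSupp f F (f.base x)} ∩ {x | DimSuppEq f F n x}))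
      fun n _ => f.isLocallyConstructible_image ((isLC_fibSupp f F hF).inter (isLC_dimSuppEq f F hF n))) using 1
  ext y
  rw [Set.mem_ofPred_eq, image_dim_components f F hF y]
  simp only [Set.mem_inter_iff, Set.mem_iInter, Set.mem_compl_iff]
  constructor
  · intro h
    refine ⟨?_, fun n hn => ?_⟩
    · rintro ⟨x, ⟨hs, hx⟩, rfl⟩
      simp only [Set.mem_iInter, Set.mem_compl_iff, Set.mem_ofPred_eq] at hx
      obtain ⟨n, hn⟩ := exists_dimSuppEq f F hF x
      obtain ⟨w, hw, -, hd⟩ := hn.exists_isMaxSupp f F hs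
      obtain ⟨m, hm, he⟩ := h.le ⟨w, hw, hd⟩
      have : m = n := by
        have he' : (m : WithBot ℕ∞) = (n : WithBot ℕ∞) := he
        exact_mod_cast he'
      exact hx m hm (this ▸ hn)
    · obtain ⟨w, hw, hd⟩ := h.ge ⟨n, hn, rfl⟩
      obtain ⟨x, hx, hs, he⟩ := hw.exists_dimSuppEq f F hd
      exact ⟨x, ⟨hs, he⟩, hx⟩
  · rintro ⟨h1, h2⟩
    refine Set.Subset.antisymm ?_ ?_
    · rintro _ ⟨w, hw, rfl⟩
      obtain ⟨n, hd⟩ := exists_dim_nat f w
      obtain ⟨x, hx, hs, he⟩ := hw.exists_dimSuppEq f F hd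
      by_contra hc
      refine h1 ⟨x, ⟨hs, ?_⟩, hx⟩
      simp only [Set.mem_iInter, Set.mem_compl_iff, Set.mem_ofPred_eq]
      exact fun m hm hm' => hc ⟨m, hm, by rw [hm'.unique f F he]; exact hd.symm⟩
    · rintro _ ⟨n, hn, rfl⟩
      obtain ⟨x, ⟨hs, he⟩, rfl⟩ := h2 n hn
      obtain ⟨w, hw, -, hd⟩ := DimSuppEq.exists_isMaxSupp f F hs he
      exact ⟨w, hw, hd⟩

end Base

end Groth.Agent.Codepth5
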