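import Groth.Agent.Codepth5.Module
import Groth.Agent.KFlatLib.Scheme.Pullback
import Groth.Agent.FlatDvr.FibreStalk
import Groth.Agent.QCoh.FlatOver

/-!
# The codepth of the fibre stalks, on affine charts
-/

set_option autoImplicit false
set_option linter.style.haveILetI false
set_option backward.isDefEq.respectTransparency false
set_option backward.isDefEq.respectTransparency.types false

universe u

open AlgebraicGeometry CategoryTheory IsLocalRing TensorProduct

namespace Groth.Agent.Codepth5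

variable {X Y : Scheme.{u}} (f : X ⟶ Y)

/-- The ideal of the fibre in the local ring. -/
noncomputable def fibIdeal (x : X) : Ideal (X.presheaf.stalk x) :=
  (maximalIdeal (Y.presheaf.stalk (f x))).map (f.stalkMap x).hom

theorem fibre_semi (F : X.Modules) (x : X) (s : Y) (w : ↥(f.fiber s)) (hw : f.fiberι s w = x) :
    Semi (X.presheaf.stalk x) (F.presheaf.stalk x ⧸ (fibIdeal f x • ⊤ : Submodule (X.presheaf.stalk x) (F.presheaf.stalk x)))
      ((f.fiber s).presheaf.stalk w) (((Scheme.Modules.pullback (f.fiberι s)).obj F).presheaf.stalk w) := by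
  subst hw
  let ι := f.fiberι s
  let O := X.presheaf.stalk (ι w)
  let σ : O →+* (f.fiber s).presheaf.stalk w := (ι.stalkMap w).hom
  letI : Algebra O ((f.fiber s).presheaf.stalk w) := σ.toAlgebra
  have hσ : Function.Surjective σ := ι.stalkMap_surjective w
  let J : Ideal O := fibIdeal f (ι w)
  have hJ : RingHom.ker σ = J := FlatDvr.ker_stalkMap_fiberι f w
  let e₀ : ((Scheme.Modules.pullback ι).obj F).presheaf.stalk w ≃ₗ[(f.fiber s).presheaf.stalk w]
      TensorProduct O ((f.fiber s).presheaf.stalk w) (F.presheaf.stalk (ι w)) :=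
    ((KFlatLib.stalkPullbackIso ι w).app F).toLinearEquiv
  let e₁ : (O ⧸ J) ≃ₗ[O] (f.fiber s).presheaf.stalk w :=
    (Submodule.quotEquivOfEq J (LinearMap.ker (Algebra.linearMap O ((f.fiber s).presheaf.stalk w))) hJ.symm) ≪≫ₗ
      (Algebra.linearMap O ((f.fiber s).presheaf.stalk w)).quotKerEquivOfSurjective hσ
  let e₂ := (TensorProduct.quotTensorEquivQuotSMul (F.presheaf.stalk (ι w)) J).symm ≪≫ₗ
    TensorProduct.congr e₁ (LinearEquiv.refl O (F.presheaf.stalk (ι w)))
  refine ⟨σ, hσ, e₂.toAddEquiv.trans e₀.symm.toAddEquiv, fun r x => ?_⟩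
  show e₀.symm (e₂ (r • x)) = σ r • e₀.symm (e₂ x)
  rw [e₂.map_smul, show r • e₂ x = σ r • e₂ x from (algebraMap_smul ((f.fiber s).presheaf.stalk w) r (e₂ x)).symm,
    e₀.symm.map_smul]

theorem fibre_dd_eq (F : X.Modules) (x : X) (s : Y) (w : ↥(f.fiber s)) (hw : f.fiberι s w = x) :
    dd ((f.fiber s).presheaf.stalk w) (((Scheme.Modules.pullback (f.fiberι s)).obj F).presheaf.stalk w) =
      dd (X.presheaf.stalk x) (F.presheaf.stalk x ⧸ (fibIdeal f x • ⊤ : Submodule (X.presheaf.stalk x) (F.presheaf.stalk x))) :=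
  (fibre_semi f F x s w hw).dd_eq.symm

theorem fibre_cod_iff (F : X.Modules) (x : X) (s : Y) (w : ↥(f.fiber s)) (hw : f.fiberι s w = x) (k : ℕ) :
    Cod ((f.fiber s).presheaf.stalk w) (((Scheme.Modules.pullback (f.fiberι s)).obj F).presheaf.stalk w) k ↔
      Cod (X.presheaf.stalk x) (F.presheaf.stalk x ⧸ (fibIdeal f x • ⊤ : Submodule (X.presheaf.stalk x) (F.presheaf.stalk x))) k :=
  cod_iff_of_dd_eq (fibre_dd_eq f F x s w hw) k

theorem fibre_cod_self_iff (x : X) (s : Y) (w : ↥(f.fiber s)) (hw : f.fiberι s w = x) (k : ℕ) :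
    Cod ((f.fiber s).presheaf.stalk w) ((f.fiber s).presheaf.stalk w) k ↔
      Cod (X.presheaf.stalk x) (X.presheaf.stalk x ⧸ (fibIdeal f x • ⊤ : Submodule (X.presheaf.stalk x) (X.presheaf.stalk x))) k := by
  subst hw
  let ι := f.fiberι s
  let O := X.presheaf.stalk (ι w)
  let σ : O →+* (f.fiber s).presheaf.stalk w := (ι.stalkMap w).hom
  letI : Algebra O ((f.fiber s).presheaf.stalk w) := σ.toAlgebra
  have hσ : Function.Surjective σ := ι.stalkMap_surjective w
  let J : Ideal O := fibIdeal f (ι w)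
  have hJ : RingHom.ker σ = J := FlatDvr.ker_stalkMap_fiberι f w
  let e₁ : (O ⧸ (J • ⊤ : Submodule O O)) ≃ₗ[O] (f.fiber s).presheaf.stalk w :=
    (Submodule.quotEquivOfEq _ (LinearMap.ker (Algebra.linearMap O ((f.fiber s).presheaf.stalk w)))
      (by rw [Ideal.smul_eq_mul, Ideal.mul_top]; exact hJ.symm)) ≪≫ₗ
      (Algebra.linearMap O ((f.fiber s).presheaf.stalk w)).quotKerEquivOfSurjective hσ
  refine (cod_congr σ hσ e₁.toAddEquiv (fun r x => ?_) k).symm
  show e₁ (r • x) = σ r • e₁ x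
  rw [map_smul, Algebra.smul_def]
  rfl

/-- The transfer to an affine chart, ring part. -/
theorem semi_localization {A B : Type u} [CommRing A] [CommRing B] [Algebra A B] (q : Ideal B) [q.IsPrime]
    (L : Type u) [CommRing L] [IsLocalRing L] [Algebra B L] [IsLocalization.AtPrime L q] [Algebra A L]
    [IsScalarTower A B L] {M G : Type u} [AddCommGroup M] [Module B M] [AddCommGroup G] [Module B G] [Module L G]
    [IsScalarTower B L G] (g : M →ₗ[B] G) [IsLocalizedModule q.primeCompl g] :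
    Semi (Localization.AtPrime q) (EGA4.FibLocMod A B q M)
      L (G ⧸ (((q.comap (algebraMap A B)).map (algebraMap A L)) • ⊤ : Submodule L G)) := by
  let σa := IsLocalization.algEquiv q.primeCompl (Localization.AtPrime q) L
  let σ : Localization.AtPrime q →+* L := σa.toRingEquiv.toRingHom
  let e := IsLocalizedModule.iso q.primeCompl g
  refine semi_quot σ σa.surjective e.toAddEquiv (fun z x => ?_) _ _ ?_
  · obtain ⟨⟨a, t⟩, hat⟩ := IsLocalization.surj q.primeCompl z
    have hu : IsUnit (algebraMap B L (t : B)) := IsLocalization.map_units L t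
    refine hu.smul_left_cancel.1 ?_
    have h1 : algebraMap B L (t : B) * σ z = algebraMap B L a := by
      rw [← σa.commutes (t : B), ← σa.commutes a]
      show σa _ * σa z = σa _
      rw [← map_mul, mul_comm, hat]
    have h2 : (t : B) • z • x = a • x := by
      rw [← algebraMap_smul (Localization.AtPrime q) (t : B) (z • x), smul_smul, mul_comm]
      exact (congrArg (fun c => c • x) hat).trans (algebraMap_smul _ a x)
    rw [smul_smul, h1, algebraMap_smul, algebraMap_smul]
    show (t : B) • e (z • x) = a • e x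
    rw [← map_smul, h2, map_smul]
  · rw [Ideal.map_map]
    refine congrArg (fun h => Ideal.map h _) (RingHom.ext fun a => ?_)
    rw [RingHom.comp_apply, IsScalarTower.algebraMap_apply A B (Localization.AtPrime q),
      IsScalarTower.algebraMap_apply A B L]
    exact σa.commutes _

/-- The ideal of the fibre, on an affine chart. -/
theorem fibIdeal_eq {U : X.Opens} (hU : IsAffineOpen U) {V : Y.Opens} (hV : IsAffineOpen V)
    (hle : U ≤ f ⁻¹ᵁ V) {x : X} (hx : x ∈ U) :
    fibIdeal f x = (((hU.primeIdealOf ⟨x, hx⟩).asIdeal.comap (f.appLE V U hle).hom).map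
      ((f.appLE V U hle) ≫ X.presheaf.germ U x hx).hom) := by
  letI := (f.appLE V U hle).hom.toAlgebra
  letI := QCoh.stalkAlg (X := X) hx
  letI := QCoh.stalkAlg (X := Y) (U := V) (x := f x) (hle hx)
  letI : Algebra Γ(Y, V) (X.presheaf.stalk x) :=
    ((f.appLE V U hle) ≫ X.presheaf.germ U x hx).hom.toAlgebra
  haveI : IsScalarTower Γ(Y, V) Γ(X, U) (X.presheaf.stalk x) := IsScalarTower.of_algebraMap_eq fun _ => rfl
  haveI hlX := QCoh.isLocalization_stalk' hU hx
  haveI hlY := QCoh.isLocalization_stalk' hV (hle hx)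
  have hcomm : (f.stalkMap x).hom.comp (algebraMap Γ(Y, V) (Y.presheaf.stalk (f x))) =
      algebraMap Γ(Y, V) (X.presheaf.stalk x) := RingHom.ext fun a =>
    (Scheme.Hom.germ_stalkMap_apply f V x (hle hx) a).trans (X.presheaf.germ_res_apply (homOfLE hle) x hx _).symm
  have hq : (hU.primeIdealOf ⟨x, hx⟩).asIdeal =
      (maximalIdeal (X.presheaf.stalk x)).comap (algebraMap Γ(X, U) (X.presheaf.stalk x)) :=
    (IsLocalization.AtPrime.comap_maximalIdeal (X.presheaf.stalk x) _).symm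
  show fibIdeal f x = ((hU.primeIdealOf ⟨x, hx⟩).asIdeal.comap (algebraMap Γ(Y, V) Γ(X, U))).map
      (algebraMap Γ(Y, V) (X.presheaf.stalk x))
  rw [fibIdeal, hq, Ideal.comap_comap, ← IsScalarTower.algebraMap_eq, ← hcomm, ← Ideal.comap_comap,
    ← Ideal.map_map, maximalIdeal_comap,
    IsLocalization.map_comap (hV.primeIdealOf ⟨f x, hle hx⟩).asIdeal.primeCompl]

theorem semi_chart {U : X.Opens} (hU : IsAffineOpen U) {V : Y.Opens} (hV : IsAffineOpen V)
    (hle : U ≤ f ⁻¹ᵁ V) {x : X} (hx : x ∈ U) {M G : Type u} [AddCommGroup M] [Module Γ(X, U) M]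
    [AddCommGroup G] [Module Γ(X, U) G] [Module (X.presheaf.stalk x) G]
    (hG : ∀ (r : Γ(X, U)) (m : G), X.presheaf.germ U x hx r • m = r • m)
    (g : M →ₗ[Γ(X, U)] G) [IsLocalizedModule (hU.primeIdealOf ⟨x, hx⟩).asIdeal.primeCompl g] :
    letI := (f.appLE V U hle).hom.toAlgebra
    Semi (Localization.AtPrime (hU.primeIdealOf ⟨x, hx⟩).asIdeal)
         (EGA4.FibLocMod Γ(Y, V) Γ(X, U) (hU.primeIdealOf ⟨x, hx⟩).asIdeal M)
      (X.presheaf.stalk x) (G ⧸ (fibIdeal f x • ⊤ : Submodule (X.presheaf.stalk x) G)) := by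
  letI := (f.appLE V U hle).hom.toAlgebra
  letI := QCoh.stalkAlg (X := X) hx
  letI := QCoh.stalkAlg (X := Y) (U := V) (x := f x) (hle hx)
  letI : Algebra Γ(Y, V) (X.presheaf.stalk x) :=
    ((f.appLE V U hle) ≫ X.presheaf.germ U x hx).hom.toAlgebra
  haveI : IsScalarTower Γ(Y, V) Γ(X, U) (X.presheaf.stalk x) := IsScalarTower.of_algebraMap_eq fun _ => rfl
  haveI : IsScalarTower Γ(X, U) (X.presheaf.stalk x) G := IsScalarTower.of_algebraMap_smul hG
  haveI hlX := QCoh.isLocalization_stalk' hU hx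
  rw [fibIdeal_eq f hU hV hle hx]
  exact semi_localization (A := Γ(Y, V)) (hU.primeIdealOf ⟨x, hx⟩).asIdeal (X.presheaf.stalk x) g

theorem dd_chart_eq {U : X.Opens} (hU : IsAffineOpen U) {V : Y.Opens} (hV : IsAffineOpen V)
    (hle : U ≤ f ⁻¹ᵁ V) {x : X} (hx : x ∈ U) {M G : Type u} [AddCommGroup M] [Module Γ(X, U) M]
    [AddCommGroup G] [Module Γ(X, U) G] [Module (X.presheaf.stalk x) G]
    (hG : ∀ (r : Γ(X, U)) (m : G), X.presheaf.germ U x hx r • m = r • m)
    (g : M →ₗ[Γ(X, U)] G) [IsLocalizedModule (hU.primeIdealOf ⟨x, hx⟩).asIdeal.primeCompl g] :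
    dd (X.presheaf.stalk x) (G ⧸ (fibIdeal f x • ⊤ : Submodule (X.presheaf.stalk x) G)) =
      (letI := (f.appLE V U hle).hom.toAlgebra
       dd (Localization.AtPrime (hU.primeIdealOf ⟨x, hx⟩).asIdeal)
         (EGA4.FibLocMod Γ(Y, V) Γ(X, U) (hU.primeIdealOf ⟨x, hx⟩).asIdeal M)) := by
  letI := (f.appLE V U hle).hom.toAlgebra
  exact (semi_chart f hU hV hle hx hG g).dd_eq.symm

/-- The transfer to an affine chart. -/
theorem cod_chart_iff {U : X.Opens} (hU : IsAffineOpen U) {V : Y.Opens} (hV : IsAffineOpen V)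
    (hle : U ≤ f ⁻¹ᵁ V) {x : X} (hx : x ∈ U) {M G : Type u} [AddCommGroup M] [Module Γ(X, U) M]
    [AddCommGroup G] [Module Γ(X, U) G] [Module (X.presheaf.stalk x) G]
    (hG : ∀ (r : Γ(X, U)) (m : G), X.presheaf.germ U x hx r • m = r • m)
    (g : M →ₗ[Γ(X, U)] G) [IsLocalizedModule (hU.primeIdealOf ⟨x, hx⟩).asIdeal.primeCompl g] (k : ℕ) :
    Cod (X.presheaf.stalk x) (G ⧸ (fibIdeal f x • ⊤ : Submodule (X.presheaf.stalk x) G)) k ↔
      (letI := (f.appLE V U hle).hom.toAlgebra
       FibCod Γ(Y, V) M k (hU.primeIdealOf ⟨x, hx⟩).asIdeal) :=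
  cod_iff_of_dd_eq (dd_chart_eq f hU hV hle hx hG g) k

end Groth.Agent.Codepth5
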