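import Groth.Agent.Codepth5.AssPoly

/-!
# Associated points of the fibres: transfer along presentations, Serre's condition, equidimensionality
-/

set_option autoImplicit false
set_option linter.style.haveILetI false
set_option backward.isDefEq.respectTransparency false
set_option backward.isDefEq.respectTransparency.types false

universe u

open IsLocalRing TensorProduct Groth.Agent.RegLoc6

namespace Groth.Agent.Codepth5

open FibDim (fib)

theorem toFib_le_iff {A B : Type u} [CommRing A] [CommRing B] [Algebra A B] (q : PrimeSpectrum B)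
    (a b : PrimeSpectrum (EGA4.FibLocRing A B q.asIdeal)) :
    (toFib (R := A) q a).1 ≤ (toFib (R := A) q b).1 ↔ a ≤ b := by
  show PrimeSpectrum.comap ((Ideal.Quotient.mk _).comp (algebraMap B (Localization.AtPrime q.asIdeal))) a ≤
    PrimeSpectrum.comap ((Ideal.Quotient.mk _).comp (algebraMap B (Localization.AtPrime q.asIdeal))) b ↔ _
  rw [PrimeSpectrum.comap_comp_apply, PrimeSpectrum.comap_comp_apply, PrimeSpectrum.le_iff_specializes,
    PrimeSpectrum.le_iff_specializes,
    (PrimeSpectrum.localization_comap_isInducing (Localization.AtPrime q.asIdeal) q.asIdeal.primeCompl).specializes_iff,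
    (PrimeSpectrum.isClosedEmbedding_comap_of_surjective _ _ Ideal.Quotient.mk_surjective).isInducing.specializes_iff]

section Surj

variable {A P B : Type u} [CommRing A] [CommRing P] [CommRing B] [Algebra A B] [Algebra A P] [Algebra P B]
  [IsScalarTower A P B] (hf : Function.Surjective (algebraMap P B))
  (M : Type u) [AddCommGroup M] [Module B M] [Module P M] [IsScalarTower P B M]

include hf

theorem mem_range_of_mem_support (t : PrimeSpectrum P) (h : t ∈ Module.support P M) :
    t ∈ Set.range (PrimeSpectrum.comap (algebraMap P B)) := by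
  rw [_root_.range_comap_of_surjective _ _ hf]
  intro r hr
  obtain ⟨m, hm⟩ := Module.mem_support_iff_exists_annihilator.1 h
  refine hm ?_
  rw [Submodule.mem_annihilator_span_singleton, ← algebraMap_smul B r m, RingHom.mem_ker.1 hr, zero_smul]

theorem assAt_comap_iff (t : PrimeSpectrum B) :
    AssAt A M (PrimeSpectrum.comap (algebraMap P B) t).asIdeal ↔ AssAt A M t.asIdeal := by
  rw [AssAt, AssAt, show dd (Localization.AtPrime (PrimeSpectrum.comap (algebraMap P B) t).asIdeal)
      (EGA4.FibLocMod A P (PrimeSpectrum.comap (algebraMap P B) t).asIdeal M) =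
    dd (Localization.AtPrime t.asIdeal) (EGA4.FibLocMod A B t.asIdeal M) from dd_surjective hf M t]

omit hf [Module B M] [Module P M] [IsScalarTower P B M] in
theorem comap_comap_fib (t : PrimeSpectrum B) :
    PrimeSpectrum.comap (algebraMap A P) (PrimeSpectrum.comap (algebraMap P B) t) =
      PrimeSpectrum.comap (algebraMap A B) t := by
  rw [← PrimeSpectrum.comap_comp_apply, ← IsScalarTower.algebraMap_eq]

omit [Module B M] [Module P M] [IsScalarTower P B M] in
theorem comap_le_comap_iff (a b : PrimeSpectrum B) :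
    PrimeSpectrum.comap (algebraMap P B) a ≤ PrimeSpectrum.comap (algebraMap P B) b ↔ a ≤ b := by
  rw [PrimeSpectrum.le_iff_specializes, PrimeSpectrum.le_iff_specializes]
  exact (PrimeSpectrum.isClosedEmbedding_comap_of_surjective _ _ hf).isInducing.specializes_iff

theorem assDims_iff_of_surjective (S : Set ℕ) (q : PrimeSpectrum B) :
    AssDims A M S (PrimeSpectrum.comap (algebraMap P B) q) ↔ AssDims A M S q := by
  refine ⟨fun h t ht hta => ?_, fun h t ht hta => ?_⟩
  · obtain ⟨n, hn, he⟩ := h ⟨PrimeSpectrum.comap (algebraMap P B) t.1,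
      ((comap_comap_fib t.1).trans t.2).trans (comap_comap_fib q).symm⟩ ((comap_le_comap_iff hf _ _).2 ht)
      ((assAt_comap_iff hf M t.1).2 hta)
    refine ⟨n, hn, ?_⟩
    rw [coheight_congr_fib t.2.symm t ⟨t.1, rfl⟩ rfl, transfer hf t.1, ← he]
    exact coheight_congr_fib (((comap_comap_fib t.1).trans t.2).trans (comap_comap_fib q).symm) _ _ rfl
  · obtain ⟨b, hb⟩ := mem_range_of_mem_support hf M t.1 (mem_support_of_assAt _ hta)
    obtain ⟨t, hty⟩ := t
    subst hb
    obtain ⟨n, hn, he⟩ := h ⟨b, ((comap_comap_fib b).symm.trans hty).trans (comap_comap_fib q)⟩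
      ((comap_le_comap_iff hf _ _).1 ht) ((assAt_comap_iff hf M b).1 hta)
    refine ⟨n, hn, ?_⟩
    rw [coheight_congr_fib hty.symm _ ⟨PrimeSpectrum.comap (algebraMap P B) b, rfl⟩ rfl, ← transfer hf b, ← he]
    exact coheight_congr_fib (((comap_comap_fib b).symm.trans hty).trans (comap_comap_fib q)) _ _ rfl

theorem noEmb_iff_of_surjective (q : PrimeSpectrum B) :
    NoEmb A M (PrimeSpectrum.comap (algebraMap P B) q) ↔ NoEmb A M q := by
  let κ : ↥(fib (B := B) (PrimeSpectrum.comap (algebraMap A B) q)) →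
      ↥(fib (B := P) (PrimeSpectrum.comap (algebraMap A P) (PrimeSpectrum.comap (algebraMap P B) q))) := fun t =>
    ⟨PrimeSpectrum.comap (algebraMap P B) t.1, ((comap_comap_fib t.1).trans t.2).trans (comap_comap_fib q).symm⟩
  have hκ : ∀ s, AssAt A M s.1.asIdeal → ∃ t, κ t = s := fun s hs => by
    obtain ⟨b, hb⟩ := mem_range_of_mem_support hf M s.1 (mem_support_of_assAt _ hs)
    exact ⟨⟨b, ((comap_comap_fib b).symm.trans ((congrArg _ hb).trans s.2)).trans (comap_comap_fib q)⟩,
      Subtype.ext hb⟩
  refine ⟨fun h t ht hta t' ht' hta' => ?_, fun h s hs hsa s' hs' hsa' => ?_⟩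
  · have := h (κ t) ((comap_le_comap_iff hf _ _).2 ht) ((assAt_comap_iff hf M t.1).2 hta) (κ t')
      ((comap_le_comap_iff hf _ _).2 ht') ((assAt_comap_iff hf M t'.1).2 hta')
    exact Subtype.ext ((PrimeSpectrum.isClosedEmbedding_comap_of_surjective _ _ hf).injective
      (congrArg Subtype.val this))
  · obtain ⟨t, rfl⟩ := hκ s hsa
    obtain ⟨t', rfl⟩ := hκ s' hsa'
    rw [h t ((comap_le_comap_iff hf _ _).1 hs) ((assAt_comap_iff hf M t.1).1 hsa) t'
      ((comap_le_comap_iff hf _ _).1 hs') ((assAt_comap_iff hf M t'.1).1 hsa')]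

theorem skGen_comap_iff [Module A M] [IsScalarTower A B M] (k : ℕ) (q : PrimeSpectrum B) :
    SkGen A M k (PrimeSpectrum.comap (algebraMap P B) q) ↔ SkGen A M k q := by
  refine skGen_iff_of_surjective hf M k (fun t ht => ?_) q
  rw [SkOne, dd_of_notMem_support t fun h => ht (mem_range_of_mem_support hf M t h)]
  exact le_trans (min_le_right _ _) bot_le

end Surj

section General

variable {A B : Type u} [CommRing A] [CommRing B] [Algebra A B] (M : Type u) [AddCommGroup M] [Module B M]

theorem subsingleton_localized_quotient (p : Ideal A) (q' : Ideal B) [q'.IsPrime]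
    (h : ¬ p ≤ q'.comap (algebraMap A B)) :
    Subsingleton (LocalizedModule q'.primeCompl (M ⧸ (p.map (algebraMap A B) • (⊤ : Submodule B M)))) := by
  obtain ⟨a, hap, haq⟩ := SetLike.not_le_iff_exists.1 h
  rw [LocalizedModule.subsingleton_iff]
  refine fun m => ⟨algebraMap A B a, haq, ?_⟩
  obtain ⟨m, rfl⟩ := Submodule.Quotient.mk_surjective _ m
  rw [← Submodule.Quotient.mk_smul, Submodule.Quotient.mk_eq_zero]
  exact Submodule.smul_mem_smul (Ideal.mem_map_of_mem _ hap) trivial

/-- Serre's condition for the stalk of the fibre, pointwise. -/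
theorem hasSk_fibLocMod_iff (k : ℕ) (q : PrimeSpectrum B) :
    LocCoh.HasSk k (Localization.AtPrime q.asIdeal) (EGA4.FibLocMod A B q.asIdeal M) ↔ SkGen A M k q := by
  let p := q.asIdeal.comap (algebraMap A B)
  obtain ⟨e⟩ := FlatLoc6.exists_fibLocMod_equiv p q.asIdeal rfl M
  have hsemi : Semi (Localization.AtPrime q.asIdeal)
      (LocalizedModule q.asIdeal.primeCompl (M ⧸ (p.map (algebraMap A B) • (⊤ : Submodule B M))))
      (Localization.AtPrime q.asIdeal) (EGA4.FibLocMod A B q.asIdeal M) :=
    ⟨RingHom.id _, fun x => ⟨x, rfl⟩, e.toAddEquiv, fun r x => e.map_smul r x⟩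
  rw [← hsemi.hasSk_iff k]
  refine Iff.trans (Alg6.hasSk_localization_iff q.asIdeal.primeCompl _ k) ?_
  have hdd : ∀ (q' : Ideal B) [q'.IsPrime], q'.comap (algebraMap A B) = p →
      dd (Localization.AtPrime q') (LocalizedModule q'.primeCompl (M ⧸ (p.map (algebraMap A B) • (⊤ : Submodule B M)))) =
        dd (Localization.AtPrime q') (EGA4.FibLocMod A B q' M) := fun q' _ h => by
    obtain ⟨e'⟩ := FlatLoc6.exists_fibLocMod_equiv p q' h M
    exact Semi.dd_eq ⟨RingHom.id _, fun x => ⟨x, rfl⟩, e'.toAddEquiv, fun r x => e'.map_smul r x⟩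
  constructor
  · intro h t ht
    have h' : min (k : WithBot ℕ∞) (dd (Localization.AtPrime t.1.asIdeal) (LocalizedModule t.1.asIdeal.primeCompl
        (M ⧸ (p.map (algebraMap A B) • (⊤ : Submodule B M))))).1 ≤
      (((dd (Localization.AtPrime t.1.asIdeal) (LocalizedModule t.1.asIdeal.primeCompl
        (M ⧸ (p.map (algebraMap A B) • (⊤ : Submodule B M))))).2 : ℕ∞) : WithBot ℕ∞) :=
      h t.1.asIdeal (Set.disjoint_left.mpr fun x hx hxt => hx (ht hxt))
    rwa [hdd t.1.asIdeal (congrArg PrimeSpectrum.asIdeal t.2)] at h'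
  · intro h q' _ hq'
    have hle : q' ≤ q.asIdeal := fun x hx => by
      by_contra hxq
      exact Set.disjoint_left.1 hq' hxq hx
    by_cases hp : q'.comap (algebraMap A B) = p
    · have h' : min (k : WithBot ℕ∞) (dd (Localization.AtPrime q') (EGA4.FibLocMod A B q' M)).1 ≤
          (((dd (Localization.AtPrime q') (EGA4.FibLocMod A B q' M)).2 : ℕ∞) : WithBot ℕ∞) :=
        h ⟨⟨q', inferInstance⟩, PrimeSpectrum.ext hp⟩ hle
      rw [← hdd q' hp] at h'
      exact h'
    · haveI := subsingleton_localized_quotient (A := A) M p q'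
        fun hc => hp (le_antisymm (Ideal.comap_mono hle) hc)
      rw [Module.supportDim_eq_bot_of_subsingleton]
      exact le_trans (min_le_right _ _) bot_le

end General

section Poly

variable {R : Type u} [CommRing R] {N : ℕ}
variable (M : Type u) [AddCommGroup M] [Module (MvPolynomial (Fin N) R) M] [Module.Finite (MvPolynomial (Fin N) R) M]

local notation "O" q:max => EGA4.FibLocRing R (MvPolynomial (Fin N) R) (PrimeSpectrum.asIdeal q)

theorem equidim_iff_poly (q : PrimeSpectrum (MvPolynomial (Fin N) R)) (h1 : SkGen R M 1 q) :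
    EGA4.IsEquidimModule (Localization.AtPrime q.asIdeal) (EGA4.FibLocMod R (MvPolynomial (Fin N) R) q.asIdeal M) ↔
      ∃ n, AssDims R M {n} q := by
  have hne : NoEmb R M q := (skGen_one_iff_noEmb M q).1 h1
  haveI := isRegularLocalRing_fibLocRing q
  haveI : Module.Finite (O q) ((O q) ⊗[MvPolynomial (Fin N) R] M) :=
    Module.Finite.base_change (MvPolynomial (Fin N) R) _ M
  rw [(semi_fibLocRing M q.asIdeal).isEquidimModule_iff]
  have hsupp : ∀ P', P' ∈ Module.support (O q) ((O q) ⊗[MvPolynomial (Fin N) R] M) ↔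
      (toFib q P').1 ∈ Module.support (MvPolynomial (Fin N) R) M := fun P' => by
    rw [S6284.result (R' := O q) M]
    rfl
  rcases exists_invariants M q with ⟨hns, -, -⟩ | ⟨d, D, a, -, hDd, hdN, hs, hdd, hh, -, hG⟩
  · refine iff_of_true (fun p hp => ?_) ⟨0, fun t ht hta => absurd (Module.mem_support_mono ht
      (mem_support_of_assAt _ hta)) hns⟩
    exfalso
    haveI := hp.1.1
    have hP : (⟨p, inferInstance⟩ : PrimeSpectrum (O q)) ∈ Module.support (O q) ((O q) ⊗[MvPolynomial (Fin N) R] M) := by
      rw [Module.support_eq_zeroLocus]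
      exact hp.1.2
    exact hns (Module.mem_support_mono (mem_fib_comap q _).2 ((hsupp _).1 hP))
  rw [dd_fibLocRing M q.asIdeal] at hdd
  have hD : Module.supportDim (O q) ((O q) ⊗[MvPolynomial (Fin N) R] M) = D := congrArg Prod.fst hdd
  obtain ⟨d', -, hd, hdh⟩ := exists_dim_fibLocRing q
  obtain rfl : d = d' := by exact_mod_cast hh.symm.trans hdh
  have hdim : ∀ (P' : PrimeSpectrum (O q)) (m : ℕ), Order.height (toFib q P') = m →
      ∀ x : ℕ, ringKrullDim ((O q) ⧸ P'.asIdeal) = x ↔ m + x = d := fun P' m hm x => by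
    have h := FormCat.height_add_ringKrullDim_quotient_regular (O q) P'.asIdeal P'.2.ne_top
    rw [← height_toFib (q := q), hm, hd] at h
    constructor
    · intro hx
      rw [hx] at h
      have h' : x + m = d := by exact_mod_cast h
      omega
    · intro hx
      generalize ringKrullDim ((O q) ⧸ P'.asIdeal) = z at h ⊢
      induction z with
      | bot => simp at h
      | coe z =>
        induction z using ENat.recTopCoe with
        | top =>
          have h' : (⊤ : ℕ∞) + (m : ℕ∞) = (d : ℕ∞) := by exact_mod_cast h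
          simp at h'
        | coe z =>
          have h' : z + m = d := by exact_mod_cast h
          exact_mod_cast (show z = x by omega)
  have hnat : ∀ t : ↥(fib (B := MvPolynomial (Fin N) R)
      (PrimeSpectrum.comap (algebraMap R (MvPolynomial (Fin N) R)) q)), ∃ m : ℕ, Order.height t = m := fun t => by
    obtain ⟨m, hm⟩ := ENat.ne_top_iff_exists.1
      (lt_of_le_of_lt (le_self_add.trans_eq (height_add_coheight_fib _ t)) (ENat.natCast_lt_top N)).ne
    exact ⟨m, hm.symm⟩
  constructor
  · intro h
    refine ⟨N - (d - D), fun t ht hta => ⟨_, rfl, ?_⟩⟩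
    obtain ⟨P', rfl⟩ := exists_toFib_eq q t ht
    obtain ⟨t', ht', hta', hmin⟩ := exists_assAt_le M _ (mem_support_of_assAt _ hta)
    obtain rfl : t' = toFib q P' := hne _ ht hta t' ht' hta'
    have hP' : P'.asIdeal ∈ (Module.annihilator (O q) ((O q) ⊗[MvPolynomial (Fin N) R] M)).minimalPrimes := by
      refine ⟨⟨P'.2, ?_⟩, fun s hs hle => ?_⟩
      · exact (Module.support_eq_zeroLocus (R := O q)).le ((hsupp P').2 (mem_support_of_assAt _ hta))
      · let S' : PrimeSpectrum (O q) := ⟨s, hs.1⟩
        have hS : S' ∈ Module.support (O q) ((O q) ⊗[MvPolynomial (Fin N) R] M) := by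
          rw [Module.support_eq_zeroLocus]
          exact hs.2
        have heq := hmin (toFib q S') ((toFib_strictMono q).monotone hle) ((hsupp S').1 hS)
        have h2 : S' = P' := le_antisymm hle ((toFib_le_iff q P' S').1 (congrArg Subtype.val heq).ge)
        exact (congrArg PrimeSpectrum.asIdeal h2).ge
    obtain ⟨m, hm⟩ := hnat (toFib q P')
    have hmD : m + D = d := (hdim P' m hm D).1 ((h _ hP').trans hD)
    rw [(coheight_eq_sub _ hm).2]
    exact_mod_cast (show N - m = N - (d - D) by omega)
  · rintro ⟨n, hn⟩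
    intro p hp
    haveI := hp.1.1
    let P' : PrimeSpectrum (O q) := ⟨p, inferInstance⟩
    have hmin : ∀ (t : ↥(fib (B := MvPolynomial (Fin N) R)
      (PrimeSpectrum.comap (algebraMap R (MvPolynomial (Fin N) R)) q))), t.1 ≤ q →
        t.1 ∈ Module.support (MvPolynomial (Fin N) R) M → ∃ t', t' ≤ t ∧ Order.height t' = ((N - n : ℕ) : ℕ∞) ∧
          t'.1 ∈ Module.support (MvPolynomial (Fin N) R) M := fun t ht htM => by
      obtain ⟨t', ht', hta', -⟩ := exists_assAt_le M t htM
      obtain ⟨n', hn', hc⟩ := hn t' (le_trans ht' ht) hta'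
      rw [Set.mem_singleton_iff] at hn'
      rw [hn'] at hc
      obtain ⟨m, hm⟩ := hnat t'
      obtain ⟨hmN, hc'⟩ := coheight_eq_sub _ hm
      have : N - m = n := by exact_mod_cast hc'.symm.trans hc
      exact ⟨t', ht', by rw [hm]; exact_mod_cast (show m = N - n by omega), mem_support_of_assAt _ hta'⟩
    have hP : P' ∈ Module.support (O q) ((O q) ⊗[MvPolynomial (Fin N) R] M) := by
      rw [Module.support_eq_zeroLocus]
      exact hp.1.2
    obtain ⟨t', ht', hh', hM'⟩ := hmin (toFib q P') (mem_fib_comap q P').2 ((hsupp P').1 hP)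
    obtain ⟨S', rfl⟩ := exists_toFib_eq q t' (le_trans ht' (mem_fib_comap q P').2)
    have hS' : S' ∈ Module.support (O q) ((O q) ⊗[MvPolynomial (Fin N) R] M) := (hsupp S').2 hM'
    have hle : S' ≤ P' := (toFib_le_iff q S' P').1 ht'
    obtain rfl : S' = P' :=
      le_antisymm hle (hp.2 ⟨S'.2, (Module.support_eq_zeroLocus (R := O q)).le hS'⟩ hle)
    have hc : ((d - D : ℕ) : ℕ∞) ≤ ((N - n : ℕ) : ℕ∞) := by
      rw [← hh', height_toFib]
      exact CplFib6.height_ge_of_mem_support (O q) _ hd hD (show d ≤ D + (d - D) by omega)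
        (show (d - D) + D ≤ d by omega) P' hP
    have hc' : d - D ≤ N - n := by exact_mod_cast hc
    have hG' : D + (N - n) ≤ d := (hG _).1 fun t ht htM => by
      obtain ⟨t'', ht'', hh'', -⟩ := hmin t ht htM
      rw [Nat.cast_zero, add_zero, ← hh'']
      exact Order.height_mono ht''
    rw [hD]
    exact (hdim P' (N - n) hh' D).2 (by omega)

end Poly

end Groth.Agent.Codepth5
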