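import Groth.Agent.Codepth5.Module

/-!
# Serre's conditions and equidimensionality along a surjection of rings
-/

set_option autoImplicit false
set_option linter.style.haveILetI false
set_option backward.isDefEq.respectTransparency false
set_option backward.isDefEq.respectTransparency.types false

universe u

open IsLocalRing

namespace Groth.Agent.Codepth5

variable {L' L X' X : Type u} [CommRing L'] [CommRing L] [AddCommGroup X'] [Module L' X'] [AddCommGroup X] [Module L X]

theorem hasSk_restrict {S R : Type u} [CommRing S] [CommRing R] [Algebra S R] {M : Type u} [AddCommGroup M]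
    [Module R M] [Module S M] [IsScalarTower S R M] (hπ : Function.Surjective (algebraMap S R)) (k : ℕ) :
    LocCoh.HasSk k S M ↔ LocCoh.HasSk k R M := by
  refine ⟨fun h p hp => ?_, fun h P hP => ?_⟩
  · have := h (p.comap (algebraMap S R))
    rwa [CplFib6.supportDim_localized_comap (M := M) hπ p, LC.depth_localized_comap (M := M) hπ p] at this
  · by_cases hker : RingHom.ker (algebraMap S R) ≤ P
    · haveI := Ideal.map_isPrime_of_surjective hπ hker
      have h1 := h (P.map (algebraMap S R))
      rw [← CplFib6.supportDim_localized_comap (M := M) hπ (P.map (algebraMap S R)),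
        ← LC.depth_localized_comap (M := M) hπ (P.map (algebraMap S R))] at h1
      have key : ∀ (q : Ideal S) [q.IsPrime], q = P →
          min (k : WithBot ℕ∞) (Module.supportDim (Localization.AtPrime q) (LocalizedModule q.primeCompl M)) ≤
            ((LocCoh.depth (Localization.AtPrime q) (LocalizedModule q.primeCompl M) : ℕ∞) : WithBot ℕ∞) →
          min (k : WithBot ℕ∞) (Module.supportDim (Localization.AtPrime P) (LocalizedModule P.primeCompl M)) ≤
            ((LocCoh.depth (Localization.AtPrime P) (LocalizedModule P.primeCompl M) : ℕ∞) : WithBot ℕ∞) := by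
        intro q _ e h
        subst e
        exact h
      refine key _ ?_ h1
      rw [Ideal.comap_map_of_surjective _ hπ, sup_eq_left.2]
      exact (RingHom.ker_eq_comap_bot (algebraMap S R)).symm.trans_le hker
    · obtain ⟨a, ha, haP⟩ := SetLike.not_le_iff_exists.1 hker
      haveI : Subsingleton (LocalizedModule P.primeCompl M) := by
        rw [LocalizedModule.subsingleton_iff]
        exact fun m => ⟨a, haP, by rw [← algebraMap_smul R a m, RingHom.mem_ker.1 ha, zero_smul]⟩
      rw [Module.supportDim_eq_bot_of_subsingleton]
      exact le_trans (min_le_right _ _) bot_le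

theorem Semi.hasSk_iff (h : Semi L' X' L X) (k : ℕ) : LocCoh.HasSk k L' X' ↔ LocCoh.HasSk k L X := by
  obtain ⟨σ, hσ, e, he⟩ := h
  letI : Algebra L' L := σ.toAlgebra
  letI : Module L' X := Module.compHom X σ
  haveI : IsScalarTower L' L X := IsScalarTower.of_algebraMap_smul fun _ _ => rfl
  let e' : X' ≃ₗ[L'] X := { e with map_smul' := he }
  refine Iff.trans ?_ (hasSk_restrict (M := X) hσ k)
  have key : ∀ {Y Z : Type u} [AddCommGroup Y] [Module L' Y] [AddCommGroup Z] [Module L' Z] (g : Y ≃ₗ[L'] Z),
      LocCoh.HasSk k L' Y → LocCoh.HasSk k L' Z := by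
    intro Y Z _ _ _ _ g h p hp
    have g' := IsLocalizedModule.mapEquiv p.primeCompl (LocalizedModule.mkLinearMap p.primeCompl Y)
      (LocalizedModule.mkLinearMap p.primeCompl Z) (Localization.AtPrime p) g
    rw [← Module.supportDim_eq_of_equiv g', ← FlatLoc6.depth_congr' g']
    exact h p
  exact ⟨key e', key e'.symm⟩

theorem Semi.isEquidimModule_iff (h : Semi L' X' L X) :
    EGA4.IsEquidimModule L' X' ↔ EGA4.IsEquidimModule L X := by
  obtain ⟨σ, hσ, e, he⟩ := h
  have hann : Module.annihilator L' X' = (Module.annihilator L X).comap σ := by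
    ext r
    simp only [Ideal.mem_comap, Module.mem_annihilator]
    refine ⟨fun h x => ?_, fun h x => e.injective (by rw [he, h, map_zero])⟩
    obtain ⟨x, rfl⟩ := e.surjective x
    rw [← he, h, map_zero]
  have hdim : Module.supportDim L' X' = Module.supportDim L X := Alg6.supportDim_eq_of_semilinear σ hσ e he
  have hq : ∀ p : Ideal L, ringKrullDim (L' ⧸ p.comap σ) = ringKrullDim (L ⧸ p) := fun p =>
    ringKrullDim_eq_of_ringEquiv ((Ideal.quotEquivOfEq (by rw [← RingHom.comap_ker, Ideal.mk_ker])).trans
      (RingHom.quotientKerEquivOfSurjective (f := (Ideal.Quotient.mk p).comp σ)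
        (Ideal.Quotient.mk_surjective.comp hσ)))
  unfold EGA4.IsEquidimModule
  rw [hann, hdim, Ideal.comap_minimalPrimes_eq_of_surjective hσ, Set.forall_mem_image]
  exact forall₂_congr fun p _ => by rw [hq]

end Groth.Agent.Codepth5
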