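import Groth.Agent.Codepth5.Sk
import Groth.Agent.Codepth5.SemiInv
import Groth.Agent.Alg6.LocLoc
import Groth.Agent.FlatLoc6.FiberComp

/-!
# Associated points of the fibres of a flat module
-/

set_option autoImplicit false
set_option linter.style.haveILetI false
set_option backward.isDefEq.respectTransparency false
set_option backward.isDefEq.respectTransparency.types false

universe u

open IsLocalRing TensorProduct Groth.Agent.RegLoc6

namespace Groth.Agent.Codepth5

open FibDim (fib)

section Defs

variable (A : Type u) {B : Type u} [CommRing A] [CommRing B] [Algebra A B] (M : Type u) [AddCommGroup M]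
  [Module B M]

/-- The depth of the fibre of `M` at `t` is zero. -/
def AssAt (t : Ideal B) [t.IsPrime] : Prop :=
  (dd (Localization.AtPrime t) (EGA4.FibLocMod A B t M)).2 = 0

/-- The dimensions of the closures of the associated points of the fibre through `q` lie in `S`. -/
def AssDims (S : Set ℕ) (q : PrimeSpectrum B) : Prop :=
  ∀ t : ↥(fib (B := B) (PrimeSpectrum.comap (algebraMap A B) q)), t.1 ≤ q → AssAt A M t.1.asIdeal →
    ∃ n ∈ S, Order.coheight t = (n : ℕ∞)

/-- No embedded associated point of the fibre passes through `q`. -/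
def NoEmb (q : PrimeSpectrum B) : Prop :=
  ∀ t : ↥(fib (B := B) (PrimeSpectrum.comap (algebraMap A B) q)), t.1 ≤ q → AssAt A M t.1.asIdeal →
    ∀ t' : ↥(fib (B := B) (PrimeSpectrum.comap (algebraMap A B) q)), t'.1 ≤ t.1 → AssAt A M t'.1.asIdeal → t' = t

variable {A M}

theorem subsingleton_fibLocMod (t : PrimeSpectrum B) (h : t ∉ Module.support B M) :
    Subsingleton (EGA4.FibLocMod A B t.asIdeal M) := by
  haveI := Module.notMem_support_iff.1 h
  exact (Submodule.Quotient.mk_surjective _).subsingleton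

theorem dd_of_notMem_support (t : PrimeSpectrum B) (h : t ∉ Module.support B M) :
    dd (Localization.AtPrime t.asIdeal) (EGA4.FibLocMod A B t.asIdeal M) = (⊥, ⊤) := by
  haveI := subsingleton_fibLocMod (A := A) t h
  refine Prod.ext (Module.supportDim_eq_bot_of_subsingleton _ _) ?_
  show LocCoh.depth _ _ = ⊤
  rw [LocCoh.depth, LocCoh.idealDepth, if_pos (Subsingleton.elim _ _)]

theorem mem_support_of_assAt (t : PrimeSpectrum B) (h : AssAt A M t.asIdeal) : t ∈ Module.support B M := by
  by_contra hn
  rw [AssAt, dd_of_notMem_support t hn] at h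
  exact ENat.top_ne_zero h

end Defs

variable {R : Type u} [CommRing R] {N : ℕ}
variable (M : Type u) [AddCommGroup M] [Module (MvPolynomial (Fin N) R) M] [Module.Finite (MvPolynomial (Fin N) R) M]

local notation "O" q:max => EGA4.FibLocRing R (MvPolynomial (Fin N) R) (PrimeSpectrum.asIdeal q)

/-- The dimension in the fibre and the height add up. -/
theorem coheight_eq_sub {y : PrimeSpectrum R} (t : ↥(fib (B := MvPolynomial (Fin N) R) y)) {d : ℕ}
    (hd : Order.height t = d) : d ≤ N ∧ Order.coheight t = ((N - d : ℕ) : ℕ∞) := by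
  have hc := height_add_coheight_fib y t
  rw [hd] at hc
  generalize Order.coheight t = c at hc ⊢
  induction c using ENat.recTopCoe with
  | top => simp at hc
  | coe c =>
    have hc' : d + c = N := by exact_mod_cast hc
    exact ⟨by omega, by exact_mod_cast (show c = N - d by omega)⟩

/-- A point of the support is above an associated point. -/
theorem exists_assAt_le {y : PrimeSpectrum R} (t : ↥(fib (B := MvPolynomial (Fin N) R) y))
    (ht : t.1 ∈ Module.support (MvPolynomial (Fin N) R) M) :
    ∃ t' : ↥(fib (B := MvPolynomial (Fin N) R) y), t' ≤ t ∧ AssAt R M t'.1.asIdeal ∧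
      ∀ s : ↥(fib (B := MvPolynomial (Fin N) R) y), s ≤ t' → s.1 ∈ Module.support (MvPolynomial (Fin N) R) M →
        s = t' := by
  obtain ⟨m, ⟨hmt, hm⟩, hmin⟩ := (InvImage.wf (fun s => Order.height s) wellFounded_lt).has_min
    {s : ↥(fib (B := MvPolynomial (Fin N) R) y) | s ≤ t ∧ s.1 ∈ Module.support (MvPolynomial (Fin N) R) M}
    ⟨t, le_rfl, ht⟩
  have hmin' : ∀ s : ↥(fib (B := MvPolynomial (Fin N) R) y), s ≤ m →
      s.1 ∈ Module.support (MvPolynomial (Fin N) R) M → s = m := fun s hs hsM => by
    by_contra hne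
    refine hmin s ⟨hs.trans hmt, hsM⟩ (Order.height_strictMono (lt_of_le_of_ne hs hne) ?_)
    refine lt_of_le_of_lt ?_ (ENat.natCast_lt_top N)
    exact le_self_add.trans_eq (height_add_coheight_fib y s)
  refine ⟨m, hmt, ?_, hmin'⟩
  obtain ⟨m, hmy⟩ := m
  change PrimeSpectrum.comap (algebraMap R (MvPolynomial (Fin N) R)) m = y at hmy
  subst hmy
  rcases exists_invariants M m with ⟨hns, -, -⟩ | ⟨d, D, a, haD, -, -, -, hdd, hh, -, hG⟩
  · exact absurd hm hns
  have hD : D + d ≤ d := (hG d).1 fun s hs hsM => by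
    rw [show s = ⟨m, rfl⟩ from hmin' s hs hsM, hh, Nat.cast_zero, add_zero]
  rw [AssAt, hdd]
  dsimp only
  exact_mod_cast (show a = 0 by omega)

variable [Module R M] [IsScalarTower R (MvPolynomial (Fin N) R) M] [Module.FinitePresentation (MvPolynomial (Fin N) R) M]
  [Module.Flat R M]

/-- The loci of the dimensions of the associated points of the fibres are open. -/
theorem isOpen_assDims_poly (S : Set ℕ) :
    IsOpen {q : PrimeSpectrum (MvPolynomial (Fin N) R) | AssDims R M S q} := by
  let C : ℕ → Set (PrimeSpectrum (MvPolynomial (Fin N) R)) := fun e =>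
    Module.support (MvPolynomial (Fin N) R) M ∩ ⋂ j ∈ Finset.range e,
      {q | PdLE (O q) j ((O q) ⊗[MvPolynomial (Fin N) R] M)}ᶜ
  have hC : ∀ e, IsClosed (C e) := fun e =>
    (Module.isClosed_support).inter (isClosed_biInter fun j _ =>
      (isOpen_pdLE (A := R) (B := MvPolynomial (Fin N) R) j M).isClosed_compl)
  choose I hI using fun e => (PrimeSpectrum.isClosed_iff_zeroLocus_ideal (C e)).1 (hC e)
  have hCI : ∀ e, Module.support (MvPolynomial (Fin N) R) (MvPolynomial (Fin N) R ⧸ I e) = C e := fun e => by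
    rw [Module.support_eq_zeroLocus, Ideal.annihilator_quotient, ← hI e]
  have key : ∀ z : PrimeSpectrum (MvPolynomial (Fin N) R),
      (AssAt R M z.asIdeal → ∃ n ∈ S, Order.coheight (⟨z, rfl⟩ : ↥(fib (B := MvPolynomial (Fin N) R)
        (PrimeSpectrum.comap (algebraMap R (MvPolynomial (Fin N) R)) z))) = (n : ℕ∞)) ↔
      ∀ e, e ≤ N → N - e ∉ S → z ∈ C e → ((e + 1 : ℕ) : ℕ∞) ≤ Order.height (⟨z, rfl⟩ :
        ↥(fib (B := MvPolynomial (Fin N) R) (PrimeSpectrum.comap (algebraMap R (MvPolynomial (Fin N) R)) z))) := by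
    intro z
    rcases exists_invariants M z with ⟨hns, -, -⟩ | ⟨d, D, a, haD, hDd, hdN, hs, hdd, hh, hW, -⟩
    · exact iff_of_true (fun h => absurd (mem_support_of_assAt z h) hns) fun e _ _ he => absurd he.1 hns
    have hCe : ∀ e, z ∈ C e ↔ ∀ j < e, ¬ d ≤ a + j := fun e => by
      simp [C, hs, hW]
    rw [AssAt, hdd, hh, (coheight_eq_sub _ hh).2]
    dsimp only
    constructor
    · intro h e heN heS he
      rw [hCe] at he
      rcases Nat.lt_or_ge e d with hlt | hge
      · exact_mod_cast (show e + 1 ≤ d by omega)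
      · exfalso
        rcases Nat.eq_zero_or_pos e with he0 | hpos
        · obtain ⟨n, hn, hne⟩ := h (by exact_mod_cast (show a = 0 by omega))
          have hne' : N - d = n := by exact_mod_cast hne
          exact heS (show N - e = n by omega ▸ hn)
        · have := he (e - 1) (by omega)
          obtain ⟨n, hn, hne⟩ := h (by exact_mod_cast (show a = 0 by omega))
          have hne' : N - d = n := by exact_mod_cast hne
          exact heS (show N - e = n by omega ▸ hn)
    · intro h ha
      have ha' : a = 0 := by exact_mod_cast ha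
      by_contra hc
      push Not at hc
      have : ((d + 1 : ℕ) : ℕ∞) ≤ (d : ℕ∞) := h d hdN (fun hS => hc _ hS rfl) ((hCe d).2 fun j hj => by omega)
      have : d + 1 ≤ d := by exact_mod_cast this
      omega
  have heq : {q : PrimeSpectrum (MvPolynomial (Fin N) R) | AssDims R M S q} =
      ⋂ e ∈ {e | e ≤ N ∧ N - e ∉ S},
        {q | ∀ t : ↥(fib (B := MvPolynomial (Fin N) R)
          (PrimeSpectrum.comap (algebraMap R (MvPolynomial (Fin N) R)) q)),
          t.1 ≤ q → t.1 ∈ Module.support (MvPolynomial (Fin N) R) (MvPolynomial (Fin N) R ⧸ I e) →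
            ((e + 1 : ℕ) : ℕ∞) ≤ Order.height t + (0 : ℕ)} := by
    ext q
    simp only [Set.mem_iInter, Set.mem_ofPred_eq, hCI, and_imp]
    refine ⟨fun h e heN heS t ht htC => ?_, fun h t ht hta => ?_⟩
    · rw [Nat.cast_zero, add_zero, height_congr_fib t.2.symm t ⟨t.1, rfl⟩ rfl]
      refine (key t.1).1 (fun hta => ?_) e heN heS htC
      obtain ⟨n, hn, hne⟩ := h t ht hta
      exact ⟨n, hn, (coheight_congr_fib t.2 ⟨t.1, rfl⟩ t rfl).trans hne⟩
    · obtain ⟨n, hn, hne⟩ := (key t.1).2 (fun e heN heS htC => by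
        have := h e heN heS t ht htC
        rwa [Nat.cast_zero, add_zero, height_congr_fib t.2.symm t ⟨t.1, rfl⟩ rfl] at this) hta
      exact ⟨n, hn, (coheight_congr_fib t.2 ⟨t.1, rfl⟩ t rfl).symm.trans hne⟩
  rw [heq]
  exact (Set.Finite.subset (Set.finite_Iic N) fun e he => he.1).isOpen_biInter fun e _ => isOpen_codim _ _ 0

omit [Module R M] [IsScalarTower R (MvPolynomial (Fin N) R) M] [Module.FinitePresentation (MvPolynomial (Fin N) R) M]
  [Module.Flat R M] in
theorem skGen_one_iff_noEmb (q : PrimeSpectrum (MvPolynomial (Fin N) R)) : SkGen R M 1 q ↔ NoEmb R M q := by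
  constructor
  · intro h t ht hta t' ht' hta'
    have h1 := h t ht
    have hmem := mem_support_of_assAt _ hta'
    obtain ⟨t, hty⟩ := t
    change PrimeSpectrum.comap (algebraMap R (MvPolynomial (Fin N) R)) t =
      PrimeSpectrum.comap (algebraMap R (MvPolynomial (Fin N) R)) q at hty
    rcases exists_invariants M t with ⟨hns, -, -⟩ | ⟨d, D, a, haD, hDd, hdN, hs, hdd, hh, -, hG⟩
    · exact absurd (mem_support_of_assAt _ hta) hns
    rw [SkOne, hdd] at h1
    rw [AssAt, hdd] at hta
    dsimp only at h1 hta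
    have ha : a = 0 := by exact_mod_cast hta
    subst ha
    have hD : D = 0 := by
      by_contra hD
      rw [min_eq_left (by exact_mod_cast (show 1 ≤ D by omega) : ((1 : ℕ) : WithBot ℕ∞) ≤ (D : WithBot ℕ∞))] at h1
      have : (1 : ℕ) ≤ 0 := by exact_mod_cast h1
      omega
    have hle := (hG d).2 (by omega) ⟨t'.1, t'.2.trans hty.symm⟩ ht' hmem
    rw [Nat.cast_zero, add_zero] at hle
    rw [height_congr_fib hty ⟨t, rfl⟩ ⟨t, hty⟩ rfl] at hh
    rw [height_congr_fib hty ⟨t'.1, t'.2.trans hty.symm⟩ t' rfl] at hle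
    refine eq_of_le_of_not_lt (show t' ≤ ⟨t, hty⟩ from ht') fun hlt => ?_
    have hfin : Order.height t' < ⊤ :=
      lt_of_le_of_lt (le_self_add.trans_eq (height_add_coheight_fib _ t')) (ENat.natCast_lt_top N)
    exact absurd (hle.trans_lt ((Order.height_strictMono hlt hfin).trans_eq hh)) (lt_irrefl _)
  · intro h t ht
    rw [SkOne]
    rcases exists_invariants M t.1 with ⟨-, hdd, -⟩ | ⟨d, D, a, haD, hDd, hdN, hs, hdd, hh, -, hG⟩
    · rw [hdd]
      exact le_trans (min_le_right _ _) bot_le
    rw [hdd]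
    rcases Nat.eq_zero_or_pos a with ha | ha
    · subst ha
      have hta : AssAt R M t.1.asIdeal := by rw [AssAt, hdd]; rfl
      obtain ⟨t', ht', hta', hmin⟩ := exists_assAt_le M t hs
      have hD : D + d ≤ d := (hG d).1 fun s hs' hsM => by
        let s' : ↥(fib (B := MvPolynomial (Fin N) R)
          (PrimeSpectrum.comap (algebraMap R (MvPolynomial (Fin N) R)) q)) := ⟨s.1, s.2.trans t.2⟩
        have heq := h t ht hta t' ht' hta'
        have hst : s' = t := (hmin s' (heq ▸ hs' : _) hsM).trans heq
        rw [show s = ⟨t.1, rfl⟩ from Subtype.ext (congrArg (fun z => z.1) hst), hh, Nat.cast_zero, add_zero]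
      obtain rfl : D = 0 := by omega
      exact min_le_right _ _
    · dsimp only
      exact le_trans (min_le_left _ _) (by exact_mod_cast ha)

end Groth.Agent.Codepth5
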