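import Groth.Agent.Codepth5.Open
import Groth.Agent.LC.ExtDim
import Groth.Agent.QCoh.LocFree

/-!
# Cohen-Macaulay fibres, codepth loci on the base of a proper morphism
-/

set_option autoImplicit false
set_option linter.style.haveILetI false
set_option backward.isDefEq.respectTransparency false
set_option backward.isDefEq.respectTransparency.types false

universe u

open AlgebraicGeometry CategoryTheory IsLocalRing

namespace Groth.Agent.Codepth5

variable {X Y : Scheme.{u}} (f : X ⟶ Y) [LocallyOfFinitePresentation f]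

theorem cm_iff_cod_zero {R : Type u} [CommRing R] [IsLocalRing R] [IsNoetherianRing R] {M : Type u} [AddCommGroup M]
    [Module R M] [Module.Finite R M] :
    (Subsingleton M ∨ LocCoh.IsCohenMacaulayModule R M) ↔ Cod R M 0 := by
  rw [Cod, Nat.cast_zero, add_zero]
  refine ⟨?_, fun h => ?_⟩
  · rintro (h | h)
    · rw [Module.supportDim_eq_bot_of_subsingleton]
      exact bot_le
    · exact le_of_eq h
  · rcases subsingleton_or_nontrivial M with hM | hM
    · exact Or.inl hM
    · exact Or.inr (le_antisymm h (LC.depth_le_supportDim M))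

omit [LocallyOfFinitePresentation f] in
theorem finite_fibre_stalk (F : X.Modules) (hF : CohB1.IsFP F) (s : Y) (w : ↥(f.fiber s)) :
    Module.Finite ((f.fiber s).presheaf.stalk w)
      (((Scheme.Modules.pullback (f.fiberι s)).obj F).presheaf.stalk w) := by
  letI : Algebra (X.presheaf.stalk (f.fiberι s w)) ((f.fiber s).presheaf.stalk w) :=
    ((f.fiberι s).stalkMap w).hom.toAlgebra
  haveI : Module.Finite (X.presheaf.stalk (f.fiberι s w)) (F.presheaf.stalk (f.fiberι s w)) :=
    QCoh.finite_stalk_of_isFT (QCoh.isQCoh_of_isFP hF) (QCoh.isFT_of_isFP hF) _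
  let e₀ : ((Scheme.Modules.pullback (f.fiberι s)).obj F).presheaf.stalk w ≃ₗ[(f.fiber s).presheaf.stalk w]
      TensorProduct (X.presheaf.stalk (f.fiberι s w)) ((f.fiber s).presheaf.stalk w)
        (F.presheaf.stalk (f.fiberι s w)) :=
    ((KFlatLib.stalkPullbackIso (f.fiberι s) w).app F).toLinearEquiv
  haveI := Module.Finite.base_change (X.presheaf.stalk (f.fiberι s w)) ((f.fiber s).presheaf.stalk w)
    (F.presheaf.stalk (f.fiberι s w))
  exact Module.Finite.equiv e₀.symm

theorem cm_iff_cod (F : X.Modules) (hF : CohB1.IsFP F) (s : Y) (w : ↥(f.fiber s)) :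
    (Subsingleton (((Scheme.Modules.pullback (f.fiberι s)).obj F).presheaf.stalk w) ∨
      LocCoh.IsCohenMacaulayModule ((f.fiber s).presheaf.stalk w)
        (((Scheme.Modules.pullback (f.fiberι s)).obj F).presheaf.stalk w)) ↔
    Cod ((f.fiber s).presheaf.stalk w) (((Scheme.Modules.pullback (f.fiberι s)).obj F).presheaf.stalk w) 0 := by
  haveI : IsLocallyNoetherian (f.fiber s) :=
    LocallyOfFiniteType.isLocallyNoetherian (f.fiberToSpecResidueField s)
  haveI := finite_fibre_stalk f F hF s w
  exact cm_iff_cod_zero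

theorem isOpen_base_cod [IsProper f] (F : X.Modules) (hF : CohB1.IsFP F) (hflat : FlatMod.IsFlatOver f F) (k : ℕ) :
    IsOpen {y : Y | ∀ x : ↥(f.fiber y), Cod ((f.fiber y).presheaf.stalk x)
      (((Scheme.Modules.pullback (f.fiberι y)).obj F).presheaf.stalk x) k} := by
  convert (f.isClosedMap _ (isOpen_cod_module f F hF hflat k).isClosed_compl).isOpen_compl using 1
  ext y
  refine ⟨fun h => ?_, fun h w => ?_⟩
  · rintro ⟨x, hx, rfl⟩
    exact hx (h (f.asFiber x))
  · by_contra hw
    refine h ⟨f.fiberι y w, fun hmem => hw ?_, FlatDvr.fiberι_apply_eq f w⟩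
    exact (fibre_cod_iff f F _ _ w rfl k).2
      ((fibre_cod_iff f F _ _ _ (f.fiberι_asFiber (f.fiberι y w)) k).1 hmem)

end Groth.Agent.Codepth5
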