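import Groth.Agent.Codepth5.AssAff
import Groth.Agent.Codepth5.CM
import Groth.Agent.S5752

/-!
# Associated points of the fibres of a flat module on a scheme
-/

set_option autoImplicit false
set_option linter.style.haveILetI false
set_option backward.isDefEq.respectTransparency false
set_option backward.isDefEq.respectTransparency.types false

universe u

open AlgebraicGeometry CategoryTheory IsLocalRing TensorProduct

namespace Groth.Agent.Codepth5

open FibDim (fib)

section Affine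

variable {A B : Type u} [CommRing A] [CommRing B] [Algebra A B] [Algebra.FinitePresentation A B]
  (M : Type u) [AddCommGroup M] [Module B M] [Module A M] [IsScalarTower A B M] [Module.FinitePresentation B M]
  [Module.Flat A M]

theorem isOpen_assDims (S : Set ℕ) : IsOpen {q : PrimeSpectrum B | AssDims A M S q} := by
  obtain ⟨n, iB, iM, h1, h2, h3, hf, hfp⟩ := exists_presentation (A := A) (B := B) M
  convert (isOpen_assDims_poly M S).preimage
    (PrimeSpectrum.continuous_comap (algebraMap (MvPolynomial (Fin n) A) B)) using 1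
  ext q
  exact (assDims_iff_of_surjective (A := A) (P := MvPolynomial (Fin n) A) hf M S q).symm

theorem skGen_one_iff_noEmb' (q : PrimeSpectrum B) : SkGen A M 1 q ↔ NoEmb A M q := by
  obtain ⟨n, iB, iM, h1, h2, h3, hf, hfp⟩ := exists_presentation (A := A) (B := B) M
  rw [← noEmb_iff_of_surjective (A := A) (P := MvPolynomial (Fin n) A) hf M q,
    ← skGen_comap_iff (A := A) (P := MvPolynomial (Fin n) A) hf M 1 q]
  exact skGen_one_iff_noEmb M _

theorem equidim_iff (q : PrimeSpectrum B) (hs : SkGen A M 1 q) :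
    EGA4.IsEquidimModule (Localization.AtPrime q.asIdeal) (EGA4.FibLocMod A B q.asIdeal M) ↔
      ∃ n, AssDims A M {n} q := by
  obtain ⟨n, iB, iM, h1, h2, h3, hf, hfp⟩ := exists_presentation (A := A) (B := B) M
  rw [← (semi_surjective (A := A) (P := MvPolynomial (Fin n) A) hf M q).isEquidimModule_iff]
  refine Iff.trans (equidim_iff_poly M (PrimeSpectrum.comap (algebraMap (MvPolynomial (Fin n) A) B) q)
    ((skGen_comap_iff (A := A) (P := MvPolynomial (Fin n) A) hf M 1 q).2 hs)) (exists_congr fun m => ?_)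
  exact assDims_iff_of_surjective (A := A) (P := MvPolynomial (Fin n) A) hf M {m} q

theorem exists_assAt_le' (t : PrimeSpectrum B) (ht : t ∈ Module.support B M) :
    ∃ t' : PrimeSpectrum B, t' ≤ t ∧ PrimeSpectrum.comap (algebraMap A B) t' = PrimeSpectrum.comap (algebraMap A B) t ∧
      AssAt A M t'.asIdeal := by
  obtain ⟨n, iB, iM, h1, h2, h3, hf, hfp⟩ := exists_presentation (A := A) (B := B) M
  let ι := PrimeSpectrum.comap (algebraMap (MvPolynomial (Fin n) A) B)
  have hs : ι t ∈ Module.support (MvPolynomial (Fin n) A) M := by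
    rw [Module.mem_support_iff'] at ht ⊢
    obtain ⟨m, hm⟩ := ht
    exact ⟨m, fun r hr h0 => hm _ hr ((algebraMap_smul B r m).trans h0)⟩
  obtain ⟨t', ht', hta, -⟩ := exists_assAt_le M (⟨ι t, rfl⟩ : ↥(fib (B := MvPolynomial (Fin n) A)
    (PrimeSpectrum.comap (algebraMap A (MvPolynomial (Fin n) A)) (ι t)))) hs
  obtain ⟨b, hb⟩ := mem_range_of_mem_support hf M t'.1 (mem_support_of_assAt _ hta)
  obtain ⟨t', hty⟩ := t'
  subst hb
  exact ⟨b, (comap_le_comap_iff hf _ _).1 ht', ((comap_comap_fib b).symm.trans hty).trans (comap_comap_fib t),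
    (assAt_comap_iff hf M b).1 hta⟩

end Affine

section Scheme

variable {X Y : Scheme.{u}} (f : X ⟶ Y) [LocallyOfFinitePresentation f] (F : X.Modules)

/-- The restriction of `F` to a fibre. -/
noncomputable abbrev fibMod (y : Y) : (f.fiber y).Modules := (Scheme.Modules.pullback (f.fiberι y)).obj F

omit [LocallyOfFinitePresentation f] in
theorem isOpen_of_charts (P : X → Prop)
    (h : ∀ (U : X.Opens) (hU : IsAffineOpen U) (V : Y.Opens) (_ : IsAffineOpen V) (_ : U ≤ f ⁻¹ᵁ V),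
      ∃ S : Set (PrimeSpectrum Γ(X, U)), IsOpen S ∧ ∀ z (hz : z ∈ U), P z ↔ hU.primeIdealOf ⟨z, hz⟩ ∈ S) :
    IsOpen {x | P x} := by
  rw [isOpen_iff_forall_mem_open]
  intro x hx
  obtain ⟨V, hV, hxV, -⟩ := exists_isAffineOpen_mem_and_subset (U := (⊤ : Y.Opens)) (x := f x) trivial
  obtain ⟨U, hU, hxU, hUV⟩ := exists_isAffineOpen_mem_and_subset (U := f ⁻¹ᵁ V) (x := x) hxV
  obtain ⟨S, hS, hiff⟩ := h U hU V hV hUV
  refine ⟨hU.fromSpec '' S, ?_, hU.fromSpec.isOpenEmbedding.isOpenMap _ hS, ?_⟩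
  · rintro _ ⟨q, hq, rfl⟩
    have hz : hU.fromSpec q ∈ U := (Set.ext_iff.1 hU.range_fromSpec _).1 (Set.mem_range_self q)
    refine (hiff _ hz).2 ?_
    have he : hU.primeIdealOf ⟨hU.fromSpec q, hz⟩ = q :=
      hU.fromSpec.isOpenEmbedding.injective (hU.fromSpec_primeIdealOf ⟨_, hz⟩)
    exact he.symm ▸ hq
  · exact ⟨hU.primeIdealOf ⟨x, hxU⟩, (hiff x hxU).1 hx, hU.fromSpec_primeIdealOf ⟨x, hxU⟩⟩

theorem dim_closure_fibre {y : Y} (w : ↥(f.fiber y)) :
    topologicalKrullDim ↥(closure ({w} : Set ↥(f.fiber y))) = ((FibDim.rd f (f.fiberι y w) : ℕ∞) : WithBot ℕ∞) := by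
  have key : ∀ z, f.fiberι y w = z →
      topologicalKrullDim ↥(closure ({w} : Set ↥(f.fiber y))) = ((FibDim.rd f z : ℕ∞) : WithBot ℕ∞) := by
    intro z hz
    obtain rfl : f z = y := hz ▸ FlatDvr.fiberι_apply_eq f w
    obtain rfl : f.asFiber z = w :=
      (f.fiberι (f z)).isEmbedding.injective ((f.fiberι_asFiber z).trans hz.symm)
    exact VarDim.topologicalKrullDim_closure_singleton (k := Y.residueField (f z))
      (f.fiberToSpecResidueField (f z)) (f.asFiber z)
  exact key _ rfl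

theorem mem_ass_iff_depth (hF : CohB1.IsFP F) {y : Y} (w : ↥(f.fiber y)) :
    w ∈ AssSch.Ass (fibMod f F y) ↔
      (dd ((f.fiber y).presheaf.stalk w) ((fibMod f F y).presheaf.stalk w)).2 = 0 := by
  haveI : IsLocallyNoetherian (f.fiber y) :=
    LocallyOfFiniteType.isLocallyNoetherian (f.fiberToSpecResidueField y)
  haveI := finite_fibre_stalk f F hF y w
  exact (S5752.result _ ((fibMod f F y).presheaf.stalk w)).symm

variable {U : X.Opens} (hU : IsAffineOpen U) {V : Y.Opens} (hV : IsAffineOpen V) (hle : U ≤ f ⁻¹ᵁ V)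

omit [LocallyOfFinitePresentation f] in
theorem primeIdealOf_le_iff {a b : X} (ha : a ∈ U) (hb : b ∈ U) :
    hU.primeIdealOf ⟨a, ha⟩ ≤ hU.primeIdealOf ⟨b, hb⟩ ↔ a ⤳ b := by
  rw [PrimeSpectrum.le_iff_specializes, ← hU.fromSpec.isOpenEmbedding.isInducing.specializes_iff,
    hU.fromSpec_primeIdealOf, hU.fromSpec_primeIdealOf]

include hV hle in
omit [LocallyOfFinitePresentation f] in
theorem comap_primeIdealOf {a : X} (ha : a ∈ U) :
    letI := (f.appLE V U hle).hom.toAlgebra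
    PrimeSpectrum.comap (algebraMap Γ(Y, V) Γ(X, U)) (hU.primeIdealOf ⟨a, ha⟩) = hV.primeIdealOf ⟨f a, hle ha⟩ := by
  letI := (f.appLE V U hle).hom.toAlgebra
  refine hV.fromSpec.isOpenEmbedding.injective ?_
  rw [hV.fromSpec_primeIdealOf]
  show hV.fromSpec (Spec.map (f.appLE V U hle) (hU.primeIdealOf ⟨a, ha⟩)) = f a
  rw [← Scheme.Hom.comp_apply, hV.SpecMap_appLE_fromSpec f hU hle, Scheme.Hom.comp_apply, hU.fromSpec_primeIdealOf]

include hV hle in
omit [LocallyOfFinitePresentation f] in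
theorem comap_eq_iff {a b : X} (ha : a ∈ U) (hb : b ∈ U) :
    letI := (f.appLE V U hle).hom.toAlgebra
    PrimeSpectrum.comap (algebraMap Γ(Y, V) Γ(X, U)) (hU.primeIdealOf ⟨a, ha⟩) =
      PrimeSpectrum.comap (algebraMap Γ(Y, V) Γ(X, U)) (hU.primeIdealOf ⟨b, hb⟩) ↔ f a = f b := by
  rw [comap_primeIdealOf f hU hV hle ha, comap_primeIdealOf f hU hV hle hb]
  refine ⟨fun h => ?_, fun h => congrArg hV.primeIdealOf (Subtype.ext h)⟩
  have := congrArg hV.fromSpec h
  rwa [hV.fromSpec_primeIdealOf, hV.fromSpec_primeIdealOf] at this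

omit [LocallyOfFinitePresentation f] in
theorem fiberι_mem {x : X} (hx : x ∈ U) {w : ↥(f.fiber (f.base x))} (hw : w ⤳ f.asFiber x) :
    f.fiberι (f.base x) w ∈ U := by
  have h := hw.map (f.fiberι (f.base x)).continuous
  rw [f.fiberι_asFiber] at h
  exact h.mem_open U.isOpen hx

omit [LocallyOfFinitePresentation f] in
theorem specializes_fibre_iff {y : Y} (a b : ↥(f.fiber y)) :
    f.fiberι y a ⤳ f.fiberι y b ↔ a ⤳ b :=
  (f.fiberι y).isEmbedding.isInducing.specializes_iff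

include hV hle in
omit [LocallyOfFinitePresentation f] in
/-- The prime of a generization in the fibre. -/
theorem mem_fib_of_specializes {x : X} (hx : x ∈ U) {w : ↥(f.fiber (f.base x))} (hw : w ⤳ f.asFiber x) :
    letI := (f.appLE V U hle).hom.toAlgebra
    hU.primeIdealOf ⟨_, fiberι_mem f hx hw⟩ ∈ fib (B := Γ(X, U))
        (PrimeSpectrum.comap (algebraMap Γ(Y, V) Γ(X, U)) (hU.primeIdealOf ⟨x, hx⟩)) ∧
      hU.primeIdealOf ⟨_, fiberι_mem f hx hw⟩ ≤ hU.primeIdealOf ⟨x, hx⟩ := by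
  refine ⟨(comap_eq_iff f hU hV hle _ hx).2 (FlatDvr.fiberι_apply_eq f w), ?_⟩
  rw [primeIdealOf_le_iff]
  have h := hw.map (f.fiberι (f.base x)).continuous
  rwa [f.fiberι_asFiber] at h

include hV hle in
omit [LocallyOfFinitePresentation f] in
theorem exists_fibre_point {x : X} (hx : x ∈ U) (t : PrimeSpectrum Γ(X, U))
    (hfib : letI := (f.appLE V U hle).hom.toAlgebra
      PrimeSpectrum.comap (algebraMap Γ(Y, V) Γ(X, U)) t =
        PrimeSpectrum.comap (algebraMap Γ(Y, V) Γ(X, U)) (hU.primeIdealOf ⟨x, hx⟩))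
    (ht : t ≤ hU.primeIdealOf ⟨x, hx⟩) :
    ∃ (w : ↥(f.fiber (f.base x))) (hw : w ⤳ f.asFiber x), hU.primeIdealOf ⟨_, fiberι_mem f hx hw⟩ = t := by
  have ha : hU.fromSpec t ∈ U := (Set.ext_iff.1 hU.range_fromSpec _).1 (Set.mem_range_self t)
  have he : hU.primeIdealOf ⟨hU.fromSpec t, ha⟩ = t :=
    hU.fromSpec.isOpenEmbedding.injective (hU.fromSpec_primeIdealOf ⟨_, ha⟩)
  rw [← he] at hfib ht
  have hfa : f (hU.fromSpec t) = f x := (comap_eq_iff f hU hV hle ha hx).1 hfib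
  obtain ⟨w, hw⟩ : hU.fromSpec t ∈ Set.range (f.fiberι (f.base x)) := by
    rw [f.range_fiberι]
    exact hfa
  have hwx : w ⤳ f.asFiber x := by
    rw [← specializes_fibre_iff, hw, f.fiberι_asFiber]
    exact (primeIdealOf_le_iff hU ha hx).1 ht
  exact ⟨w, hwx, (congrArg hU.primeIdealOf (Subtype.ext hw)).trans he⟩

include hV in
omit [LocallyOfFinitePresentation f] in
theorem semi_fibre_chart (hF : CohB1.IsFP F) {y : Y} (w : ↥(f.fiber y)) {z : X} (hz : z ∈ U)
    (hw : f.fiberι y w = z) :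
    letI := (f.appLE V U hle).hom.toAlgebra
    Semi (Localization.AtPrime (hU.primeIdealOf ⟨z, hz⟩).asIdeal)
         (EGA4.FibLocMod Γ(Y, V) Γ(X, U) (hU.primeIdealOf ⟨z, hz⟩).asIdeal Γ(F, U))
      ((f.fiber y).presheaf.stalk w) ((fibMod f F y).presheaf.stalk w) := by
  letI := QCoh.stalkModule F hz
  haveI := QCoh.isLocalizedModule_germLin (QCoh.isQCoh_of_isFP hF) hU hz
  exact (semi_chart f hU hV hle hz (fun _ _ => rfl) (QCoh.germLin F hz)).trans (fibre_semi f F z y w hw)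

include hV in
theorem mem_ass_iff_assAt (hF : CohB1.IsFP F) {y : Y} (w : ↥(f.fiber y)) {z : X} (hz : z ∈ U)
    (hw : f.fiberι y w = z) :
    letI := (f.appLE V U hle).hom.toAlgebra
    w ∈ AssSch.Ass (fibMod f F y) ↔ AssAt Γ(Y, V) Γ(F, U) (hU.primeIdealOf ⟨z, hz⟩).asIdeal := by
  rw [mem_ass_iff_depth f F hF w, AssAt, (semi_fibre_chart f F hU hV hle hF w hz hw).dd_eq]

include hV in
theorem dim_closure_chart {x : X} (hx : x ∈ U) {w : ↥(f.fiber (f.base x))} (hw : w ⤳ f.asFiber x) :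
    letI := (f.appLE V U hle).hom.toAlgebra
    topologicalKrullDim ↥(closure ({w} : Set ↥(f.fiber (f.base x)))) =
      ((Order.coheight (⟨hU.primeIdealOf ⟨_, fiberι_mem f hx hw⟩, (mem_fib_of_specializes f hU hV hle hx hw).1⟩ :
        ↥(fib (B := Γ(X, U)) (PrimeSpectrum.comap (algebraMap Γ(Y, V) Γ(X, U)) (hU.primeIdealOf ⟨x, hx⟩)))) : ℕ∞) :
          WithBot ℕ∞) := by
  letI := (f.appLE V U hle).hom.toAlgebra
  have h := coheight_eq_rd f hU hV hle (hU.primeIdealOf ⟨_, fiberι_mem f hx hw⟩)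
  rw [hU.fromSpec_primeIdealOf] at h
  rw [dim_closure_fibre, ← h]
  exact congrArg _ (coheight_congr_fib (mem_fib_of_specializes f hU hV hle hx hw).1 _ _ rfl)

/-- The condition on the dimensions of the associated points of the fibre through `x`. -/
def AssDimsAt (S : Set ℕ) (x : X) : Prop :=
  ∀ w ∈ AssSch.Ass (fibMod f F (f.base x)), w ⤳ f.asFiber x →
    ∃ n ∈ S, topologicalKrullDim ↥(closure ({w} : Set ↥(f.fiber (f.base x)))) = (n : WithBot ℕ∞)

/-- The condition that `x` lies on no embedded associated cycle of its fibre. -/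
def NoEmbAt (x : X) : Prop :=
  ∀ w ∈ AssSch.Ass (fibMod f F (f.base x)), w ⤳ f.asFiber x →
    ∀ w' ∈ AssSch.Ass (fibMod f F (f.base x)), w' ⤳ w → w' = w

include hV in
theorem assDimsAt_iff (hF : CohB1.IsFP F) (S : Set ℕ) {x : X} (hx : x ∈ U) :
    letI := (f.appLE V U hle).hom.toAlgebra
    AssDimsAt f F S x ↔ AssDims Γ(Y, V) Γ(F, U) S (hU.primeIdealOf ⟨x, hx⟩) := by
  letI := (f.appLE V U hle).hom.toAlgebra
  constructor
  · intro h t ht hta
    obtain ⟨w, hw, hwt⟩ := exists_fibre_point f hU hV hle hx t.1 t.2 ht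
    obtain ⟨n, hn, hd⟩ := h w ((mem_ass_iff_assAt f F hU hV hle hF w _ rfl).2 (by
      have key : ∀ q : PrimeSpectrum Γ(X, U), q = t.1 → AssAt Γ(Y, V) Γ(F, U) q.asIdeal := fun q hq => hq ▸ hta
      exact key _ hwt)) hw
    refine ⟨n, hn, ?_⟩
    rw [dim_closure_chart f hU hV hle hx hw] at hd
    have hd' := congrArg Order.coheight (Subtype.ext hwt : (⟨_, (mem_fib_of_specializes f hU hV hle hx hw).1⟩ :
      ↥(fib (B := Γ(X, U)) (PrimeSpectrum.comap (algebraMap Γ(Y, V) Γ(X, U)) (hU.primeIdealOf ⟨x, hx⟩)))) = t)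
    rw [← hd']
    exact_mod_cast hd
  · intro h w hwa hw
    obtain ⟨n, hn, hc⟩ := h ⟨_, (mem_fib_of_specializes f hU hV hle hx hw).1⟩
      (mem_fib_of_specializes f hU hV hle hx hw).2 ((mem_ass_iff_assAt f F hU hV hle hF w _ rfl).1 hwa)
    exact ⟨n, hn, by rw [dim_closure_chart f hU hV hle hx hw, hc]; rfl⟩

include hV in
theorem noEmbAt_iff (hF : CohB1.IsFP F) {x : X} (hx : x ∈ U) :
    letI := (f.appLE V U hle).hom.toAlgebra
    NoEmbAt f F x ↔ NoEmb Γ(Y, V) Γ(F, U) (hU.primeIdealOf ⟨x, hx⟩) := by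
  letI := (f.appLE V U hle).hom.toAlgebra
  have hass : ∀ (q : PrimeSpectrum Γ(X, U)) (w : ↥(f.fiber (f.base x))) (hw : w ⤳ f.asFiber x),
      hU.primeIdealOf ⟨_, fiberι_mem f hx hw⟩ = q →
        (w ∈ AssSch.Ass (fibMod f F (f.base x)) ↔ AssAt Γ(Y, V) Γ(F, U) q.asIdeal) := by
    rintro q w hw rfl
    exact mem_ass_iff_assAt f F hU hV hle hF w _ rfl
  constructor
  · intro h t ht hta t' ht' hta'
    obtain ⟨w, hw, hwt⟩ := exists_fibre_point f hU hV hle hx t.1 t.2 ht
    obtain ⟨w', hw', hwt'⟩ := exists_fibre_point f hU hV hle hx t'.1 t'.2 (le_trans ht' ht)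
    have hspec : w' ⤳ w := by
      rw [← specializes_fibre_iff, ← primeIdealOf_le_iff hU (fiberι_mem f hx hw') (fiberι_mem f hx hw), hwt, hwt']
      exact ht'
    obtain rfl := h w ((hass _ w hw hwt).2 hta) hw w' ((hass _ w' hw' hwt').2 hta') hspec
    exact Subtype.ext (hwt'.symm.trans hwt)
  · intro h w hwa hw w' hwa' hspec
    have hw' := hspec.trans hw
    have hle' : hU.primeIdealOf ⟨_, fiberι_mem f hx hw'⟩ ≤ hU.primeIdealOf ⟨_, fiberι_mem f hx hw⟩ := by
      rw [primeIdealOf_le_iff, specializes_fibre_iff]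
      exact hspec
    have := h ⟨_, (mem_fib_of_specializes f hU hV hle hx hw).1⟩ (mem_fib_of_specializes f hU hV hle hx hw).2
      ((hass _ w hw rfl).1 hwa) ⟨_, (mem_fib_of_specializes f hU hV hle hx hw').1⟩ hle' ((hass _ w' hw' rfl).1 hwa')
    have h2 := congrArg (fun s => hU.fromSpec s.1) this
    simp only [hU.fromSpec_primeIdealOf] at h2
    exact (f.fiberι _).isEmbedding.injective h2

/-- The loci of the dimensions of the associated points are open. -/
theorem isOpen_assDimsAt (hF : CohB1.IsFP F) (hflat : FlatMod.IsFlatOver f F) (S : Set ℕ) :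
    IsOpen {x : X | AssDimsAt f F S x} := by
  refine isOpen_of_charts f _ fun U hU V hV hle => ?_
  letI : Algebra Γ(Y, V) Γ(X, U) := (f.appLE V U hle).hom.toAlgebra
  haveI : Algebra.FinitePresentation Γ(Y, V) Γ(X, U) := f.finitePresentation_appLE hV hU hle
  letI : Module Γ(Y, V) Γ(F, U) := Module.compHom _ (f.appLE V U hle).hom
  haveI : IsScalarTower Γ(Y, V) Γ(X, U) Γ(F, U) := IsScalarTower.of_algebraMap_smul fun _ _ => rfl
  haveI := QCoh.finitePresentation_of_isFP hF hU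
  haveI : Module.Flat Γ(Y, V) Γ(F, U) :=
    (QCoh.flat_appLE_iff f (QCoh.isQCoh_of_isFP hF) hU hV hle).2 fun z _ => hflat z
  exact ⟨_, isOpen_assDims Γ(F, U) S, fun z hz => assDimsAt_iff f F hU hV hle hF S hz⟩

/-- The locus outside the embedded associated cycles is open. -/
theorem isOpen_noEmbAt (hF : CohB1.IsFP F) (hflat : FlatMod.IsFlatOver f F) :
    IsOpen {x : X | NoEmbAt f F x} := by
  refine isOpen_of_charts f _ fun U hU V hV hle => ?_
  letI : Algebra Γ(Y, V) Γ(X, U) := (f.appLE V U hle).hom.toAlgebra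
  haveI : Algebra.FinitePresentation Γ(Y, V) Γ(X, U) := f.finitePresentation_appLE hV hU hle
  letI : Module Γ(Y, V) Γ(F, U) := Module.compHom _ (f.appLE V U hle).hom
  haveI : IsScalarTower Γ(Y, V) Γ(X, U) Γ(F, U) := IsScalarTower.of_algebraMap_smul fun _ _ => rfl
  haveI := QCoh.finitePresentation_of_isFP hF hU
  haveI : Module.Flat Γ(Y, V) Γ(F, U) :=
    (QCoh.flat_appLE_iff f (QCoh.isQCoh_of_isFP hF) hU hV hle).2 fun z _ => hflat z
  exact ⟨_, isOpen_skGen_affine Γ(F, U) 1, fun z hz =>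
    (noEmbAt_iff f F hU hV hle hF hz).trans (skGen_one_iff_noEmb' Γ(F, U) _).symm⟩

/-- The locus of equidimensional fibre stalks with Serre's condition is open. -/
theorem isOpen_equidimSk (hF : CohB1.IsFP F) (hflat : FlatMod.IsFlatOver f F) (k : ℕ) (hk : 1 ≤ k) :
    IsOpen {x : X | EGA4.IsEquidimModule ((f.fiber (f.base x)).presheaf.stalk (f.asFiber x))
        ((fibMod f F (f.base x)).presheaf.stalk (f.asFiber x)) ∧
      LocCoh.HasSk k ((f.fiber (f.base x)).presheaf.stalk (f.asFiber x))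
        ((fibMod f F (f.base x)).presheaf.stalk (f.asFiber x))} := by
  refine isOpen_of_charts f _ fun U hU V hV hle => ?_
  letI : Algebra Γ(Y, V) Γ(X, U) := (f.appLE V U hle).hom.toAlgebra
  haveI : Algebra.FinitePresentation Γ(Y, V) Γ(X, U) := f.finitePresentation_appLE hV hU hle
  letI : Module Γ(Y, V) Γ(F, U) := Module.compHom _ (f.appLE V U hle).hom
  haveI : IsScalarTower Γ(Y, V) Γ(X, U) Γ(F, U) := IsScalarTower.of_algebraMap_smul fun _ _ => rfl
  haveI := QCoh.finitePresentation_of_isFP hF hU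
  haveI : Module.Flat Γ(Y, V) Γ(F, U) :=
    (QCoh.flat_appLE_iff f (QCoh.isQCoh_of_isFP hF) hU hV hle).2 fun z _ => hflat z
  refine ⟨{q | SkGen Γ(Y, V) Γ(F, U) k q} ∩ ⋃ n : ℕ, {q | AssDims Γ(Y, V) Γ(F, U) {n} q},
    (isOpen_skGen_affine Γ(F, U) k).inter (isOpen_iUnion fun n => isOpen_assDims Γ(F, U) {n}), fun z hz => ?_⟩
  have hs := semi_fibre_chart f F hU hV hle hF (f.asFiber z) hz (f.fiberι_asFiber z)
  rw [← hs.isEquidimModule_iff, ← hs.hasSk_iff k, hasSk_fibLocMod_iff]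
  have h1 : SkGen Γ(Y, V) Γ(F, U) k (hU.primeIdealOf ⟨z, hz⟩) →
      SkGen Γ(Y, V) Γ(F, U) 1 (hU.primeIdealOf ⟨z, hz⟩) := fun h t ht =>
    le_trans (min_le_min_right _ (by exact_mod_cast hk)) (h t ht)
  simp only [Set.mem_inter_iff, Set.mem_iUnion, Set.mem_ofPred_eq]
  exact ⟨fun h => ⟨h.2, (equidim_iff Γ(F, U) _ (h1 h.2)).1 h.1⟩,
    fun h => ⟨(equidim_iff Γ(F, U) _ (h1 h.1)).2 h.2, h.1⟩⟩

end Scheme

end Groth.Agent.Codepth5
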