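import Groth.Agent.Codepth5.BCGen

/-!
# The fibre invariants of a module under change of base
-/

set_option autoImplicit false
set_option linter.style.haveILetI false
set_option backward.isDefEq.respectTransparency false
set_option backward.isDefEq.respectTransparency.types false

universe u

open IsLocalRing TensorProduct

attribute [local instance] MvPolynomial.algebraMvPolynomial

namespace Groth.Agent.Codepth5

open FibDim (fib)

variable {N : ℕ}

/-- The height of a point in its fibre. -/
noncomputable def fibHt {A B : Type u} [CommRing A] [CommRing B] [Algebra A B] (q : PrimeSpectrum B) : ℕ∞ :=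
  Order.height (⟨q, rfl⟩ : ↥(fib (B := B) (PrimeSpectrum.comap (algebraMap A B) q)))

instance tower_poly (A A' : Type u) [CommRing A] [CommRing A'] [Algebra A A'] :
    IsScalarTower A (MvPolynomial (Fin N) A) (MvPolynomial (Fin N) A') :=
  IsScalarTower.of_algebraMap_eq fun a => by
    show MvPolynomial.C (algebraMap A A' a) = MvPolynomial.map (algebraMap A A') (MvPolynomial.C a)
    rw [MvPolynomial.map_C]

theorem tower_poly₃ (A A' A'' : Type u) [CommRing A] [CommRing A'] [CommRing A''] [Algebra A A'] [Algebra A A'']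
    [Algebra A' A''] [IsScalarTower A A' A''] :
    IsScalarTower (MvPolynomial (Fin N) A) (MvPolynomial (Fin N) A') (MvPolynomial (Fin N) A'') :=
  IsScalarTower.of_algebraMap_eq fun a => by
    show MvPolynomial.map (algebraMap A A'') a =
      MvPolynomial.map (algebraMap A' A'') (MvPolynomial.map (algebraMap A A') a)
    rw [MvPolynomial.map_map, ← IsScalarTower.algebraMap_eq]

section Residue

variable {A : Type u} [CommRing A] (p : Ideal A) [p.IsPrime]

local notation "PP" => MvPolynomial (Fin N) A
local notation "SS" => MvPolynomial (Fin N) p.ResidueField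

theorem isUnit_C_residue {r : A} (hr : r ∉ p) :
    IsUnit (MvPolynomial.C (algebraMap A p.ResidueField r) : SS) := by
  refine (IsUnit.mk0 _ ?_).map MvPolynomial.C
  rw [Ne, Ideal.algebraMap_residueField_eq_zero]
  exact hr

theorem exists_mul_eq_algebraMap (s : SS) :
    ∃ r ∉ p, ∃ a : PP, algebraMap PP SS a = MvPolynomial.C (algebraMap A p.ResidueField r) * s := by
  induction s using MvPolynomial.induction_on with
  | C c =>
    obtain ⟨t, rfl⟩ := IsLocalRing.residue_surjective c
    obtain ⟨⟨a, b⟩, rfl⟩ := IsLocalization.mk'_surjective p.primeCompl t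
    refine ⟨b, b.2, MvPolynomial.C a, ?_⟩
    show MvPolynomial.map (algebraMap A p.ResidueField) (MvPolynomial.C a) = _
    rw [MvPolynomial.map_C, ← map_mul]
    refine congrArg MvPolynomial.C ?_
    show residue _ (algebraMap A (Localization.AtPrime p) a) =
      residue _ (algebraMap A (Localization.AtPrime p) b) * residue _ _
    rw [← map_mul, IsLocalization.mk'_spec']
  | add s₁ s₂ h₁ h₂ =>
    obtain ⟨r₁, hr₁, a₁, ha₁⟩ := h₁
    obtain ⟨r₂, hr₂, a₂, ha₂⟩ := h₂
    refine ⟨r₁ * r₂, fun h => (Ideal.IsPrime.mem_or_mem ‹_› h).elim hr₁ hr₂,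
      MvPolynomial.C r₂ * a₁ + MvPolynomial.C r₁ * a₂, ?_⟩
    have hC : ∀ r : A, algebraMap PP SS (MvPolynomial.C r) = MvPolynomial.C (algebraMap A p.ResidueField r) :=
      fun r => MvPolynomial.map_C _ r
    rw [map_add, map_mul, map_mul, ha₁, ha₂, hC, hC, map_mul, map_mul]
    ring
  | mul_X s i h =>
    obtain ⟨r, hr, a, ha⟩ := h
    refine ⟨r, hr, a * MvPolynomial.X i, ?_⟩
    have hX : algebraMap PP SS (MvPolynomial.X i) = MvPolynomial.X i := MvPolynomial.map_X _ i
    rw [map_mul, ha, hX, mul_assoc]

theorem comap_residue_le_iff (Q₁ Q₂ : PrimeSpectrum SS) :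
    PrimeSpectrum.comap (algebraMap PP SS) Q₁ ≤ PrimeSpectrum.comap (algebraMap PP SS) Q₂ ↔ Q₁ ≤ Q₂ := by
  refine ⟨fun h s hs => ?_, fun h => Ideal.comap_mono h⟩
  obtain ⟨r, hr, a, ha⟩ := exists_mul_eq_algebraMap p s
  have h1 : a ∈ (PrimeSpectrum.comap (algebraMap PP SS) Q₁).asIdeal := by
    show algebraMap PP SS a ∈ Q₁.asIdeal
    rw [ha]
    exact Ideal.mul_mem_left _ _ hs
  have h2 : algebraMap PP SS a ∈ Q₂.asIdeal := h h1
  rwa [ha, Ideal.unit_mul_mem_iff_mem _ (isUnit_C_residue p hr)] at h2

theorem comap_comap_residue (Q : PrimeSpectrum SS) :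
    (PrimeSpectrum.comap (algebraMap A PP) (PrimeSpectrum.comap (algebraMap PP SS) Q)).asIdeal = p := by
  show (Q.asIdeal.comap (algebraMap PP SS)).comap (algebraMap A PP) = p
  rw [Ideal.comap_comap, ← IsScalarTower.algebraMap_eq, IsScalarTower.algebraMap_eq A p.ResidueField SS,
    ← Ideal.comap_comap]
  have hbot : Q.asIdeal.comap (algebraMap p.ResidueField SS) = ⊥ :=
    (Ideal.eq_bot_or_top _).resolve_right (Ideal.IsPrime.ne_top inferInstance)
  rw [hbot, ← RingHom.ker_eq_comap_bot, Ideal.ker_algebraMap_residueField]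

theorem exists_residue_point (q : PrimeSpectrum PP) (hq : q.asIdeal.comap (algebraMap A PP) = p) :
    ∃ Q : PrimeSpectrum SS, PrimeSpectrum.comap (algebraMap PP SS) Q = q := by
  obtain ⟨Q, hQ⟩ := FlatLoc6.exists_fiber_prime p q.asIdeal hq
  let e := MvPolynomial.algebraTensorAlgEquiv (σ := Fin N) A p.ResidueField
  refine ⟨PrimeSpectrum.comap e.symm.toRingHom Q, PrimeSpectrum.ext ?_⟩
  show (Q.asIdeal.comap e.symm.toRingHom).comap (algebraMap PP SS) = q.asIdeal
  rw [← hQ, Ideal.comap_comap]
  refine congrArg (fun h => Ideal.comap h Q.asIdeal) (RingHom.ext fun a => ?_)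
  show e.symm (algebraMap PP SS a) = (1 : p.ResidueField) ⊗ₜ[A] a
  rw [AlgEquiv.symm_apply_eq]
  show MvPolynomial.map (algebraMap A p.ResidueField) a = e (1 ⊗ₜ[A] a)
  rw [MvPolynomial.algebraTensorAlgEquiv_tmul, one_smul]

/-- The local ring of the fibre of affine space is a local ring of affine space over the residue field. -/
theorem exists_residue_equiv (q : PrimeSpectrum PP) (hq : q.asIdeal.comap (algebraMap A PP) = p)
    (Q : PrimeSpectrum SS) (hQ : PrimeSpectrum.comap (algebraMap PP SS) Q = q) :
    Nonempty (EGA4.FibLocRing A PP q.asIdeal ≃ₐ[PP] Localization.AtPrime Q.asIdeal) := by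
  let L := Localization.AtPrime q.asIdeal
  let LQ := Localization.AtPrime Q.asIdeal
  have hQ' : q.asIdeal = Q.asIdeal.comap (algebraMap PP SS) := congrArg PrimeSpectrum.asIdeal hQ.symm
  let σ : L →+* LQ := Localization.localRingHom q.asIdeal Q.asIdeal (algebraMap PP SS) hQ'
  have hσ : ∀ a : PP, σ (algebraMap PP L a) = algebraMap SS LQ (algebraMap PP SS a) := fun a =>
    Localization.localRingHom_to_map _ _ _ hQ' a
  have hunit : ∀ {r : A}, r ∉ p → IsUnit (algebraMap A L r) := fun {r} hr => by
    rw [IsScalarTower.algebraMap_apply A PP L]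
    exact IsLocalization.map_units L (⟨algebraMap A PP r, fun h => hr (hq.le h)⟩ : q.asIdeal.primeCompl)
  have hC : ∀ r : A, algebraMap PP SS (algebraMap A PP r) = MvPolynomial.C (algebraMap A p.ResidueField r) :=
    fun r => MvPolynomial.map_C _ r
  have hsurj : Function.Surjective σ := fun z => by
    obtain ⟨u, v, rfl⟩ := IsLocalization.exists_mk'_eq Q.asIdeal.primeCompl z
    obtain ⟨r, hr, a, ha⟩ := exists_mul_eq_algebraMap p u
    obtain ⟨r', hr', b, hb⟩ := exists_mul_eq_algebraMap p (v : SS)
    have hbq : b ∉ q.asIdeal := fun h => by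
      have h' : algebraMap PP SS b ∈ Q.asIdeal := hQ'.le h
      rw [hb, Ideal.unit_mul_mem_iff_mem _ (isUnit_C_residue p hr')] at h'
      exact v.2 h'
    obtain ⟨i, hi⟩ := (hunit hr).exists_left_inv
    refine ⟨IsLocalization.mk' L a (⟨b, hbq⟩ : q.asIdeal.primeCompl) * (algebraMap A L r' * i), ?_⟩
    have hi' : σ i * algebraMap SS LQ (MvPolynomial.C (algebraMap A p.ResidueField r)) = 1 := by
      rw [← hC, ← hσ, ← map_mul, ← IsScalarTower.algebraMap_apply, hi, map_one]
    have hr'' : σ (algebraMap A L r') = algebraMap SS LQ (MvPolynomial.C (algebraMap A p.ResidueField r')) := by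
      rw [IsScalarTower.algebraMap_apply A PP L, hσ, hC]
    rw [eq_comm, IsLocalization.mk'_eq_iff_eq_mul]
    have hspec : σ (IsLocalization.mk' L a (⟨b, hbq⟩ : q.asIdeal.primeCompl)) *
        (algebraMap SS LQ (MvPolynomial.C (algebraMap A p.ResidueField r')) * algebraMap SS LQ (v : SS)) =
        algebraMap SS LQ (MvPolynomial.C (algebraMap A p.ResidueField r)) * algebraMap SS LQ u := by
      rw [← map_mul, ← hb, ← hσ, ← map_mul, IsLocalization.mk'_spec, hσ, ha, map_mul]
    calc algebraMap SS LQ u = σ i * (algebraMap SS LQ (MvPolynomial.C (algebraMap A p.ResidueField r)) *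
          algebraMap SS LQ u) := by rw [← mul_assoc, hi', one_mul]
      _ = _ := by
        rw [← hspec, map_mul, map_mul, hr'']
        ring
  let J : Ideal L := (q.asIdeal.comap (algebraMap A PP)).map (algebraMap A L)
  have hker : RingHom.ker σ = J := by
    refine le_antisymm (fun z hz => ?_) ?_
    · obtain ⟨a, s, rfl⟩ := IsLocalization.exists_mk'_eq q.asIdeal.primeCompl z
      have h1 : σ (algebraMap PP L a) = 0 := by
        rw [← IsLocalization.mk'_spec L a s, map_mul, RingHom.mem_ker.1 hz, zero_mul]
      rw [hσ] at h1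
      obtain ⟨t, ht⟩ := (IsLocalization.map_eq_zero_iff Q.asIdeal.primeCompl LQ _).1 h1
      have ht0 : (t : SS) ≠ 0 := fun h => t.2 (h ▸ Q.asIdeal.zero_mem)
      have ha : a ∈ RingHom.ker (MvPolynomial.map (σ := Fin N) (algebraMap A p.ResidueField)) :=
        (mul_eq_zero.1 ht).resolve_left ht0
      rw [MvPolynomial.ker_map, Ideal.ker_algebraMap_residueField] at ha
      rw [IsLocalization.mk'_mem_iff]
      have h2 := Ideal.mem_map_of_mem (algebraMap PP L) ha
      rw [Ideal.map_map] at h2
      show algebraMap PP L a ∈ J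
      convert h2 using 1
      rw [show J = (q.asIdeal.comap (algebraMap A PP)).map (algebraMap A L) from rfl, hq,
        IsScalarTower.algebraMap_eq A PP L]
      rfl
    · rw [Ideal.map_le_iff_le_comap]
      intro r hr
      rw [hq] at hr
      show σ (algebraMap A L r) = 0
      rw [IsScalarTower.algebraMap_apply A PP L, hσ, hC, Ideal.algebraMap_residueField_eq_zero.2 hr, map_zero,
        map_zero]
  let τ := (Ideal.quotEquivOfEq hker.symm).trans (RingHom.quotientKerEquivOfSurjective hsurj)
  refine ⟨AlgEquiv.ofRingEquiv (f := τ) fun a => ?_⟩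
  show σ (algebraMap PP L a) = algebraMap PP LQ a
  rw [hσ, ← IsScalarTower.algebraMap_apply]

theorem fibHt_residue (q : PrimeSpectrum PP) (hq : q.asIdeal.comap (algebraMap A PP) = p) (Q : PrimeSpectrum SS)
    (hQ : PrimeSpectrum.comap (algebraMap PP SS) Q = q) : fibHt (A := A) q = Q.asIdeal.height := by
  obtain ⟨d, -, hd, hdh⟩ := exists_dim_fibLocRing q
  obtain ⟨τ⟩ := exists_residue_equiv p q hq Q hQ
  rw [ringKrullDim_eq_of_ringEquiv τ.toRingEquiv,
    IsLocalization.AtPrime.ringKrullDim_eq_height Q.asIdeal (Localization.AtPrime Q.asIdeal)] at hd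
  rw [show fibHt (A := A) q = d from hdh]
  exact_mod_cast hd.symm

theorem isRegularRing_residue : IsRegularRing SS :=
  inferInstance

end Residue

section Field

variable (k K : Type u) [Field k] [Field K] [Algebra k K]

theorem flat_poly_field : Module.Flat (MvPolynomial (Fin N) k) (MvPolynomial (Fin N) K) :=
  Module.Flat.isBaseChange (R := k) (M := K) (S := MvPolynomial (Fin N) k) (N := MvPolynomial (Fin N) K)
    (Algebra.IsPushout.out (R := k) (S := MvPolynomial (Fin N) k) (R' := K) (S' := MvPolynomial (Fin N) K))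

end Field

section Change

/-- The module after change of base. -/
abbrev bcMod {A : Type u} [CommRing A] (M : Type u) [AddCommGroup M] [Module (MvPolynomial (Fin N) A) M]
    (A' : Type u) [CommRing A'] [Algebra A A'] : Type u :=
  MvPolynomial (Fin N) A' ⊗[MvPolynomial (Fin N) A] M

variable {A A' : Type u} [CommRing A] [CommRing A'] [Algebra A A']
  (M : Type u) [AddCommGroup M] [Module (MvPolynomial (Fin N) A) M]

variable [Module.Finite (MvPolynomial (Fin N) A) M]

/-- The invariants at a point after change of base are those below shifted by a number. -/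
theorem bc_invariants (q' : PrimeSpectrum (MvPolynomial (Fin N) A')) :
    ∃ e : ℕ,
      fibHt (A := A') q' =
        fibHt (A := A) (PrimeSpectrum.comap (algebraMap (MvPolynomial (Fin N) A) (MvPolynomial (Fin N) A')) q') + e ∧
      (q' ∈ Module.support (MvPolynomial (Fin N) A') (bcMod (N := N) (A := A) M A') ↔
        PrimeSpectrum.comap (algebraMap (MvPolynomial (Fin N) A) (MvPolynomial (Fin N) A')) q' ∈
          Module.support (MvPolynomial (Fin N) A) M) ∧
      (dd (Localization.AtPrime q'.asIdeal) (EGA4.FibLocMod A' (MvPolynomial (Fin N) A') q'.asIdeal (bcMod (N := N) (A := A) M A'))).1 =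
        (dd (Localization.AtPrime (PrimeSpectrum.comap (algebraMap (MvPolynomial (Fin N) A) (MvPolynomial (Fin N) A')) q').asIdeal)
          (EGA4.FibLocMod A (MvPolynomial (Fin N) A)
            (PrimeSpectrum.comap (algebraMap (MvPolynomial (Fin N) A) (MvPolynomial (Fin N) A')) q').asIdeal M)).1 + e ∧
      (dd (Localization.AtPrime q'.asIdeal) (EGA4.FibLocMod A' (MvPolynomial (Fin N) A') q'.asIdeal (bcMod (N := N) (A := A) M A'))).2 =
        (dd (Localization.AtPrime (PrimeSpectrum.comap (algebraMap (MvPolynomial (Fin N) A) (MvPolynomial (Fin N) A')) q').asIdeal)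
          (EGA4.FibLocMod A (MvPolynomial (Fin N) A)
            (PrimeSpectrum.comap (algebraMap (MvPolynomial (Fin N) A) (MvPolynomial (Fin N) A')) q').asIdeal M)).2 + e := by
  let P := MvPolynomial (Fin N) A
  let P' := MvPolynomial (Fin N) A'
  let q := PrimeSpectrum.comap (algebraMap P P') q'
  let p' := q'.asIdeal.comap (algebraMap A' P')
  let p := q.asIdeal.comap (algebraMap A P)
  let k := p.ResidueField
  let K := p'.ResidueField
  have hp : p = p'.comap (algebraMap A A') := by
    show (q'.asIdeal.comap (algebraMap P P')).comap (algebraMap A P) =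
      (q'.asIdeal.comap (algebraMap A' P')).comap (algebraMap A A')
    rw [Ideal.comap_comap, Ideal.comap_comap, ← IsScalarTower.algebraMap_eq, ← IsScalarTower.algebraMap_eq]
  letI : Algebra A K := ((algebraMap A' K).comp (algebraMap A A')).toAlgebra
  haveI : IsScalarTower A A' K := IsScalarTower.of_algebraMap_eq fun _ => rfl
  letI : Algebra k K := (Ideal.ResidueField.lift p (algebraMap A K)
    (by
      intro a ha
      show algebraMap A' K (algebraMap A A' a) = 0
      exact Ideal.algebraMap_residueField_eq_zero.2 (hp.le ha))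
    (fun a ha => by
      show IsUnit (algebraMap A' K (algebraMap A A' a))
      refine IsUnit.mk0 _ fun h => ha ?_
      exact hp.ge ((Ideal.algebraMap_residueField_eq_zero (I := p') (x := algebraMap A A' a)).1 h))).toAlgebra
  haveI : IsScalarTower A k K := IsScalarTower.of_algebraMap_eq fun a =>
    (Ideal.ResidueField.lift_algebraMap p (algebraMap A K) _ _ a).symm
  haveI := tower_poly₃ (N := N) A k K
  haveI := tower_poly₃ (N := N) A A' K
  obtain ⟨Q, hQ⟩ := exists_residue_point p' q' rfl
  let Q₀ := PrimeSpectrum.comap (algebraMap (MvPolynomial (Fin N) k) (MvPolynomial (Fin N) K)) Q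
  have hQ₀ : PrimeSpectrum.comap (algebraMap P (MvPolynomial (Fin N) k)) Q₀ = q := by
    show PrimeSpectrum.comap _ (PrimeSpectrum.comap _ Q) = PrimeSpectrum.comap _ q'
    refine Eq.trans ?_ (congrArg (PrimeSpectrum.comap (algebraMap P P')) hQ)
    rw [← PrimeSpectrum.comap_comp_apply, ← PrimeSpectrum.comap_comp_apply, ← IsScalarTower.algebraMap_eq,
      ← IsScalarTower.algebraMap_eq]
  rw [fibHt_residue p' q' rfl Q hQ, fibHt_residue p q rfl Q₀ hQ₀]
  haveI := flat_poly_field (N := N) k K
  obtain ⟨τ'⟩ := exists_residue_equiv p' q' rfl Q hQ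
  obtain ⟨τ⟩ := exists_residue_equiv p q rfl Q₀ hQ₀
  exact bc_generic (A := A) (A' := A') (P := P) (P' := P') (S := MvPolynomial (Fin N) k)
    (T := MvPolynomial (Fin N) K) M Q Q₀ q' q rfl hQ rfl τ' τ

omit [Module (MvPolynomial (Fin N) A) M] [Module.Finite (MvPolynomial (Fin N) A) M] in
/-- A generization lifts with the same height in the fibre. -/
theorem exists_lift_bc (q' : PrimeSpectrum (MvPolynomial (Fin N) A')) (t : PrimeSpectrum (MvPolynomial (Fin N) A))
    (hfib : PrimeSpectrum.comap (algebraMap A (MvPolynomial (Fin N) A)) t =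
      PrimeSpectrum.comap (algebraMap A (MvPolynomial (Fin N) A))
        (PrimeSpectrum.comap (algebraMap (MvPolynomial (Fin N) A) (MvPolynomial (Fin N) A')) q'))
    (ht : t ≤ PrimeSpectrum.comap (algebraMap (MvPolynomial (Fin N) A) (MvPolynomial (Fin N) A')) q') :
    ∃ t' : PrimeSpectrum (MvPolynomial (Fin N) A'), t' ≤ q' ∧
      PrimeSpectrum.comap (algebraMap A' (MvPolynomial (Fin N) A')) t' =
        PrimeSpectrum.comap (algebraMap A' (MvPolynomial (Fin N) A')) q' ∧
      PrimeSpectrum.comap (algebraMap (MvPolynomial (Fin N) A) (MvPolynomial (Fin N) A')) t' = t ∧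
      fibHt (A := A') t' = fibHt (A := A) t := by
  let P := MvPolynomial (Fin N) A
  let P' := MvPolynomial (Fin N) A'
  let q := PrimeSpectrum.comap (algebraMap P P') q'
  let p' := q'.asIdeal.comap (algebraMap A' P')
  let p := q.asIdeal.comap (algebraMap A P)
  let k := p.ResidueField
  let K := p'.ResidueField
  have hp : p = p'.comap (algebraMap A A') := by
    show (q'.asIdeal.comap (algebraMap P P')).comap (algebraMap A P) =
      (q'.asIdeal.comap (algebraMap A' P')).comap (algebraMap A A')
    rw [Ideal.comap_comap, Ideal.comap_comap, ← IsScalarTower.algebraMap_eq, ← IsScalarTower.algebraMap_eq]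
  letI : Algebra A K := ((algebraMap A' K).comp (algebraMap A A')).toAlgebra
  haveI : IsScalarTower A A' K := IsScalarTower.of_algebraMap_eq fun _ => rfl
  letI : Algebra k K := (Ideal.ResidueField.lift p (algebraMap A K)
    (by
      intro a ha
      show algebraMap A' K (algebraMap A A' a) = 0
      exact Ideal.algebraMap_residueField_eq_zero.2 (hp.le ha))
    (fun a ha => by
      show IsUnit (algebraMap A' K (algebraMap A A' a))
      refine IsUnit.mk0 _ fun h => ha ?_
      exact hp.ge ((Ideal.algebraMap_residueField_eq_zero (I := p') (x := algebraMap A A' a)).1 h))).toAlgebra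
  haveI : IsScalarTower A k K := IsScalarTower.of_algebraMap_eq fun a =>
    (Ideal.ResidueField.lift_algebraMap p (algebraMap A K) _ _ a).symm
  haveI := tower_poly₃ (N := N) A k K
  haveI := tower_poly₃ (N := N) A A' K
  obtain ⟨Q, hQ⟩ := exists_residue_point p' q' rfl
  have htp : t.asIdeal.comap (algebraMap A P) = p := congrArg PrimeSpectrum.asIdeal hfib
  obtain ⟨T₀, hT₀⟩ := exists_residue_point p t htp
  have hcomm : ∀ Z : PrimeSpectrum (MvPolynomial (Fin N) K),
      PrimeSpectrum.comap (algebraMap P (MvPolynomial (Fin N) k))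
        (PrimeSpectrum.comap (algebraMap (MvPolynomial (Fin N) k) (MvPolynomial (Fin N) K)) Z) =
      PrimeSpectrum.comap (algebraMap P P')
        (PrimeSpectrum.comap (algebraMap P' (MvPolynomial (Fin N) K)) Z) := fun Z => by
    rw [← PrimeSpectrum.comap_comp_apply, ← PrimeSpectrum.comap_comp_apply, ← IsScalarTower.algebraMap_eq,
      ← IsScalarTower.algebraMap_eq]
  haveI := flat_poly_field (N := N) k K
  obtain ⟨T, hTQ, hT, hh⟩ := exists_lift_flat (S := MvPolynomial (Fin N) k) Q T₀ ((comap_residue_le_iff p _ _).1 (by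
    rw [hT₀, hcomm, hQ]
    exact ht))
  let t' := PrimeSpectrum.comap (algebraMap P' (MvPolynomial (Fin N) K)) T
  have ht'p : t'.asIdeal.comap (algebraMap A' P') = p' := comap_comap_residue p' T
  have ht't : PrimeSpectrum.comap (algebraMap P P') t' = t := by
    show PrimeSpectrum.comap _ (PrimeSpectrum.comap _ T) = t
    rw [← hcomm, hT, hT₀]
  refine ⟨t', (hQ ▸ Ideal.comap_mono hTQ : t' ≤ q'), PrimeSpectrum.ext ht'p, ht't, ?_⟩
  rw [fibHt_residue p' t' ht'p T rfl, fibHt_residue p t htp T₀ hT₀, hh]

end Change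

end Groth.Agent.Codepth5
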