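import Groth.Agent.Codepth5.AssAff
import Groth.Agent.FlatLoc6.Supp
import Groth.Agent.FlatLoc6.RegCM

/-!
# The fibre invariants of a module along a flat map of the rings of two fibres
-/

set_option autoImplicit false
set_option linter.style.haveILetI false
set_option backward.isDefEq.respectTransparency false
set_option backward.isDefEq.respectTransparency.types false

universe u

open IsLocalRing TensorProduct

namespace Groth.Agent.Codepth5

variable {A A' P P' S T : Type u} [CommRing A] [CommRing A'] [CommRing P] [CommRing P'] [CommRing S] [CommRing T]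
  [Algebra A P] [Algebra A' P'] [Algebra P P'] [Algebra P S] [Algebra P' T] [Algebra P T] [Algebra S T]

omit [Algebra A' P'] [Algebra P P'] [Algebra P' T] [Algebra P T] [Algebra S T] in
/-- The fibre module is a localization of the module over the ring of the fibre. -/
theorem semi_of_equiv (M : Type u) [AddCommGroup M] [Module P M] (q : Ideal P) [q.IsPrime] (Q : Ideal S) [Q.IsPrime]
    (τ : EGA4.FibLocRing A P q ≃ₐ[P] Localization.AtPrime Q) :
    Semi (Localization.AtPrime q) (EGA4.FibLocMod A P q M)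
      (Localization.AtPrime Q) (LocalizedModule Q.primeCompl (S ⊗[P] M)) := by
  refine (semi_fibLocRing M q).trans ?_
  let e₁ : EGA4.FibLocRing A P q ⊗[P] M ≃ₗ[P] Localization.AtPrime Q ⊗[P] M :=
    TensorProduct.congr τ.toLinearEquiv (LinearEquiv.refl P M)
  let e₂ : Localization.AtPrime Q ⊗[P] M ≃ₗ[Localization.AtPrime Q]
      LocalizedModule Q.primeCompl (S ⊗[P] M) :=
    (AlgebraTensorModule.cancelBaseChange P S (Localization.AtPrime Q)
      (Localization.AtPrime Q) M).symm ≪≫ₗ (LocalizedModule.equivTensorProduct Q.primeCompl _).symm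
  refine ⟨τ.toRingEquiv.toRingHom, τ.surjective, e₁.toAddEquiv.trans e₂.toAddEquiv, fun r x => ?_⟩
  show e₂ (e₁ (r • x)) = τ r • e₂ (e₁ x)
  rw [← map_smul]
  refine congrArg e₂ ?_
  induction x using TensorProduct.induction_on with
  | zero => simp
  | tmul c m =>
    rw [TensorProduct.smul_tmul']
    simp only [e₁, TensorProduct.congr_tmul, LinearEquiv.refl_apply]
    rw [TensorProduct.smul_tmul', smul_eq_mul, smul_eq_mul]
    exact congrArg (fun z => z ⊗ₜ[P] m) (map_mul τ r c)
  | add a b ha hb => rw [smul_add, map_add, ha, hb, map_add, smul_add]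

theorem supportDim_loc_self {R : Type u} [CommRing R] (I : Ideal R) [I.IsPrime] (X : Type u) [AddCommGroup X]
    [Module R X] (g : X ≃ₗ[R] R) :
    Module.supportDim (Localization.AtPrime I) (LocalizedModule I.primeCompl X) = (I.height : WithBot ℕ∞) := by
  rw [Module.supportDim_eq_of_equiv ((IsLocalizedModule.mapEquiv I.primeCompl
    (LocalizedModule.mkLinearMap I.primeCompl X) (LocalizedModule.mkLinearMap I.primeCompl R)
    (Localization.AtPrime I) g).trans (LC.selfLoc I.primeCompl)), Module.supportDim_self_eq_ringKrullDim,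
    IsLocalization.AtPrime.ringKrullDim_eq_height I (Localization.AtPrime I)]

theorem depth_loc_self {R : Type u} [CommRing R] [IsRegularRing R] (I : Ideal R) [I.IsPrime] (X : Type u)
    [AddCommGroup X] [Module R X] (g : X ≃ₗ[R] R) :
    LocCoh.depth (Localization.AtPrime I) (LocalizedModule I.primeCompl X) = I.height := by
  haveI := IsRegularRing.isRegularLocalRing_localization (R := R) I
  haveI := LC.gorenstein_of_isRegularLocalRing (R := Localization.AtPrime I)
  haveI := LC.isCohenMacaulayLocalRing_of_gorenstein (R := Localization.AtPrime I)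
  have h := LocCoh.IsCohenMacaulayLocalRing.supportDim_eq_depth (R := Localization.AtPrime I)
  rw [Module.supportDim_self_eq_ringKrullDim,
    IsLocalization.AtPrime.ringKrullDim_eq_height I (Localization.AtPrime I)] at h
  rw [FlatLoc6.depth_congr' ((IsLocalizedModule.mapEquiv I.primeCompl
    (LocalizedModule.mkLinearMap I.primeCompl X) (LocalizedModule.mkLinearMap I.primeCompl R)
    (Localization.AtPrime I) g).trans (LC.selfLoc I.primeCompl))]
  exact (WithBot.coe_injective h).symm

omit [Algebra P' T] [Algebra P S] [Algebra P T] [Algebra A P] [Algebra A' P'] [Algebra P P'] in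
theorem mem_support_self {R : Type u} [CommRing R] (I : PrimeSpectrum R) : I ∈ Module.support R R := by
  rw [Module.mem_support_iff]
  exact (LC.selfLoc I.asIdeal.primeCompl).toEquiv.nontrivial

omit [Algebra A P] [Algebra A' P'] [Algebra P P'] [Algebra P' T] [Algebra P S] [Algebra P T] in
/-- A point over a generization, minimal in its fibre. -/
theorem exists_lift_flat [IsNoetherianRing S] [IsNoetherianRing T] [Module.Flat S T] (Q : PrimeSpectrum T)
    (t : PrimeSpectrum S) (ht : t ≤ PrimeSpectrum.comap (algebraMap S T) Q) :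
    ∃ Q' : PrimeSpectrum T, Q' ≤ Q ∧ PrimeSpectrum.comap (algebraMap S T) Q' = t ∧
      Q'.asIdeal.height = t.asIdeal.height := by
  haveI := Ideal.LiesOver.mk (P := Q.asIdeal) (p := Q.asIdeal.comap (algebraMap S T)) rfl
  obtain ⟨Q₁, hle₁, hQ₁, hover⟩ :=
    Ideal.exists_ideal_le_liesOver_of_le (S := T) Q.asIdeal (p := t.asIdeal)
      (q := Q.asIdeal.comap (algebraMap S T)) ht
  haveI := hQ₁
  obtain ⟨R, hR, hRQ⟩ := Ideal.exists_minimalPrimes_le (I := t.asIdeal.map (algebraMap S T)) (J := Q₁)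
    (Ideal.map_le_iff_le_comap.2 hover.over.le)
  haveI := hR.1.1
  have hover' : R.comap (algebraMap S T) = t.asIdeal :=
    le_antisymm ((Ideal.comap_mono hRQ).trans hover.over.ge) (Ideal.map_le_iff_le_comap.1 hR.1.2)
  refine ⟨⟨R, inferInstance⟩, (show R ≤ Q.asIdeal from le_trans hRQ hle₁), PrimeSpectrum.ext hover', ?_⟩
  have h0 := (FlatLoc6.fib_zero_of_minimal (A := S) T R (mem_support_self ⟨R, inferInstance⟩) fun P' _ hle hc =>
    le_antisymm hle (hR.2 ⟨P'.2, Ideal.map_le_iff_le_comap.2 (hover' ▸ hc)⟩ hle)).1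
  obtain ⟨-, h2⟩ := FlatLoc6.formulas_atPrime (A := S) (B := T) T S t.asIdeal R hover'
    (mem_support_self ⟨R, inferInstance⟩) (mem_support_self t)
  rw [h0, add_zero, supportDim_loc_self R _ (TensorProduct.AlgebraTensorModule.rid S T T),
    supportDim_loc_self t.asIdeal _ (LinearEquiv.refl S S)] at h2
  exact WithBot.coe_injective h2

/-- The invariants along a flat map of regular rings of fibres. -/
theorem bc_generic [IsScalarTower P S T] [IsScalarTower P P' T] [IsRegularRing S] [IsRegularRing T]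
    [Module.Flat S T] (M : Type u) [AddCommGroup M] [Module P M] [Module.Finite P M]
    (Q : PrimeSpectrum T) (Q₀ : PrimeSpectrum S) (q' : PrimeSpectrum P') (q : PrimeSpectrum P)
    (hQ₀ : PrimeSpectrum.comap (algebraMap S T) Q = Q₀) (hq' : PrimeSpectrum.comap (algebraMap P' T) Q = q')
    (hq : PrimeSpectrum.comap (algebraMap P P') q' = q)
    (τ' : EGA4.FibLocRing A' P' q'.asIdeal ≃ₐ[P'] Localization.AtPrime Q.asIdeal)
    (τ : EGA4.FibLocRing A P q.asIdeal ≃ₐ[P] Localization.AtPrime Q₀.asIdeal) :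
    ∃ e : ℕ, Q.asIdeal.height = Q₀.asIdeal.height + e ∧
      (q' ∈ Module.support P' (P' ⊗[P] M) ↔ q ∈ Module.support P M) ∧
      (dd (Localization.AtPrime q'.asIdeal) (EGA4.FibLocMod A' P' q'.asIdeal (P' ⊗[P] M))).1 =
        (dd (Localization.AtPrime q.asIdeal) (EGA4.FibLocMod A P q.asIdeal M)).1 + e ∧
      (dd (Localization.AtPrime q'.asIdeal) (EGA4.FibLocMod A' P' q'.asIdeal (P' ⊗[P] M))).2 =
        (dd (Localization.AtPrime q.asIdeal) (EGA4.FibLocMod A P q.asIdeal M)).2 + e := by
  have hsupp : q' ∈ Module.support P' (P' ⊗[P] M) ↔ q ∈ Module.support P M := by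
    rw [S6284.result (R' := P') M, Set.mem_preimage, hq]
  have hQ₀q : PrimeSpectrum.comap (algebraMap P S) Q₀ = q := by
    rw [← hQ₀, ← hq, ← hq', ← PrimeSpectrum.comap_comp_apply, ← PrimeSpectrum.comap_comp_apply,
      ← IsScalarTower.algebraMap_eq, ← IsScalarTower.algebraMap_eq]
  obtain ⟨h1, h2⟩ := FlatLoc6.formulas_atPrime (A := S) (B := T) T S Q₀.asIdeal Q.asIdeal
    (congrArg PrimeSpectrum.asIdeal hQ₀) (mem_support_self Q) (mem_support_self Q₀)
  rw [depth_loc_self Q.asIdeal _ (TensorProduct.AlgebraTensorModule.rid S T T),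
    depth_loc_self Q₀.asIdeal _ (LinearEquiv.refl S S)] at h1
  rw [supportDim_loc_self Q.asIdeal _ (TensorProduct.AlgebraTensorModule.rid S T T),
    supportDim_loc_self Q₀.asIdeal _ (LinearEquiv.refl S S)] at h2
  obtain ⟨c, hc⟩ := ENat.ne_top_iff_exists.1 (Ideal.height_ne_top (I := Q₀.asIdeal) Q₀.2.ne_top)
  obtain ⟨e, he⟩ : ∃ e : ℕ, FlatLoc6.fibDepth S Q.asIdeal T = e := by
    have hle : FlatLoc6.fibDepth S Q.asIdeal T ≤ Q.asIdeal.height := h1 ▸ le_add_self
    obtain ⟨e, he⟩ := ENat.ne_top_iff_exists.1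
      (ne_top_of_le_ne_top (Ideal.height_ne_top (I := Q.asIdeal) Q.2.ne_top) hle)
    exact ⟨e, he.symm⟩
  have hdim : FlatLoc6.fibDim S Q.asIdeal T = (e : WithBot ℕ∞) := by
    rw [h1, he, WithBot.coe_add, ← hc] at h2
    generalize FlatLoc6.fibDim S Q.asIdeal T = z at h2
    induction z with
    | bot => simp at h2
    | coe z =>
      induction z using ENat.recTopCoe with
      | top =>
        have h2' : (c : ℕ∞) + (e : ℕ∞) = (c : ℕ∞) + ⊤ := by exact_mod_cast h2
        simp at h2'
      | coe z =>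
        have h2' : c + e = c + z := by exact_mod_cast h2
        exact_mod_cast (show z = e by omega)
  refine ⟨e, by rw [h1, he], hsupp, ?_⟩
  by_cases hs : q ∈ Module.support P M
  swap
  · rw [dd_of_notMem_support q hs, dd_of_notMem_support q' (fun h => hs (hsupp.1 h))]
    exact ⟨(WithBot.bot_add _).symm, (top_add _).symm⟩
  haveI : Module.Finite P' (P' ⊗[P] M) := Module.Finite.base_change _ _ _
  haveI : Module.Finite S (S ⊗[P] M) := Module.Finite.base_change _ _ _
  have hsS : Q₀ ∈ Module.support S (S ⊗[P] M) := by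
    rw [S6284.result (R' := S) M, Set.mem_preimage, hQ₀q]
    exact hs
  obtain ⟨h3, h4⟩ := FlatLoc6.formulas_atPrime (A := S) (B := T) T (S ⊗[P] M) Q₀.asIdeal Q.asIdeal
    (congrArg PrimeSpectrum.asIdeal hQ₀) (mem_support_self Q) hsS
  let ψ : T ⊗[P'] (P' ⊗[P] M) ≃ₗ[T] T ⊗[S] (S ⊗[P] M) :=
    (AlgebraTensorModule.cancelBaseChange P P' T T M) ≪≫ₗ (AlgebraTensorModule.cancelBaseChange P S T T M).symm
  let g := IsLocalizedModule.mapEquiv Q.asIdeal.primeCompl
    (LocalizedModule.mkLinearMap Q.asIdeal.primeCompl (T ⊗[P'] (P' ⊗[P] M)))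
    (LocalizedModule.mkLinearMap Q.asIdeal.primeCompl (T ⊗[S] (S ⊗[P] M))) (Localization.AtPrime Q.asIdeal) ψ
  have hg : Semi (Localization.AtPrime Q.asIdeal) (LocalizedModule Q.asIdeal.primeCompl (T ⊗[P'] (P' ⊗[P] M)))
      (Localization.AtPrime Q.asIdeal) (LocalizedModule Q.asIdeal.primeCompl (T ⊗[S] (S ⊗[P] M))) :=
    ⟨RingHom.id _, fun x => ⟨x, rfl⟩, g.toAddEquiv, fun r x => g.map_smul r x⟩
  rw [((semi_of_equiv (P' ⊗[P] M) q'.asIdeal Q.asIdeal τ').trans hg).dd_eq,
    (semi_of_equiv M q.asIdeal Q₀.asIdeal τ).dd_eq]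
  constructor
  · dsimp only [dd]
    rw [h4, hdim]
  · dsimp only [dd]
    rw [h3, he]

end Groth.Agent.Codepth5
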