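import Groth.Agent.Codepth5.ConsProps
import Groth.Agent.Codepth5.AssScheme

/-!
# Constructibility of the fibre properties of a module over an algebra of finite presentation
-/

set_option autoImplicit false
set_option linter.style.haveILetI false
set_option backward.isDefEq.respectTransparency false
set_option backward.isDefEq.respectTransparency.types false

universe u

open TensorProduct Topology

namespace Groth.Agent.Codepth5

open FibDim (fib)

/-- The support in the fibre has dimension at most `n` near `q`. -/
def DimLE (A : Type u) {B : Type u} [CommRing A] [CommRing B] [Algebra A B] (M : Type u) [AddCommGroup M]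
    [Module B M] (n : ℕ) (q : PrimeSpectrum B) : Prop :=
  ∀ t : ↥(fib (B := B) (PrimeSpectrum.comap (algebraMap A B) q)), t.1 ≤ q → t.1 ∈ Module.support B M →
    Order.coheight t ≤ (n : ℕ∞)

section Surj

variable {A P B : Type u} [CommRing A] [CommRing P] [CommRing B] [Algebra A B] [Algebra A P] [Algebra P B]
  [IsScalarTower A P B] (hf : Function.Surjective (algebraMap P B))
  (M : Type u) [AddCommGroup M] [Module B M] [Module P M] [IsScalarTower P B M]

include hf

theorem mem_support_comap_iff (b : PrimeSpectrum B) :
    PrimeSpectrum.comap (algebraMap P B) b ∈ Module.support P M ↔ b ∈ Module.support B M := by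
  rw [Module.mem_support_iff', Module.mem_support_iff']
  constructor
  · rintro ⟨m, hm⟩
    refine ⟨m, fun s hs h0 => ?_⟩
    obtain ⟨r, rfl⟩ := hf s
    exact hm r hs ((algebraMap_smul B r m).symm.trans h0)
  · rintro ⟨m, hm⟩
    exact ⟨m, fun r hr h0 => hm _ hr ((algebraMap_smul B r m).trans h0)⟩

theorem dimLE_iff_of_surjective (n : ℕ) (q : PrimeSpectrum B) :
    DimLE A M n (PrimeSpectrum.comap (algebraMap P B) q) ↔ DimLE A M n q := by
  refine ⟨fun h t ht htM => ?_, fun h t ht htM => ?_⟩
  · have h1 := h ⟨PrimeSpectrum.comap (algebraMap P B) t.1,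
      ((comap_comap_fib t.1).trans t.2).trans (comap_comap_fib q).symm⟩ ((comap_le_comap_iff hf _ _).2 ht)
      ((mem_support_comap_iff hf M t.1).2 htM)
    rw [coheight_congr_fib t.2.symm t ⟨t.1, rfl⟩ rfl, transfer hf t.1]
    exact le_of_eq_of_le
      (coheight_congr_fib (((comap_comap_fib t.1).trans t.2).trans (comap_comap_fib q).symm) _ _ rfl) h1
  · obtain ⟨b, hb⟩ := mem_range_of_mem_support hf M t.1 htM
    obtain ⟨t, hty⟩ := t
    subst hb
    have h1 := h ⟨b, ((comap_comap_fib b).symm.trans hty).trans (comap_comap_fib q)⟩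
      ((comap_le_comap_iff hf _ _).1 ht) ((mem_support_comap_iff hf M b).1 htM)
    rw [coheight_congr_fib hty.symm _ ⟨PrimeSpectrum.comap (algebraMap P B) b, rfl⟩ rfl, ← transfer hf b]
    exact le_of_eq_of_le
      (coheight_congr_fib (((comap_comap_fib b).symm.trans hty).trans (comap_comap_fib q)) _ _ rfl) h1

theorem rectGE_iff_of_surjective (n : ℕ) (q : PrimeSpectrum B) :
    RectGE A M n (PrimeSpectrum.comap (algebraMap P B) q) ↔ RectGE A M n q := by
  rw [RectGE, RectGE, transfer (A := A) hf q,
    show dd (Localization.AtPrime (PrimeSpectrum.comap (algebraMap P B) q).asIdeal)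
      (EGA4.FibLocMod A P (PrimeSpectrum.comap (algebraMap P B) q).asIdeal M) =
    dd (Localization.AtPrime q.asIdeal) (EGA4.FibLocMod A B q.asIdeal M) from dd_surjective hf M q]

end Surj

section PolyCons

variable {A : Type u} [CommRing A] {N : ℕ} (M : Type u) [AddCommGroup M] [Module (MvPolynomial (Fin N) A) M]

theorem dimLE_iff_codimGE (n : ℕ) (q : PrimeSpectrum (MvPolynomial (Fin N) A)) :
    DimLE A M n q ↔ CodimGE A M (N - n) q := by
  refine forall₃_congr fun t _ _ => ?_
  obtain ⟨d, hd⟩ := ENat.ne_top_iff_exists.1
    (lt_of_le_of_lt (le_self_add.trans_eq (height_add_coheight_fib _ t)) (ENat.natCast_lt_top N)).ne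
  obtain ⟨hdN, hc⟩ := coheight_eq_sub _ hd.symm
  rw [hc, ← hd]
  constructor
  · intro h
    have h' : N - d ≤ n := by exact_mod_cast h
    exact_mod_cast (show N - n ≤ d by omega)
  · intro h
    have h' : N - n ≤ d := by exact_mod_cast h
    exact_mod_cast (show N - d ≤ n by omega)

theorem mem_support_iff_not_codimGE (q : PrimeSpectrum (MvPolynomial (Fin N) A)) :
    q ∈ Module.support (MvPolynomial (Fin N) A) M ↔ ¬ CodimGE A M (N + 1) q := by
  refine ⟨fun h hc => ?_, fun h => ?_⟩
  · have h1 := hc ⟨q, rfl⟩ le_rfl h
    obtain ⟨d, hd⟩ := ENat.ne_top_iff_exists.1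
      (lt_of_le_of_lt (le_self_add.trans_eq (height_add_coheight_fib _
        (⟨q, rfl⟩ : ↥(fib (B := MvPolynomial (Fin N) A) (PrimeSpectrum.comap (algebraMap A (MvPolynomial (Fin N) A)) q)))))
        (ENat.natCast_lt_top N)).ne
    obtain ⟨hdN, -⟩ := coheight_eq_sub _ hd.symm
    rw [← hd] at h1
    have : N + 1 ≤ d := by exact_mod_cast h1
    omega
  · by_contra hq
    exact h fun t ht htM => absurd (Module.mem_support_mono ht htM) hq

end PolyCons

section Affine

variable {A B : Type u} [CommRing A] [CommRing B] [Algebra A B] [Algebra.FinitePresentation A B]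
  (M : Type u) [AddCommGroup M] [Module B M] [Module.FinitePresentation B M]

/-- Constructibility on affine space gives constructibility on a closed subscheme. -/
theorem exists_presentation' :
    ∃ (n : ℕ) (_ : Algebra (MvPolynomial (Fin n) A) B) (_ : Module (MvPolynomial (Fin n) A) M)
      (_ : IsScalarTower A (MvPolynomial (Fin n) A) B) (_ : IsScalarTower (MvPolynomial (Fin n) A) B M),
      Function.Surjective (algebraMap (MvPolynomial (Fin n) A) B) ∧
        Module.FinitePresentation (MvPolynomial (Fin n) A) M := by
  obtain ⟨n, f, hf, hker⟩ := Algebra.FinitePresentation.out (R := A) (A := B)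
  letI : Algebra (MvPolynomial (Fin n) A) B := f.toRingHom.toAlgebra
  haveI h1 : IsScalarTower A (MvPolynomial (Fin n) A) B :=
    IsScalarTower.of_algebraMap_eq fun a => (f.commutes a).symm
  letI iM : Module (MvPolynomial (Fin n) A) M := Module.compHom M f.toRingHom
  haveI h2 : IsScalarTower (MvPolynomial (Fin n) A) B M := IsScalarTower.of_algebraMap_smul fun _ _ => rfl
  haveI : Module.FinitePresentation (MvPolynomial (Fin n) A) B :=
    Module.finitePresentation_of_surjective (Algebra.linearMap (MvPolynomial (Fin n) A) B) hf (by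
      rwa [show LinearMap.ker (Algebra.linearMap (MvPolynomial (Fin n) A) B) = RingHom.ker f.toRingHom from
        Submodule.ext fun _ => Iff.rfl])
  exact ⟨n, inferInstance, iM, h1, h2, hf, Module.FinitePresentation.trans (MvPolynomial (Fin n) A) M B⟩

theorem isConstructible_preimage_comap {P : Type u} [CommRing P] [Algebra P B] {s : Set (PrimeSpectrum P)}
    (hs : IsConstructible s) : IsConstructible (PrimeSpectrum.comap (algebraMap P B) ⁻¹' s) :=
  ProConsLib.isConstructible_preimage (WLocalLib.isSpectralMap_comap _) hs

theorem isConstructible_assDims (S : Set ℕ) : IsConstructible {q : PrimeSpectrum B | AssDims A M S q} := by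
  obtain ⟨n, iB, iM, h1, h2, hf, hfp⟩ := exists_presentation' (A := A) (B := B) M
  convert isConstructible_preimage_comap (B := B)
    ((good_assDims (N := n) S).isConstructible (A := A) M) using 1
  ext q
  exact (assDims_iff_of_surjective (A := A) (P := MvPolynomial (Fin n) A) hf M S q).symm

theorem isConstructible_noEmb : IsConstructible {q : PrimeSpectrum B | NoEmb A M q} := by
  obtain ⟨n, iB, iM, h1, h2, hf, hfp⟩ := exists_presentation' (A := A) (B := B) M
  convert isConstructible_preimage_comap (B := B)
    ((good_skGen (N := n) 1).isConstructible (A := A) M) using 1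
  ext q
  exact ((skGen_one_iff_noEmb M (PrimeSpectrum.comap (algebraMap (MvPolynomial (Fin n) A) B) q)).trans
    (noEmb_iff_of_surjective (A := A) (P := MvPolynomial (Fin n) A) hf M q)).symm

theorem isConstructible_dimLE (m : ℕ) : IsConstructible {q : PrimeSpectrum B | DimLE A M m q} := by
  obtain ⟨n, iB, iM, h1, h2, hf, hfp⟩ := exists_presentation' (A := A) (B := B) M
  convert isConstructible_preimage_comap (B := B)
    ((good_codimGE (N := n) (n - m)).isConstructible (A := A) M) using 1
  ext q
  exact ((dimLE_iff_of_surjective (A := A) (P := MvPolynomial (Fin n) A) hf M m q).symm.trans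
    (dimLE_iff_codimGE M m _))

include A in
theorem isConstructible_support : IsConstructible {q : PrimeSpectrum B | q ∈ Module.support B M} := by
  obtain ⟨n, iB, iM, h1, h2, hf, hfp⟩ := exists_presentation' (A := A) (B := B) M
  convert isConstructible_preimage_comap (B := B)
    (((good_codimGE (N := n) (n + 1)).isConstructible (A := A) M).compl) using 1
  ext q
  exact ((mem_support_comap_iff (P := MvPolynomial (Fin n) A) hf M q).symm.trans
    (mem_support_iff_not_codimGE M _))

theorem isConstructible_rectGE (m : ℕ) : IsConstructible {q : PrimeSpectrum B | RectGE A M m q} := by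
  obtain ⟨n, iB, iM, h1, h2, hf, hfp⟩ := exists_presentation' (A := A) (B := B) M
  convert isConstructible_preimage_comap (B := B)
    ((good_rectGE (N := n) m).isConstructible (A := A) M) using 1
  ext q
  exact (rectGE_iff_of_surjective (A := A) (P := MvPolynomial (Fin n) A) hf M m q).symm

/-- The rectified depth is infinite exactly outside the support. -/
theorem rect_eq_top_iff (q : PrimeSpectrum B) :
    (dd (Localization.AtPrime q.asIdeal) (EGA4.FibLocMod A B q.asIdeal M)).2 +
        Order.coheight (⟨q, rfl⟩ : ↥(fib (B := B) (PrimeSpectrum.comap (algebraMap A B) q))) = ⊤ ↔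
      q ∉ Module.support B M := by
  obtain ⟨n, iB, iM, h1, h2, hf, hfp⟩ := exists_presentation' (A := A) (B := B) M
  let ι := PrimeSpectrum.comap (algebraMap (MvPolynomial (Fin n) A) B)
  rw [← mem_support_comap_iff (P := MvPolynomial (Fin n) A) hf M q, transfer (A := A) hf q,
    ← show dd (Localization.AtPrime (ι q).asIdeal) (EGA4.FibLocMod A (MvPolynomial (Fin n) A) (ι q).asIdeal M) =
      dd (Localization.AtPrime q.asIdeal) (EGA4.FibLocMod A B q.asIdeal M) from dd_surjective hf M q]
  rcases exists_invariants M (ι q) with ⟨hns, hdd, -⟩ | ⟨d, D, a, -, -, -, hs, hdd, hh, -, -⟩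
  · rw [hdd]
    exact iff_of_true (top_add _) hns
  · rw [hdd, (coheight_eq_sub _ hh).2]
    refine iff_of_false (fun h => ?_) (not_not_intro hs)
    exact ENat.natCast_ne_top (a + (n - d)) (by rw [Nat.cast_add]; exact h)

end Affine

end Groth.Agent.Codepth5
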