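import Groth.Agent.FlatLoc6.GenFlat
import Groth.Agent.S2396
import Groth.Agent.FlatLoc6.Loc
import Mathlib.RingTheory.Localization.BaseChange
import Mathlib.LinearAlgebra.Pi

/-!
# Generic flatness and models of finitely presented modules, for abstract rings
-/

set_option autoImplicit false
set_option linter.style.haveILetI false
set_option backward.isDefEq.respectTransparency false
set_option backward.isDefEq.respectTransparency.types false

universe u

open TensorProduct Topology

namespace Groth.Agent.Codepth5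

theorem isScalarTower_compHom (A P M : Type u) [CommRing A] [CommRing P] [Algebra A P] [AddCommGroup M] [Module P M] :
    letI : Module A M := Module.compHom M (algebraMap A P)
    IsScalarTower A P M :=
  letI : Module A M := Module.compHom M (algebraMap A P)
  IsScalarTower.of_algebraMap_smul fun _ _ => rfl

theorem of_flat_compHom {A P M : Type u} [CommRing A] [CommRing P] [Algebra A P] [AddCommGroup M] [Module P M]
    {C : Prop} (h : ∀ (i : Module A M), @IsScalarTower A P M _ _ i.toSMul → @Module.Flat A M _ _ i → C)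
    (hfl : @Module.Flat A M _ _ (Module.compHom M (algebraMap A P))) : C :=
  h (Module.compHom M (algebraMap A P)) (isScalarTower_compHom A P M) hfl

/-- Generic flatness: after inverting some element the module becomes flat. -/
theorem exists_flat_localization {D P S : Type u} [CommRing D] [IsDomain D] [IsNoetherianRing D] [CommRing P]
    [CommRing S] [Algebra D S] [Algebra.FiniteType D S] [Algebra P S] (M : Type u) [AddCommGroup M] [Module P M]
    [Module.Finite P M] :
    ∃ f : D, f ≠ 0 ∧ ∀ (Af S' : Type u) [CommRing Af] [CommRing S'] [Algebra D Af] [IsLocalization.Away f Af]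
      [Algebra S S'] [Algebra Af S'] [Algebra D S'] [IsScalarTower D S S'] [IsScalarTower D Af S'] [Algebra P S']
      [IsScalarTower P S S'],
      IsLocalization (Algebra.algebraMapSubmonoid S (Submonoid.powers f)) S' →
        @Module.Flat Af (S' ⊗[P] M) _ _ (Module.compHom _ (algebraMap Af S')) := by
  haveI : Module.Finite S (S ⊗[P] M) := Module.Finite.base_change _ _ _
  obtain ⟨f, hf, hfree⟩ := GenFree.exists_gfree (R := D) (M := S ⊗[P] M) S
  refine ⟨f, hf, fun Af S' _ _ _ _ _ _ _ _ _ _ _ hloc => ?_⟩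
  let MD := S ⊗[P] M
  let l : MD →ₗ[S] S' ⊗[S] MD := TensorProduct.mk S S' MD 1
  haveI : IsLocalizedModule (Algebra.algebraMapSubmonoid S (Submonoid.powers f)) l :=
    (isLocalizedModule_iff_isBaseChange _ S' l).2 (TensorProduct.isBaseChange S MD S')
  haveI : Module.Flat D (S' ⊗[S] MD) :=
    FlatLoc6.flat_of_gfree (Algebra.algebraMapSubmonoid S (Submonoid.powers f)) l
      (show algebraMap D S f ∈ _ from Submonoid.mem_map_of_mem _ (Submonoid.mem_powers f)) hfree
  haveI : Module.Flat Af (S' ⊗[S] MD) :=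
    (Module.flat_iff_of_isLocalization Af (Submonoid.powers f) _).2 inferInstance
  have h : Module.Flat Af (S' ⊗[P] M) := Module.Flat.of_linearEquiv
    (((AlgebraTensorModule.cancelBaseChange P S S' S' M).restrictScalars Af).symm)
  convert h using 1
  exact Module.ext' _ _ fun r x => algebraMap_smul S' r x

/-- Constructibility from openness on strata. -/
theorem isConstructible_of_strata {P : Type u} [CommRing P] [IsNoetherianRing P] (E : Set (PrimeSpectrum P))
    (h : ∀ z : PrimeSpectrum P, ∃ (P' : Type u) (_ : CommRing P') (φ : P →+* P') (g : P),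
      g ∉ z.asIdeal ∧ IsInducing (PrimeSpectrum.comap φ) ∧
        (∀ q, z ≤ q → g ∉ q.asIdeal → q ∈ Set.range (PrimeSpectrum.comap φ)) ∧
        IsOpen (PrimeSpectrum.comap φ ⁻¹' E)) :
    IsConstructible E := by
  refine (S2396.result E).2 fun Y hY hirr => ?_
  let z := hirr.genericPoint
  have hz : IsGenericPoint z Y := hY.closure_eq ▸ hirr.isGenericPoint_genericPoint_closure
  obtain ⟨P', _, φ, g, hg, hind, hrange, hopen⟩ := h z
  obtain ⟨U, hU, hUW⟩ := hind.isOpen_iff.1 hopen
  let V : Set (PrimeSpectrum P) := PrimeSpectrum.basicOpen g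
  have hmem : ∀ q, q ∈ Y → q ∈ V → (q ∈ E ↔ q ∈ U) := fun q hqY hqV => by
    obtain ⟨x, rfl⟩ := hrange q ((PrimeSpectrum.le_iff_specializes _ _).2 (hz.specializes hqY)) hqV
    exact (Set.ext_iff.1 hUW x).symm
  by_cases hzU : z ∈ U
  · refine Or.inr ⟨U ∩ V, hU.inter (PrimeSpectrum.basicOpen _).2, ⟨z, ⟨hzU, hg⟩, hz.mem⟩, ?_⟩
    rintro q ⟨⟨hqU, hqV⟩, hqY⟩
    exact (hmem q hqY hqV).2 hqU
  · refine Or.inl ?_
    have hsub : Subtype.val ⁻¹' E ⊆ (Subtype.val ⁻¹' V : Set Y)ᶜ := by
      intro q hq hqV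
      exact hzU ((hz.specializes q.2).mem_open hU ((hmem q.1 q.2 hqV).1 hq))
    have hcl : IsClosed ((Subtype.val ⁻¹' V : Set Y)ᶜ) :=
      ((PrimeSpectrum.basicOpen g).2.preimage continuous_subtype_val).isClosed_compl
    refine IsNowhereDense.mono hsub ?_
    rw [hcl.isNowhereDense_iff]
    refine Set.eq_empty_iff_forall_notMem.2 fun q hq => ?_
    obtain ⟨U', hU', hU'eq⟩ := isOpen_induced_iff.1 (isOpen_interior (s := (Subtype.val ⁻¹' V : Set Y)ᶜ))
    have hzU' : z ∈ U' := (hz.specializes q.2).mem_open hU' ((Set.ext_iff.1 hU'eq q).2 hq)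
    exact (interior_subset ((Set.ext_iff.1 hU'eq ⟨z, hz.mem⟩).1 hzU')) hg

/-- A quotient of a free module by lifted relations becomes the given quotient after change of rings. -/
theorem exists_equiv_of_lift {P₀ P : Type u} [CommRing P₀] [CommRing P] [Algebra P₀ P] {l : ℕ}
    (s : Finset (Fin l → P)) (lg : (Fin l → P) → Fin l → P₀) (hlg : ∀ v ∈ s, ∀ i, algebraMap P₀ P (lg v i) = v i) :
    Nonempty ((P ⊗[P₀] ((Fin l → P₀) ⧸ Submodule.span P₀ (lg '' (s : Set (Fin l → P))))) ≃ₗ[P]
      ((Fin l → P) ⧸ Submodule.span P (s : Set (Fin l → P)))) := by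
  classical
  let K := Submodule.span P (s : Set (Fin l → P))
  let K₀ : Submodule P₀ (Fin l → P₀) := Submodule.span P₀ (lg '' (s : Set (Fin l → P)))
  let M₀ := (Fin l → P₀) ⧸ K₀
  let g₀ : (Fin l → P) →ₗ[P] P ⊗[P₀] M₀ :=
    Fintype.linearCombination P fun i => (1 : P) ⊗ₜ[P₀] (Submodule.Quotient.mk (Pi.single i 1) : M₀)
  have hg₀ : ∀ v₀ : Fin l → P₀, g₀ (fun i => algebraMap P₀ P (v₀ i)) =
      (1 : P) ⊗ₜ[P₀] (Submodule.Quotient.mk v₀ : M₀) := fun v₀ => by
    simp only [g₀, Fintype.linearCombination_apply, algebraMap_smul, ← TensorProduct.tmul_smul,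
      ← TensorProduct.tmul_sum]
    have hsum : ∑ i, v₀ i • (Pi.single i 1 : Fin l → P₀) = v₀ := by
      funext j
      simp [Finset.sum_apply, Pi.single_apply]
    conv_rhs => rw [← hsum]
    rw [show (Submodule.Quotient.mk (∑ i, v₀ i • (Pi.single i 1 : Fin l → P₀)) : M₀) =
      ∑ i, (Submodule.Quotient.mk (v₀ i • (Pi.single i 1 : Fin l → P₀)) : M₀) from map_sum K₀.mkQ _ _]
    rfl
  have hker : K ≤ LinearMap.ker g₀ := by
    rw [Submodule.span_le]
    intro v hv
    rw [SetLike.mem_coe, LinearMap.mem_ker, show v = fun i => algebraMap P₀ P (lg v i) from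
      funext fun i => (hlg v hv i).symm, hg₀, (Submodule.Quotient.mk_eq_zero K₀).2
      (Submodule.subset_span (Set.mem_image_of_mem lg hv)), TensorProduct.tmul_zero]
  let g := K.liftQ g₀ hker
  let f₀ : (Fin l → P₀) →ₗ[P₀] (Fin l → P) ⧸ K :=
    Fintype.linearCombination P₀ fun i => Submodule.Quotient.mk (Pi.single i 1)
  have hf₀ : ∀ v₀ : Fin l → P₀, f₀ v₀ = Submodule.Quotient.mk (fun i => algebraMap P₀ P (v₀ i)) := fun v₀ => by
    have hsum : ∑ i, algebraMap P₀ P (v₀ i) • (Pi.single i 1 : Fin l → P) = fun i => algebraMap P₀ P (v₀ i) := by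
      funext j
      simp [Finset.sum_apply, Pi.single_apply, Algebra.smul_def]
    rw [← hsum]
    simp only [f₀, Fintype.linearCombination_apply]
    rw [show (Submodule.Quotient.mk (∑ i, algebraMap P₀ P (v₀ i) • (Pi.single i 1 : Fin l → P)) : (Fin l → P) ⧸ K) =
      ∑ i, (Submodule.Quotient.mk (algebraMap P₀ P (v₀ i) • (Pi.single i 1 : Fin l → P)) : (Fin l → P) ⧸ K) from
      map_sum K.mkQ _ _]
    exact Finset.sum_congr rfl fun i _ => by rw [← Submodule.Quotient.mk_smul, algebraMap_smul]
  have hker₀ : K₀ ≤ LinearMap.ker f₀ := by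
    rw [Submodule.span_le]
    rintro _ ⟨v, hv, rfl⟩
    rw [SetLike.mem_coe, LinearMap.mem_ker, hf₀, show (fun i => algebraMap P₀ P (lg v i)) = v from
      funext fun i => hlg v hv i, Submodule.Quotient.mk_eq_zero]
    exact Submodule.subset_span hv
  let f : P ⊗[P₀] M₀ →ₗ[P] (Fin l → P) ⧸ K := LinearMap.liftBaseChange P (K₀.liftQ f₀ hker₀)
  have h1 : g ∘ₗ f = LinearMap.id := by
    refine LinearMap.ext fun x => ?_
    induction x using TensorProduct.induction_on with
    | zero => simp
    | tmul r m =>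
      obtain ⟨v₀, rfl⟩ := Submodule.Quotient.mk_surjective _ m
      show g (f _) = _
      rw [show f (r ⊗ₜ[P₀] (Submodule.Quotient.mk v₀ : M₀)) = r • f₀ v₀ from
        LinearMap.liftBaseChange_tmul _ _ _ _, hf₀, map_smul]
      show r • g₀ _ = _
      rw [hg₀, TensorProduct.smul_tmul', smul_eq_mul, mul_one]
      rfl
    | add a b ha hb => rw [map_add, ha, hb, map_add]
  have h2 : f ∘ₗ g = LinearMap.id := by
    refine Submodule.linearMap_qext _ ?_
    refine (Pi.basisFun P (Fin l)).ext fun i => ?_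
    simp only [g, LinearMap.comp_apply, Submodule.mkQ_apply, Submodule.liftQ_apply, Pi.basisFun_apply,
      LinearMap.id_apply, g₀, Fintype.linearCombination_apply_single, one_smul]
    rw [show f ((1 : P) ⊗ₜ[P₀] (Submodule.Quotient.mk (Pi.single i 1) : M₀)) = (1 : P) • f₀ (Pi.single i 1) from
      LinearMap.liftBaseChange_tmul _ _ _ _, one_smul]
    simp [f₀]
  exact ⟨LinearEquiv.ofLinearMap f g h2 h1⟩

end Groth.Agent.Codepth5
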