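import Groth.Agent.Codepth5.BC
import Groth.Agent.Codepth5.ConsGen
import Groth.Agent.ProConsLib.Image
import Groth.Agent.WLocalLib.Spectral
import Groth.Agent.S2396
import Mathlib.RingTheory.MvPolynomial.Localization

/-!
# Constructibility of properties of the fibres of a module over a polynomial ring
-/

set_option autoImplicit false
set_option linter.style.haveILetI false
set_option backward.isDefEq.respectTransparency false
set_option backward.isDefEq.respectTransparency.types false

universe u

open TensorProduct Topology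

attribute [local instance] MvPolynomial.algebraMvPolynomial

namespace Groth.Agent.Codepth5

variable {N : ℕ}

/-- A property of the points of the fibres of modules over affine space, invariant under change of base and
open for flat modules. -/
structure BCGood (Q : ∀ (A : Type u) [CommRing A] (M : Type u) [AddCommGroup M]
    [Module (MvPolynomial (Fin N) A) M], PrimeSpectrum (MvPolynomial (Fin N) A) → Prop) : Prop where
  congr : ∀ (A : Type u) [CommRing A] (M M' : Type u) [AddCommGroup M] [Module (MvPolynomial (Fin N) A) M]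
    [AddCommGroup M'] [Module (MvPolynomial (Fin N) A) M'], (M ≃ₗ[MvPolynomial (Fin N) A] M') →
      ∀ q, Q A M q ↔ Q A M' q
  bc : ∀ (A A' : Type u) [CommRing A] [CommRing A'] [Algebra A A'] (M : Type u) [AddCommGroup M]
    [Module (MvPolynomial (Fin N) A) M] [Module.Finite (MvPolynomial (Fin N) A) M]
    (q' : PrimeSpectrum (MvPolynomial (Fin N) A')),
      Q A' (bcMod (N := N) (A := A) M A') q' ↔
        Q A M (PrimeSpectrum.comap (algebraMap (MvPolynomial (Fin N) A) (MvPolynomial (Fin N) A')) q')
  isOpen : ∀ (A : Type u) [CommRing A] (M : Type u) [AddCommGroup M] [Module (MvPolynomial (Fin N) A) M]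
    [Module A M] [IsScalarTower A (MvPolynomial (Fin N) A) M]
    [Module.FinitePresentation (MvPolynomial (Fin N) A) M] [Module.Flat A M],
      IsOpen {q : PrimeSpectrum (MvPolynomial (Fin N) A) | Q A M q}

variable {Q : ∀ (A : Type u) [CommRing A] (M : Type u) [AddCommGroup M]
  [Module (MvPolynomial (Fin N) A) M], PrimeSpectrum (MvPolynomial (Fin N) A) → Prop}

theorem BCGood.isConstructible_noetherian (hQ : BCGood Q) {A : Type u} [CommRing A] [IsNoetherianRing A]
    (M : Type u) [AddCommGroup M] [Module (MvPolynomial (Fin N) A) M]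
    [Module.Finite (MvPolynomial (Fin N) A) M] :
    IsConstructible {q : PrimeSpectrum (MvPolynomial (Fin N) A) | Q A M q} := by
  refine isConstructible_of_strata _ fun z => ?_
  let P := MvPolynomial (Fin N) A
  let p := z.asIdeal.comap (algebraMap A P)
  let D := A ⧸ p
  obtain ⟨f, hf, hflat⟩ := exists_flat_localization (D := D) (P := P) (S := MvPolynomial (Fin N) D) M
  let A' := Localization.Away f
  let P' := MvPolynomial (Fin N) A'
  haveI := tower_poly₃ (N := N) A D A'
  haveI hloc : IsLocalization (Submonoid.map (MvPolynomial.C (σ := Fin N)) (Submonoid.powers f)) P' :=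
    MvPolynomial.isLocalization (Submonoid.powers f) A'
  have hfl := hflat A' P' hloc
  haveI : IsNoetherianRing A' := IsLocalization.isNoetherianRing (Submonoid.powers f) A' inferInstance
  haveI : Module.Finite P' (bcMod (N := N) (A := A) M A') := Module.Finite.base_change _ _ _
  haveI : Module.FinitePresentation P' (bcMod (N := N) (A := A) M A') := Module.finitePresentation_of_finite _ _
  have hW : IsOpen {x : PrimeSpectrum P' | Q A' (bcMod (N := N) (A := A) M A') x} :=
    of_flat_compHom (A := A') (P := P') (M := bcMod (N := N) (A := A) M A') (fun _ _ _ => hQ.isOpen A' (bcMod (N := N) (A := A) M A')) hfl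
  let g₁ : P →+* MvPolynomial (Fin N) D := algebraMap _ _
  let g₂ : MvPolynomial (Fin N) D →+* P' := algebraMap _ _
  have hg₁ : Function.Surjective g₁ := MvPolynomial.map_surjective _ Ideal.Quotient.mk_surjective
  obtain ⟨f₀, hf₀⟩ := Ideal.Quotient.mk_surjective f
  refine ⟨P', inferInstance, algebraMap P P', MvPolynomial.C f₀,
    fun h => hf (by rw [← hf₀, Ideal.Quotient.eq_zero_iff_mem]; exact h), ?_, fun q hzq hqV => ?_, ?_⟩
  · rw [IsScalarTower.algebraMap_eq P (MvPolynomial (Fin N) D) P', PrimeSpectrum.comap_comp]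
    exact (PrimeSpectrum.isClosedEmbedding_comap_of_surjective _ _ hg₁).isInducing.comp
      (PrimeSpectrum.localization_comap_isInducing P'
        (Submonoid.map (MvPolynomial.C (σ := Fin N)) (Submonoid.powers f)))
  · have hker : RingHom.ker g₁ ≤ q.asIdeal := by
      show RingHom.ker (MvPolynomial.map (Ideal.Quotient.mk p)) ≤ _
      rw [MvPolynomial.ker_map, Ideal.mk_ker, Ideal.map_le_iff_le_comap]
      exact fun a ha => hzq ha
    obtain ⟨q₁, rfl⟩ : q ∈ Set.range (PrimeSpectrum.comap g₁) := by
      rw [_root_.range_comap_of_surjective _ _ hg₁]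
      exact hker
    obtain ⟨q₂, rfl⟩ : q₁ ∈ Set.range (PrimeSpectrum.comap g₂) := by
      rw [PrimeSpectrum.localization_comap_range P'
        (Submonoid.map (MvPolynomial.C (σ := Fin N)) (Submonoid.powers f))]
      refine Set.disjoint_left.2 ?_
      rintro _ ⟨_, ⟨n, rfl⟩, rfl⟩ hmem
      have h1 : (MvPolynomial.C f : MvPolynomial (Fin N) D) ∈ q₁.asIdeal :=
        q₁.2.mem_of_pow_mem n (by simpa using hmem)
      refine hqV ?_
      show g₁ (MvPolynomial.C f₀) ∈ q₁.asIdeal
      rw [show g₁ (MvPolynomial.C f₀) = MvPolynomial.C f from (MvPolynomial.map_C _ _).trans (congrArg _ hf₀)]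
      exact h1
    exact ⟨q₂, by rw [IsScalarTower.algebraMap_eq P (MvPolynomial (Fin N) D) P', PrimeSpectrum.comap_comp]; rfl⟩
  · convert hW using 1
    ext x
    exact (hQ.bc A A' M x).symm

/-- A finitely presented module comes from a module over a finitely generated subring. -/
theorem exists_model (A : Type u) [CommRing A] (M : Type u) [AddCommGroup M] [Module (MvPolynomial (Fin N) A) M]
    [Module.FinitePresentation (MvPolynomial (Fin N) A) M] :
    ∃ (A₀ : Subalgebra ℤ A) (_ : IsNoetherianRing A₀) (M₀ : Type u) (_ : AddCommGroup M₀)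
      (_ : Module (MvPolynomial (Fin N) A₀) M₀) (_ : Module.Finite (MvPolynomial (Fin N) A₀) M₀),
      Nonempty (bcMod (N := N) (A := A₀) M₀ A ≃ₗ[MvPolynomial (Fin N) A] M) := by
  classical
  obtain ⟨l, K, e, hK⟩ := Module.FinitePresentation.exists_fin (MvPolynomial (Fin N) A) M
  obtain ⟨s, hs⟩ := hK
  let c : Finset A := s.biUnion fun v => Finset.univ.biUnion fun i => (v i).coeffs
  let A₀ : Subalgebra ℤ A := Algebra.adjoin ℤ (c : Set A)
  haveI : Algebra.FiniteType ℤ A₀ := (Subalgebra.fg_iff_finiteType A₀).1 (Subalgebra.fg_adjoin_finset c)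
  haveI : IsNoetherianRing A₀ := Algebra.FiniteType.isNoetherianRing ℤ A₀
  let P₀ := MvPolynomial (Fin N) A₀
  let P := MvPolynomial (Fin N) A
  have hlift : ∀ v ∈ s, ∃ v₀ : Fin l → P₀, ∀ i, algebraMap P₀ P (v₀ i) = v i := fun v hv => by
    have h : ∀ i, ∃ w : P₀, algebraMap P₀ P w = v i := fun i =>
      MvPolynomial.mem_range_map_iff_coeffs_subset.2 fun x hx =>
        ⟨⟨x, Algebra.subset_adjoin (Finset.mem_biUnion.2
          ⟨v, hv, Finset.mem_biUnion.2 ⟨i, Finset.mem_univ i, hx⟩⟩)⟩, rfl⟩
    choose w hw using h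
    exact ⟨w, hw⟩
  choose! lg hlg using hlift
  obtain ⟨i⟩ := exists_equiv_of_lift (P₀ := P₀) (P := P) s lg hlg
  exact ⟨A₀, inferInstance, (Fin l → P₀) ⧸ Submodule.span P₀ (lg '' (s : Set (Fin l → P))), inferInstance,
    inferInstance, inferInstance, ⟨(i.trans (Submodule.quotEquivOfEq _ _ hs)).trans e.symm⟩⟩

theorem BCGood.isConstructible (hQ : BCGood Q) {A : Type u} [CommRing A]
    (M : Type u) [AddCommGroup M] [Module (MvPolynomial (Fin N) A) M]
    [Module.FinitePresentation (MvPolynomial (Fin N) A) M] :
    IsConstructible {q : PrimeSpectrum (MvPolynomial (Fin N) A) | Q A M q} := by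
  obtain ⟨A₀, _, M₀, _, _, _, ⟨e⟩⟩ := exists_model (N := N) A M
  have h := ProConsLib.isConstructible_preimage
    (g := PrimeSpectrum.comap (algebraMap (MvPolynomial (Fin N) A₀) (MvPolynomial (Fin N) A)))
    (WLocalLib.isSpectralMap_comap _) (hQ.isConstructible_noetherian (A := A₀) M₀)
  convert h using 1
  ext q
  exact ((hQ.congr A _ _ e q).symm).trans (hQ.bc A₀ A M₀ q)

end Groth.Agent.Codepth5
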