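import Groth.Agent.Codepth5.ConsPoly
import Groth.Agent.Codepth5.AssAff

/-!
# The fibre properties which are invariant under change of base and open for flat modules
-/

set_option autoImplicit false
set_option linter.style.haveILetI false
set_option backward.isDefEq.respectTransparency false
set_option backward.isDefEq.respectTransparency.types false

universe u

open TensorProduct

attribute [local instance] MvPolynomial.algebraMvPolynomial

namespace Groth.Agent.Codepth5

open FibDim (fib)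

/-- The support in the fibre has codimension at least `e` at `q`. -/
def CodimGE (A : Type u) {B : Type u} [CommRing A] [CommRing B] [Algebra A B] (M : Type u) [AddCommGroup M]
    [Module B M] (e : ℕ) (q : PrimeSpectrum B) : Prop :=
  ∀ t : ↥(fib (B := B) (PrimeSpectrum.comap (algebraMap A B) q)), t.1 ≤ q → t.1 ∈ Module.support B M →
    (e : ℕ∞) ≤ Order.height t

variable {N : ℕ} {A A' : Type u} [CommRing A] [CommRing A'] [Algebra A A']

theorem dd_congr_equiv {B : Type u} [CommRing B] [Algebra A B] {M M' : Type u} [AddCommGroup M] [Module B M]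
    [AddCommGroup M'] [Module B M'] (e : M ≃ₗ[B] M') (q : Ideal B) [q.IsPrime] :
    dd (Localization.AtPrime q) (EGA4.FibLocMod A B q M) = dd (Localization.AtPrime q) (EGA4.FibLocMod A B q M') := by
  haveI := FlatLoc6.isLocalRing_fibLocRing (A := A) q
  rw [dd_fibLocRing M q, dd_fibLocRing M' q]
  let g := AlgebraTensorModule.congr (LinearEquiv.refl (EGA4.FibLocRing A B q) (EGA4.FibLocRing A B q)) e
  exact Prod.ext (Module.supportDim_eq_of_equiv g) (FlatLoc6.depth_congr' g)

theorem height_eq_fibHt {y : PrimeSpectrum A} (t : ↥(fib (B := MvPolynomial (Fin N) A) y)) :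
    Order.height t = fibHt (A := A) t.1 :=
  height_congr_fib t.2.symm t ⟨t.1, rfl⟩ rfl

theorem comap_comap_bc (x : PrimeSpectrum (MvPolynomial (Fin N) A')) :
    PrimeSpectrum.comap (algebraMap A (MvPolynomial (Fin N) A))
        (PrimeSpectrum.comap (algebraMap (MvPolynomial (Fin N) A) (MvPolynomial (Fin N) A')) x) =
      PrimeSpectrum.comap (algebraMap A A') (PrimeSpectrum.comap (algebraMap A' (MvPolynomial (Fin N) A')) x) := by
  rw [← PrimeSpectrum.comap_comp_apply, ← PrimeSpectrum.comap_comp_apply, ← IsScalarTower.algebraMap_eq,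
    ← IsScalarTower.algebraMap_eq]

/-- A point of the fibre through `q'` gives one of the fibre through its image. -/
noncomputable def fibDown (q' : PrimeSpectrum (MvPolynomial (Fin N) A'))
    (t' : ↥(fib (B := MvPolynomial (Fin N) A') (PrimeSpectrum.comap (algebraMap A' (MvPolynomial (Fin N) A')) q'))) :
    ↥(fib (B := MvPolynomial (Fin N) A) (PrimeSpectrum.comap (algebraMap A (MvPolynomial (Fin N) A))
      (PrimeSpectrum.comap (algebraMap (MvPolynomial (Fin N) A) (MvPolynomial (Fin N) A')) q'))) :=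
  ⟨PrimeSpectrum.comap (algebraMap (MvPolynomial (Fin N) A) (MvPolynomial (Fin N) A')) t'.1,
    (comap_comap_bc t'.1).trans ((congrArg _ t'.2).trans (comap_comap_bc q').symm)⟩

theorem exists_up (q' : PrimeSpectrum (MvPolynomial (Fin N) A'))
    (t : ↥(fib (B := MvPolynomial (Fin N) A) (PrimeSpectrum.comap (algebraMap A (MvPolynomial (Fin N) A))
      (PrimeSpectrum.comap (algebraMap (MvPolynomial (Fin N) A) (MvPolynomial (Fin N) A')) q'))))
    (ht : t.1 ≤ PrimeSpectrum.comap (algebraMap (MvPolynomial (Fin N) A) (MvPolynomial (Fin N) A')) q') :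
    ∃ t' : ↥(fib (B := MvPolynomial (Fin N) A') (PrimeSpectrum.comap (algebraMap A' (MvPolynomial (Fin N) A')) q')),
      t'.1 ≤ q' ∧ fibDown q' t' = t ∧ fibHt (A := A') t'.1 = fibHt (A := A) t.1 := by
  obtain ⟨s, hs, hfib, hst, hh⟩ := exists_lift_bc q' t.1 t.2 ht
  exact ⟨⟨s, hfib⟩, hs, Subtype.ext hst, hh⟩

variable (M : Type u) [AddCommGroup M] [Module (MvPolynomial (Fin N) A) M] [Module.Finite (MvPolynomial (Fin N) A) M]

/-- The natural invariants before and after change of base. -/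
theorem bc_nat (q' : PrimeSpectrum (MvPolynomial (Fin N) A')) :
    ∃ d e : ℕ, d + e ≤ N ∧
      fibHt (A := A) (PrimeSpectrum.comap (algebraMap (MvPolynomial (Fin N) A) (MvPolynomial (Fin N) A')) q') = d ∧
      fibHt (A := A') q' = (d + e : ℕ) ∧
      ((q' ∉ Module.support (MvPolynomial (Fin N) A') (bcMod (N := N) (A := A) M A') ∧
        PrimeSpectrum.comap (algebraMap (MvPolynomial (Fin N) A) (MvPolynomial (Fin N) A')) q' ∉
          Module.support (MvPolynomial (Fin N) A) M ∧
        dd (Localization.AtPrime q'.asIdeal)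
          (EGA4.FibLocMod A' (MvPolynomial (Fin N) A') q'.asIdeal (bcMod (N := N) (A := A) M A')) = (⊥, ⊤) ∧
        dd (Localization.AtPrime
            (PrimeSpectrum.comap (algebraMap (MvPolynomial (Fin N) A) (MvPolynomial (Fin N) A')) q').asIdeal)
          (EGA4.FibLocMod A (MvPolynomial (Fin N) A)
            (PrimeSpectrum.comap (algebraMap (MvPolynomial (Fin N) A) (MvPolynomial (Fin N) A')) q').asIdeal M) = (⊥, ⊤)) ∨
      ∃ D a : ℕ,
        q' ∈ Module.support (MvPolynomial (Fin N) A') (bcMod (N := N) (A := A) M A') ∧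
        PrimeSpectrum.comap (algebraMap (MvPolynomial (Fin N) A) (MvPolynomial (Fin N) A')) q' ∈
          Module.support (MvPolynomial (Fin N) A) M ∧
        dd (Localization.AtPrime q'.asIdeal)
          (EGA4.FibLocMod A' (MvPolynomial (Fin N) A') q'.asIdeal (bcMod (N := N) (A := A) M A')) =
            (((D + e : ℕ) : WithBot ℕ∞), ((a + e : ℕ) : ℕ∞)) ∧
        dd (Localization.AtPrime
            (PrimeSpectrum.comap (algebraMap (MvPolynomial (Fin N) A) (MvPolynomial (Fin N) A')) q').asIdeal)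
          (EGA4.FibLocMod A (MvPolynomial (Fin N) A)
            (PrimeSpectrum.comap (algebraMap (MvPolynomial (Fin N) A) (MvPolynomial (Fin N) A')) q').asIdeal M) =
            ((D : WithBot ℕ∞), (a : ℕ∞))) := by
  obtain ⟨e, hh, hs, hD, ha⟩ := bc_invariants (A := A) (A' := A') M q'
  let q := PrimeSpectrum.comap (algebraMap (MvPolynomial (Fin N) A) (MvPolynomial (Fin N) A')) q'
  obtain ⟨d, -, -, hd⟩ := exists_dim_fibLocRing q
  obtain ⟨d', hd'N, -, hd'⟩ := exists_dim_fibLocRing q'
  rw [show fibHt (A := A) q = d from hd] at hh ⊢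
  rw [show fibHt (A := A') q' = d' from hd'] at hh ⊢
  have hde : d' = d + e := by exact_mod_cast hh
  refine ⟨d, e, by omega, rfl, by rw [hde], ?_⟩
  rcases exists_invariants M q with ⟨hns, hdd, -⟩ | ⟨-, D, a, -, -, -, hq, hdd, -, -, -⟩
  · refine Or.inl ⟨fun h => hns (hs.1 h), hns, dd_of_notMem_support q' (fun h => hns (hs.1 h)), hdd⟩
  · refine Or.inr ⟨D, a, hs.2 hq, hq, ?_, hdd⟩
    rw [hdd] at hD ha
    exact Prod.ext (hD.trans (by push_cast; rfl)) (ha.trans (by push_cast; rfl))

theorem fibCod_bc (k : ℕ) (q' : PrimeSpectrum (MvPolynomial (Fin N) A')) :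
    FibCod A' (bcMod (N := N) (A := A) M A') k q'.asIdeal ↔
      FibCod A M k (PrimeSpectrum.comap (algebraMap (MvPolynomial (Fin N) A) (MvPolynomial (Fin N) A')) q').asIdeal := by
  show (dd _ _).1 ≤ ((((dd _ _).2 : ℕ∞) : WithBot ℕ∞)) + k ↔ (dd _ _).1 ≤ ((((dd _ _).2 : ℕ∞) : WithBot ℕ∞)) + k
  obtain ⟨d, e, -, -, -, (⟨-, -, h', h⟩ | ⟨D, a, -, -, h', h⟩)⟩ := bc_nat (A := A) (A' := A') M q'
  · rw [h, h']
  · rw [h, h']
    dsimp only
    have key : ∀ x y : ℕ, (x : WithBot ℕ∞) ≤ ((y : ℕ∞) : WithBot ℕ∞) + k ↔ x ≤ y + k := fun x y => by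
      exact_mod_cast Iff.rfl
    rw [key, key]
    omega

theorem skGen_bc (k : ℕ) (q' : PrimeSpectrum (MvPolynomial (Fin N) A')) :
    SkGen A' (bcMod (N := N) (A := A) M A') k q' ↔
      SkGen A M k (PrimeSpectrum.comap (algebraMap (MvPolynomial (Fin N) A) (MvPolynomial (Fin N) A')) q') := by
  have key : ∀ x y : ℕ, min (k : WithBot ℕ∞) (x : WithBot ℕ∞) ≤ (((y : ℕ) : ℕ∞) : WithBot ℕ∞) ↔ k ≤ y ∨ x ≤ y :=
    fun x y => by rw [min_le_iff]; exact or_congr (by exact_mod_cast Iff.rfl) (by exact_mod_cast Iff.rfl)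
  constructor
  · intro h t ht
    obtain ⟨t', ht', hdown, hh⟩ := exists_up q' t ht
    have h1 := h t' ht'
    obtain ⟨d, e, -, hd, hd', hcase⟩ := bc_nat (A := A) (A' := A') M t'.1
    subst hdown
    rw [hh, show fibHt (A := A) (fibDown q' t').1 = d from hd] at hd'
    have he : d = d + e := by exact_mod_cast hd'
    rw [SkOne] at h1 ⊢
    rcases hcase with ⟨-, -, -, hdd⟩ | ⟨D, a, -, -, h', hdd⟩
    · rw [(show dd (Localization.AtPrime (fibDown q' t').1.asIdeal) (EGA4.FibLocMod A (MvPolynomial (Fin N) A) (fibDown q' t').1.asIdeal M) = (⊥, ⊤) from hdd)]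
      exact le_trans (min_le_right _ _) bot_le
    · rw [show dd (Localization.AtPrime (fibDown q' t').1.asIdeal) (EGA4.FibLocMod A (MvPolynomial (Fin N) A) (fibDown q' t').1.asIdeal M) = ((D : WithBot ℕ∞), (a : ℕ∞)) from hdd]
      rw [h'] at h1
      dsimp only at h1 ⊢
      rw [key] at h1 ⊢
      omega
  · intro h t' ht'
    have h1 := h (fibDown q' t') (Ideal.comap_mono ht')
    obtain ⟨d, e, -, -, -, hcase⟩ := bc_nat (A := A) (A' := A') M t'.1
    rw [SkOne] at h1 ⊢
    rcases hcase with ⟨-, -, h', -⟩ | ⟨D, a, -, -, h', hdd⟩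
    · rw [h']
      exact le_trans (min_le_right _ _) bot_le
    · rw [h']
      rw [show dd (Localization.AtPrime (fibDown q' t').1.asIdeal) (EGA4.FibLocMod A (MvPolynomial (Fin N) A) (fibDown q' t').1.asIdeal M) = ((D : WithBot ℕ∞), (a : ℕ∞)) from hdd] at h1
      dsimp only at h1 ⊢
      rw [key] at h1 ⊢
      omega

theorem assDims_bc (S : Set ℕ) (q' : PrimeSpectrum (MvPolynomial (Fin N) A')) :
    AssDims A' (bcMod (N := N) (A := A) M A') S q' ↔
      AssDims A M S (PrimeSpectrum.comap (algebraMap (MvPolynomial (Fin N) A) (MvPolynomial (Fin N) A')) q') := by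
  constructor
  · intro h t ht hta
    obtain ⟨t', ht', hdown, hh⟩ := exists_up q' t ht
    subst hdown
    obtain ⟨d, e, -, hd, hd', hcase⟩ := bc_nat (A := A) (A' := A') M t'.1
    have hd2 := hd'
    rw [hh, show fibHt (A := A) (fibDown q' t').1 = d from hd] at hd2
    have he : d = d + e := by exact_mod_cast hd2
    rcases hcase with ⟨-, hns, -, -⟩ | ⟨D, a, -, -, h', hdd⟩
    · exact absurd (mem_support_of_assAt _ hta) hns
    rw [AssAt, show dd (Localization.AtPrime (fibDown q' t').1.asIdeal) (EGA4.FibLocMod A (MvPolynomial (Fin N) A) (fibDown q' t').1.asIdeal M) = ((D : WithBot ℕ∞), (a : ℕ∞)) from hdd] at hta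
    have ha : a = 0 := by
      have h0 : (a : ℕ∞) = 0 := hta
      exact_mod_cast h0
    obtain ⟨n, hn, hc⟩ := h t' ht' (by
      rw [AssAt, h']
      show ((a + e : ℕ) : ℕ∞) = 0
      exact_mod_cast (show a + e = 0 by omega))
    refine ⟨n, hn, ?_⟩
    rw [(coheight_eq_sub _ ((height_eq_fibHt (fibDown q' t')).trans hd)).2]
    rw [(coheight_eq_sub _ ((height_eq_fibHt t').trans hd')).2] at hc
    rw [← hc, ← he]
  · intro h t' ht' hta
    obtain ⟨d, e, -, hd, hd', hcase⟩ := bc_nat (A := A) (A' := A') M t'.1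
    rcases hcase with ⟨hns, -, -, -⟩ | ⟨D, a, -, -, h', hdd⟩
    · exact absurd (mem_support_of_assAt _ hta) hns
    rw [AssAt, h'] at hta
    have hae : a + e = 0 := by
      have h0 : ((a + e : ℕ) : ℕ∞) = 0 := hta
      exact_mod_cast h0
    obtain ⟨n, hn, hc⟩ := h (fibDown q' t') (Ideal.comap_mono ht') (by
      rw [AssAt, show dd (Localization.AtPrime (fibDown q' t').1.asIdeal) (EGA4.FibLocMod A (MvPolynomial (Fin N) A) (fibDown q' t').1.asIdeal M) = ((D : WithBot ℕ∞), (a : ℕ∞)) from hdd]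
      show (a : ℕ∞) = 0
      exact_mod_cast (show a = 0 by omega))
    refine ⟨n, hn, ?_⟩
    rw [(coheight_eq_sub _ ((height_eq_fibHt t').trans hd')).2]
    rw [(coheight_eq_sub _ ((height_eq_fibHt (fibDown q' t')).trans hd)).2] at hc
    rw [← hc, show d + e = d by omega]

theorem codimGE_bc (c : ℕ) (q' : PrimeSpectrum (MvPolynomial (Fin N) A')) :
    CodimGE A' (bcMod (N := N) (A := A) M A') c q' ↔
      CodimGE A M c (PrimeSpectrum.comap (algebraMap (MvPolynomial (Fin N) A) (MvPolynomial (Fin N) A')) q') := by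
  constructor
  · intro h t ht htM
    obtain ⟨t', ht', hdown, hh⟩ := exists_up q' t ht
    subst hdown
    obtain ⟨e, -, hs, -, -⟩ := bc_invariants (A := A) (A' := A') M t'.1
    have := h t' ht' (hs.2 htM)
    rwa [height_eq_fibHt, hh, ← height_eq_fibHt] at this
  · intro h t' ht' htM
    obtain ⟨e, he, hs, -, -⟩ := bc_invariants (A := A) (A' := A') M t'.1
    refine (h (fibDown q' t') (Ideal.comap_mono ht') (hs.1 htM)).trans ?_
    rw [height_eq_fibHt, height_eq_fibHt, he]
    exact le_self_add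

theorem rectGE_bc (n : ℕ) (q' : PrimeSpectrum (MvPolynomial (Fin N) A')) :
    RectGE A' (bcMod (N := N) (A := A) M A') n q' ↔
      RectGE A M n (PrimeSpectrum.comap (algebraMap (MvPolynomial (Fin N) A) (MvPolynomial (Fin N) A')) q') := by
  obtain ⟨d, e, hN, hd, hd', hcase⟩ := bc_nat (A := A) (A' := A') M q'
  rw [RectGE, RectGE]
  rcases hcase with ⟨-, -, h', hdd⟩ | ⟨D, a, -, -, h', hdd⟩
  · rw [h', hdd, top_add, top_add]
  · rw [h', hdd, (coheight_eq_sub _ (show Order.height _ = ((d + e : ℕ) : ℕ∞) from hd')).2,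
      (coheight_eq_sub _ (show Order.height _ = (d : ℕ∞) from hd)).2]
    dsimp only
    have key : ∀ x y : ℕ, (n : ℕ∞) ≤ (x : ℕ∞) + (y : ℕ∞) ↔ n ≤ x + y := fun x y => by exact_mod_cast Iff.rfl
    rw [key, key]
    omega

section Good

variable {N : ℕ}

theorem good_fibCod (k : ℕ) : BCGood.{u} (N := N) (fun A _ M _ _ q => FibCod A M k q.asIdeal) where
  congr A _ M M' _ _ _ _ e q := cod_iff_of_dd_eq (dd_congr_equiv (A := A) e q.asIdeal) k
  bc A A' _ _ _ M _ _ _ q' := fibCod_bc M k q'
  isOpen A _ M _ _ _ _ _ _ := isOpen_fibCod M k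

theorem good_skGen (k : ℕ) : BCGood.{u} (N := N) (fun A _ M _ _ q => SkGen A M k q) where
  congr A _ M M' _ _ _ _ e q := forall₂_congr fun t _ => by
    rw [SkOne, SkOne, dd_congr_equiv (A := A) e t.1.asIdeal]
  bc A A' _ _ _ M _ _ _ q' := skGen_bc M k q'
  isOpen A _ M _ _ _ _ _ _ := isOpen_skGen M k

theorem good_assDims (S : Set ℕ) : BCGood.{u} (N := N) (fun A _ M _ _ q => AssDims A M S q) where
  congr A _ M M' _ _ _ _ e q := forall₂_congr fun t _ => by
    rw [AssAt, AssAt, dd_congr_equiv (A := A) e t.1.asIdeal]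
  bc A A' _ _ _ M _ _ _ q' := assDims_bc M S q'
  isOpen A _ M _ _ _ _ _ _ := isOpen_assDims_poly M S

theorem good_codimGE (c : ℕ) : BCGood.{u} (N := N) (fun A _ M _ _ q => CodimGE A M c q) where
  congr A _ M M' _ _ _ _ e q := by
    simp only [CodimGE, e.support_eq]
  bc A A' _ _ _ M _ _ _ q' := codimGE_bc M c q'
  isOpen A _ M _ _ _ _ _ _ := by
    have h := isOpen_codim (R := A) (N := N) M c 0
    convert h using 1
    ext q
    simp only [CodimGE, Nat.cast_zero, add_zero]

theorem good_rectGE (n : ℕ) : BCGood.{u} (N := N) (fun A _ M _ _ q => RectGE A M n q) where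
  congr A _ M M' _ _ _ _ e q := by
    rw [RectGE, RectGE, dd_congr_equiv (A := A) e q.asIdeal]
  bc A A' _ _ _ M _ _ _ q' := rectGE_bc M n q'
  isOpen A _ M _ _ _ _ _ _ := isOpen_rectGE M n

end Good

end Groth.Agent.Codepth5
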