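import Groth.Agent.Codepth5.GeomRk
import Groth.Agent.ConsPropLib.Loci

/-!
# The dimensions of the components of fibrewise locally closed sets
-/

set_option autoImplicit false
set_option linter.style.haveILetI false
set_option backward.isDefEq.respectTransparency false
set_option backward.isDefEq.respectTransparency.types false

universe u

open Topology AlgebraicGeometry CategoryTheory Limits

namespace Groth.Agent.Codepth5

section Top

variable {α : Type*} [TopologicalSpace α]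

theorem quasiSober_of_isLocallyClosed [QuasiSober α] {T : Set α} (h : IsLocallyClosed T) : QuasiSober ↥T := by
  obtain ⟨U, C, hU, hC, rfl⟩ := h
  haveI : QuasiSober ↥U := hU.isOpenEmbedding_subtypeVal.quasiSober
  have h1 : IsClosedEmbedding (Set.inclusion (Set.inter_subset_left : U ∩ C ⊆ U)) := by
    refine ⟨IsEmbedding.inclusion _, ?_⟩
    rw [Set.range_inclusion]
    convert hC.preimage (continuous_subtype_val : Continuous (Subtype.val : ↥U → α)) using 1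
    ext z
    exact ⟨fun hz => hz.2, fun hz => ⟨z.2, hz⟩⟩
  exact h1.quasiSober

theorem mem_irreducibleComponents_iff [QuasiSober α] [T0Space α] (Z : Set α) :
    Z ∈ irreducibleComponents α ↔ ∃ η, Z = closure {η} ∧ ∀ z, z ⤳ η → z = η := by
  constructor
  · intro hZ
    have hc := isClosed_of_mem_irreducibleComponents Z hZ
    refine ⟨hZ.1.genericPoint, ?_, fun z hz => ?_⟩
    · rw [hZ.1.isGenericPoint_genericPoint_closure.def, hc.closure_eq]
    · have hg : closure {hZ.1.genericPoint} = Z := by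
        rw [hZ.1.isGenericPoint_genericPoint_closure.def, hc.closure_eq]
      have h1 : Z ⊆ closure {z} := by
        rw [← hg]
        exact isClosed_closure.closure_subset_iff.2 (Set.singleton_subset_iff.2 (specializes_iff_mem_closure.1 hz))
      have h2 : closure {z} ⊆ Z := hZ.2 isIrreducible_singleton.closure h1
      have h3 : hZ.1.genericPoint ⤳ z :=
        specializes_iff_mem_closure.2 (hg.symm ▸ h2 (subset_closure rfl))
      exact (hz.antisymm h3).eq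
  · rintro ⟨η, rfl, hη⟩
    refine ⟨isIrreducible_singleton.closure, fun C hC hle => ?_⟩
    have hg := hC.isGenericPoint_genericPoint_closure
    have h1 : hC.genericPoint = η := hη _ (hg.specializes (subset_closure (hle (subset_closure rfl))))
    exact fun z hz => h1 ▸ (hg.specializes (subset_closure hz)).mem_closure

end Top

variable {X Y : Scheme.{u}} (f : X ⟶ Y)

theorem dims_components [LocallyOfFiniteType f] (Z : Set X) (s : Y)
    (hZ : IsLocallyClosed (Subtype.val ⁻¹' Z : Set ↥(⇑f ⁻¹' {s}))) :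
    (fun T : Set ↥(Z ∩ ⇑f ⁻¹' {s}) => topologicalKrullDim ↥T) '' irreducibleComponents ↥(Z ∩ ⇑f ⁻¹' {s}) =
      (fun z => ((FibDim.rd f z : ℕ∞) : WithBot ℕ∞)) ''
        {z : X | z ∈ Z ∧ f z = s ∧ ∀ w, w ⤳ z → f w = s → w ∈ Z → w = z} := by
  obtain ⟨U₁, C₁, hU₁, hC₁, he⟩ := hZ
  obtain ⟨U, hU, rfl⟩ := isOpen_induced_iff.1 hU₁
  obtain ⟨C, hC, rfl⟩ := isClosed_induced_iff.1 hC₁
  have hmem : ∀ z, f z = s → (z ∈ Z ↔ z ∈ U ∧ z ∈ C) := fun z hz => Set.ext_iff.1 he ⟨z, hz⟩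
  haveI : QuasiSober ↥(Z ∩ ⇑f ⁻¹' {s}) := by
    have h1 : f.fiberι s ⁻¹' Z = (f.fiberι s ⁻¹' U) ∩ (f.fiberι s ⁻¹' C) := by
      ext w
      exact hmem _ (FibDim.fiber_apply_fiberι f w)
    haveI : QuasiSober ↥(f.fiberι s ⁻¹' Z) := quasiSober_of_isLocallyClosed
      ⟨_, _, hU.preimage (f.fiberι s).continuous, hC.preimage (f.fiberι s).continuous, h1⟩
    exact (FibDim.pieceHomeo f s Z).symm.isClosedEmbedding.quasiSober
  have hsp : ∀ a b : ↥(Z ∩ ⇑f ⁻¹' {s}), a ⤳ b ↔ a.1 ⤳ b.1 := fun a b => subtype_specializes_iff a b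
  have hdim : ∀ η : ↥(Z ∩ ⇑f ⁻¹' {s}), topologicalKrullDim ↥(closure ({η} : Set ↥(Z ∩ ⇑f ⁻¹' {s}))) =
      ((FibDim.rd f η.1 : ℕ∞) : WithBot ℕ∞) := by
    intro η
    have himg : Subtype.val '' closure ({η} : Set ↥(Z ∩ ⇑f ⁻¹' {s})) = U ∩ closure {η.1} ∩ ⇑f ⁻¹' {s} := by
      ext z
      constructor
      · rintro ⟨t, ht, rfl⟩
        exact ⟨⟨((hmem t.1 t.2.2).1 t.2.1).1,
          specializes_iff_mem_closure.1 ((hsp η t).1 (specializes_iff_mem_closure.2 ht))⟩, t.2.2⟩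
      · rintro ⟨⟨hzU, hzc⟩, hzs⟩
        have hzC : z ∈ C := (specializes_iff_mem_closure.2 hzc).mem_closed hC ((hmem η.1 η.2.2).1 η.2.1).2
        exact ⟨⟨z, (hmem z hzs).2 ⟨hzU, hzC⟩, hzs⟩,
          specializes_iff_mem_closure.1 ((hsp η _).2 (specializes_iff_mem_closure.2 hzc)), rfl⟩
    rw [FibDim.topologicalKrullDim_range_closed, himg, FibDim.dim_inter_eq_iSup f s hU isClosed_closure]
    refine le_antisymm (iSup_le fun z => ?_)
      (le_iSup_of_le ⟨η.1, ⟨((hmem η.1 η.2.2).1 η.2.1).1, subset_closure rfl⟩, η.2.2⟩ le_rfl)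
    exact_mod_cast FibDim.rd_le_of_specializes f (specializes_iff_mem_closure.2 z.2.1.2) (η.2.2.trans z.2.2.symm)
  ext d
  simp only [Set.mem_image, mem_irreducibleComponents_iff]
  constructor
  · rintro ⟨_, ⟨η, rfl, hη⟩, rfl⟩
    exact ⟨η.1, ⟨η.2.1, η.2.2, fun w hw hws hwZ => congrArg Subtype.val (hη ⟨w, hwZ, hws⟩ ((hsp _ η).2 hw))⟩,
      (hdim η).symm⟩
  · rintro ⟨z, ⟨hzZ, hzs, hmax⟩, rfl⟩
    exact ⟨_, ⟨⟨z, hzZ, hzs⟩, rfl, fun w hw => Subtype.ext (hmax w.1 ((hsp _ _).1 hw) w.2.2 w.2.1)⟩, hdim _⟩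

/-- The points of `Z` at which the dimension of the trace of `Z` on the fibre is `n`. -/
def dimTraceEq (Z : Set X) (n : ℕ) : Set X :=
  {x | x ∈ Z ∧ DimSetLTAt f Z (n + 1) x ∧ ¬ DimSetLTAt f Z n x}

theorem exists_mem_dimTraceEq_iff [LocallyOfFiniteType f] (Z : Set X) (n : ℕ) (s : Y) :
    (∃ x ∈ dimTraceEq f Z n, f x = s) ↔
      ∃ z, (z ∈ Z ∧ f z = s ∧ ∀ w, w ⤳ z → f w = s → w ∈ Z → w = z) ∧ FibDim.rd f z = n := by
  constructor
  · rintro ⟨x, ⟨-, h1, h2⟩, rfl⟩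
    obtain ⟨z, hz, hfz, hzZ, hn⟩ : ∃ z, z ⤳ x ∧ f z = f x ∧ z ∈ Z ∧ n ≤ FibDim.rd f z := by
      by_contra hne
      exact h2 fun z hz hfz hzZ => Nat.lt_of_not_le fun hn => hne ⟨z, hz, hfz, hzZ, hn⟩
    have hle := h1 z hz hfz hzZ
    refine ⟨z, ⟨hzZ, hfz, fun w hw hfw hwZ => ?_⟩, by omega⟩
    by_contra hne
    have := FibDim.rd_lt f hw hne (hfw.trans hfz.symm)
    have := h1 w (hw.trans hz) hfw hwZ
    omega
  · rintro ⟨z, ⟨hzZ, hzs, hmax⟩, rfl⟩
    refine ⟨z, ⟨hzZ, fun w hw hfw hwZ => ?_, fun h => lt_irrefl _ (h z specializes_rfl rfl hzZ)⟩, hzs⟩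
    rw [hmax w hw (hfw.trans hzs) hwZ]
    exact Nat.lt_succ_self _

theorem isLC_dims [LocallyOfFinitePresentation f] [QuasiCompact f] [QuasiSeparated f]
    (Z : Set X) (hZ : IsLocallyConstructible Z)
    (hZs : ∀ s : Y, IsLocallyClosed (Subtype.val ⁻¹' Z : Set ↥(⇑f ⁻¹' {s}))) (Φ : Set (WithBot ℕ∞)) :
    IsLocallyConstructible {s : Y |
      (fun T : Set ↥(Z ∩ ⇑f ⁻¹' {s}) => topologicalKrullDim ↥T) '' irreducibleComponents ↥(Z ∩ ⇑f ⁻¹' {s}) = Φ} := by
  have hG : ∀ n : ℕ, IsLocallyConstructible {s : Y | ∃ x ∈ dimTraceEq f Z n, f x = s} := fun n =>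
    f.isLocallyConstructible_image (hZ.inter ((isLC_dimSetLTAt f Z hZ (n + 1)).inter
      (isLC_compl (isLC_dimSetLTAt f Z hZ n))))
  refine ConsPropLib.lc_of_affine fun V hV => ?_
  haveI : IsAffine (V : Scheme.{u}) := hV
  haveI : CompactSpace ↥(f ⁻¹ᵁ V : Scheme.{u}) :=
    isCompact_iff_compactSpace.1 (f.isCompact_preimage hV.isCompact)
  obtain ⟨N, hN⟩ : ∃ N : ℕ, ∀ z ∈ f ⁻¹ᵁ V, FibDim.rd f z ≤ N := by
    obtain ⟨t, ht⟩ := (isCompact_iff_compactSpace.2 ‹CompactSpace _›).elim_finite_subcover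
      (fun n : ℕ => {z : X | FlatMor.fibreDimAt f z ≤ (n : WithBot ℕ∞)}) (fun n => FibDim.isOpen_fibreDimAt_le f n)
      (fun z _ => Set.mem_iUnion.2 ⟨_, (DimFormula.fibreDimAt_eq_add f z).le⟩)
    refine ⟨t.sup id, fun z hz => ?_⟩
    obtain ⟨n, hn, hzn⟩ := Set.mem_iUnion₂.1 (ht hz)
    rw [Set.mem_ofPred_eq, fibreDimAt_le_iff_add] at hzn
    exact (Nat.le_add_right _ _).trans (hzn.trans (Finset.le_sup (f := id) hn))
  classical
  let cast : ℕ → WithBot ℕ∞ := fun n => ((n : ℕ∞) : WithBot ℕ∞)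
  by_cases hΦ : Φ ⊆ cast '' ↑(Finset.range (N + 1))
  swap
  · convert (IsConstructible.empty : IsConstructible (∅ : Set (V : Scheme.{u}))) using 1
    refine Set.eq_empty_iff_forall_notMem.2 fun s hs => hΦ fun d hd => ?_
    have hs' : d ∈ (fun T : Set ↥(Z ∩ ⇑f ⁻¹' {V.ι s}) => topologicalKrullDim ↥T) ''
        irreducibleComponents ↥(Z ∩ ⇑f ⁻¹' {V.ι s}) := (Eq.symm (show _ = Φ from hs)) ▸ hd
    rw [dims_components f Z _ (hZs _)] at hs'
    obtain ⟨z, ⟨-, hzs, -⟩, rfl⟩ := hs'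
    exact ⟨_, Finset.mem_range.2 (Nat.lt_succ_of_le (hN z (show f z ∈ V from hzs ▸ s.2))), rfl⟩
  have hlc : IsLocallyConstructible (⋂ n ∈ Finset.range (N + 1),
      (if cast n ∈ Φ then {s : Y | ∃ x ∈ dimTraceEq f Z n, f x = s}
        else {s : Y | ∃ x ∈ dimTraceEq f Z n, f x = s}ᶜ)) := isLC_biInter _ _ fun n _ => by
    split_ifs
    exacts [hG n, isLC_compl (hG n)]
  convert (hlc.preimage_of_isOpenEmbedding V.ι.isOpenEmbedding).isConstructible using 1
  ext s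
  rw [Set.mem_preimage, Set.mem_preimage, Set.mem_ofPred_eq, dims_components f Z _ (hZs _), Set.mem_iInter₂]
  constructor
  · intro h n _
    split_ifs with hn
    · rw [← h] at hn
      obtain ⟨z, hz, hzn⟩ := hn
      exact (exists_mem_dimTraceEq_iff f Z n _).2 ⟨z, hz, ENat.coe_inj.1 (WithBot.coe_inj.1 hzn)⟩
    · intro hex
      obtain ⟨z, hz, rfl⟩ := (exists_mem_dimTraceEq_iff f Z n _).1 hex
      exact hn (h ▸ ⟨z, hz, rfl⟩)
  · intro h
    refine Set.Subset.antisymm ?_ fun d hd => ?_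
    · rintro _ ⟨z, hz, rfl⟩
      have hzN : FibDim.rd f z ∈ Finset.range (N + 1) :=
        Finset.mem_range.2 (Nat.lt_succ_of_le (hN z (show f z ∈ V from hz.2.1 ▸ s.2)))
      have := h _ hzN
      split_ifs at this with hn
      · exact hn
      · exact absurd ((exists_mem_dimTraceEq_iff f Z _ _).2 ⟨z, hz, rfl⟩) this
    · obtain ⟨n, hn, rfl⟩ := hΦ hd
      have := h n hn
      rw [if_pos hd] at this
      obtain ⟨z, hz, rfl⟩ := (exists_mem_dimTraceEq_iff f Z n _).1 this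
      exact ⟨z, hz, rfl⟩

end Groth.Agent.Codepth5
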