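import Groth.Agent.Codepth5.DimSetGen
import Groth.Agent.Codepth5.ConsScheme

/-!
# The dimension of the trace of a constructible set near the points of the fibres
-/

set_option autoImplicit false
set_option linter.style.haveILetI false
set_option backward.isDefEq.respectTransparency false
set_option backward.isDefEq.respectTransparency.types false

universe u

open TensorProduct Topology AlgebraicGeometry CategoryTheory

attribute [local instance] MvPolynomial.algebraMvPolynomial

namespace Groth.Agent.Codepth5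

open FibDim (fib)

/-- The trace of `E` on the fibre has codimension at least `e` near `q`. -/
def CodimSetGE (A : Type u) {B : Type u} [CommRing A] [CommRing B] [Algebra A B] (E : Set (PrimeSpectrum B))
    (e : ℕ) (q : PrimeSpectrum B) : Prop :=
  ∀ t : ↥(fib (B := B) (PrimeSpectrum.comap (algebraMap A B) q)), t.1 ≤ q → t.1 ∈ E → (e : ℕ∞) ≤ Order.height t

/-- The trace of `E` on the fibre has dimension less than `m` near `q`. -/
def DimSetLT (A : Type u) {B : Type u} [CommRing A] [CommRing B] [Algebra A B] (E : Set (PrimeSpectrum B))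
    (m : ℕ) (q : PrimeSpectrum B) : Prop :=
  ∀ t : ↥(fib (B := B) (PrimeSpectrum.comap (algebraMap A B) q)), t.1 ≤ q → t.1 ∈ E → Order.coheight t < (m : ℕ∞)

section Poly

variable {N : ℕ} {A A' : Type u} [CommRing A] [CommRing A'] [Algebra A A']

theorem codimSetGE_bc (E : Set (PrimeSpectrum (MvPolynomial (Fin N) A))) (c : ℕ)
    (q' : PrimeSpectrum (MvPolynomial (Fin N) A')) :
    CodimSetGE A' (PrimeSpectrum.comap (algebraMap (MvPolynomial (Fin N) A) (MvPolynomial (Fin N) A')) ⁻¹' E) c q' ↔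
      CodimSetGE A E c (PrimeSpectrum.comap (algebraMap (MvPolynomial (Fin N) A) (MvPolynomial (Fin N) A')) q') := by
  constructor
  · intro h t ht htM
    obtain ⟨t', ht', hdown, hh⟩ := exists_up q' t ht
    subst hdown
    have := h t' ht' htM
    rwa [height_eq_fibHt, hh, ← height_eq_fibHt] at this
  · intro h t' ht' htM
    obtain ⟨e, he, -, -, -⟩ := bc_invariants (A := A) (A' := A') (MvPolynomial (Fin N) A) t'.1
    refine (h (fibDown q' t') (Ideal.comap_mono ht') htM).trans ?_
    rw [height_eq_fibHt, height_eq_fibHt, he]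
    exact le_self_add

theorem map_image_comap (s : Set (MvPolynomial (Fin N) A)) :
    PrimeSpectrum.comap (algebraMap (MvPolynomial (Fin N) A) (MvPolynomial (Fin N) A')) ⁻¹' PrimeSpectrum.zeroLocus s =
      PrimeSpectrum.zeroLocus (algebraMap (MvPolynomial (Fin N) A) (MvPolynomial (Fin N) A') '' s) :=
  PrimeSpectrum.preimage_comap_zeroLocus _ s

theorem isOpen_codimSet_flat (J : Ideal (MvPolynomial (Fin N) A)) (g : MvPolynomial (Fin N) A) [IsNoetherianRing A]
    (hg : ∀ a, g * a ∈ J → a ∈ J) [Module.Flat A (MvPolynomial (Fin N) A ⧸ J)]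
    [Module.Flat A (MvPolynomial (Fin N) A ⧸ (J ⊔ Ideal.span {g}))] (c : ℕ) :
    IsOpen {q | CodimSetGE A (PrimeSpectrum.zeroLocus (J : Set (MvPolynomial (Fin N) A)) \
      PrimeSpectrum.zeroLocus {g}) c q} := by
  have hsupp : Module.support (MvPolynomial (Fin N) A) (MvPolynomial (Fin N) A ⧸ J) =
      PrimeSpectrum.zeroLocus (J : Set (MvPolynomial (Fin N) A)) := by
    rw [Module.support_eq_zeroLocus, Ideal.annihilator_quotient]
  haveI : Module.FinitePresentation (MvPolynomial (Fin N) A) (MvPolynomial (Fin N) A ⧸ J) :=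
    Module.finitePresentation_of_finite _ _
  convert (good_codimGE (N := N) c).isOpen A (MvPolynomial (Fin N) A ⧸ J) using 1
  ext q
  constructor
  · intro h t ht htM
    rw [hsupp] at htM
    obtain ⟨t₀, ht₀, hle, hJ, hcomap, hgt⟩ := exists_le_notMem (A := A) J g hg t.1.asIdeal htM
    let s : ↥(fib (B := MvPolynomial (Fin N) A) (PrimeSpectrum.comap (algebraMap A (MvPolynomial (Fin N) A)) q)) :=
      ⟨⟨t₀, ht₀⟩, (PrimeSpectrum.ext hcomap : PrimeSpectrum.comap _ (⟨t₀, ht₀⟩ : PrimeSpectrum _) = PrimeSpectrum.comap _ t.1).trans t.2⟩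
    exact (h s (le_trans (show s.1 ≤ t.1 from hle) ht)
      ⟨hJ, fun h' => hgt (h' (Set.mem_singleton g))⟩).trans (Order.height_mono (show s ≤ t from hle))
  · intro h t ht htE
    exact h t ht (hsupp.symm ▸ htE.1)

variable (A)

theorem isConstructible_codimSet_noetherian [IsNoetherianRing A] (s : Set (MvPolynomial (Fin N) A))
    (g₀ : MvPolynomial (Fin N) A) (c : ℕ) :
    IsConstructible {q | CodimSetGE A (PrimeSpectrum.zeroLocus s \ PrimeSpectrum.zeroLocus {g₀}) c q} := by
  refine isConstructible_of_strata _ fun z => ?_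
  let P := MvPolynomial (Fin N) A
  let p := z.asIdeal.comap (algebraMap A P)
  let D := A ⧸ p
  let S := MvPolynomial (Fin N) D
  let g₁ : P →+* S := algebraMap _ _
  let I : Ideal S := Ideal.span (g₁ '' s)
  let g : S := g₁ g₀
  let J : Ideal S := satIdeal I g
  obtain ⟨f, hf, hflat⟩ := exists_flat_localization (D := D) (P := S) (S := S) (S ⧸ J)
  obtain ⟨f', hf', hflat'⟩ := exists_flat_localization (D := D) (P := S) (S := S) (S ⧸ (J ⊔ Ideal.span {g}))
  let A₁ := Localization.Away f
  let A₂ := Localization.Away f'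
  let A' := Localization.Away (f * f')
  let P' := MvPolynomial (Fin N) A'
  haveI := tower_poly₃ (N := N) A D A'
  haveI hloc : IsLocalization (Submonoid.map (MvPolynomial.C (σ := Fin N)) (Submonoid.powers (f * f'))) P' :=
    MvPolynomial.isLocalization (Submonoid.powers (f * f')) A'
  haveI : IsNoetherianRing A' := IsLocalization.isNoetherianRing (Submonoid.powers (f * f')) A' inferInstance
  have hfl : ∀ (K : Ideal S) (e : D), e ∣ f * f' →
      (∀ (Af S' : Type u) [CommRing Af] [CommRing S'] [Algebra D Af] [IsLocalization.Away e Af]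
        [Algebra S S'] [Algebra Af S'] [Algebra D S'] [IsScalarTower D S S'] [IsScalarTower D Af S'],
        IsLocalization (Algebra.algebraMapSubmonoid S (Submonoid.powers e)) S' →
          @Module.Flat Af (S' ⊗[S] (S ⧸ K)) _ _ (Module.compHom _ (algebraMap Af S'))) →
      Module.Flat A' (P' ⧸ K.map (algebraMap S P')) := by
    intro K e he hK
    let Ae := Localization.Away e
    let Pe := MvPolynomial (Fin N) Ae
    have hloce : IsLocalization (Submonoid.map (MvPolynomial.C (σ := Fin N)) (Submonoid.powers e)) Pe :=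
      MvPolynomial.isLocalization (Submonoid.powers e) Ae
    have h1 : Module.Flat Ae (Pe ⧸ K.map (algebraMap S Pe)) :=
      flat_map_quotient (D := D) K (hK Ae Pe hloce)
    have hu : IsUnit (algebraMap D A' e) :=
      isUnit_of_dvd_unit (map_dvd _ he) (IsLocalization.Away.algebraMap_isUnit (f * f'))
    letI : Algebra Ae A' := (IsLocalization.Away.lift e (g := algebraMap D A') hu).toAlgebra
    haveI : IsScalarTower D Ae A' := IsScalarTower.of_algebraMap_eq fun d =>
      (IsLocalization.Away.lift_eq e hu d).symm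
    haveI := tower_poly₃ (N := N) D Ae A'
    haveI : Module.Flat Ae (Pe ⧸ K.map (algebraMap S Pe)) := h1
    have h2 : Module.Flat A' ((A' ⊗[Ae] (Pe ⧸ K.map (algebraMap S Pe)))) := inferInstance
    exact flat_of_bc_quotient (A := Ae) (A' := A') (P := Pe) (P' := P') (K.map (algebraMap S Pe)) _
      (by rw [Ideal.map_map, ← IsScalarTower.algebraMap_eq]) h2
  haveI hflJ : Module.Flat A' (P' ⧸ J.map (algebraMap S P')) :=
    hfl J f (dvd_mul_right _ _) fun Af S' _ _ _ _ _ _ _ _ _ h => hflat Af S' h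
  haveI hflJg : Module.Flat A' (P' ⧸ (J.map (algebraMap S P') ⊔ Ideal.span {algebraMap S P' g})) := by
    have h := hfl (J ⊔ Ideal.span {g}) f' (dvd_mul_left _ _) fun Af S' _ _ _ _ _ _ _ _ _ h => hflat' Af S' h
    rwa [Ideal.map_sup, Ideal.map_span, Set.image_singleton] at h
  have hreg := regular_map (S' := P') (Submonoid.map (MvPolynomial.C (σ := Fin N)) (Submonoid.powers (f * f'))) J g
    (isSMulRegular_satIdeal I g)
  have hW := isOpen_codimSet_flat (N := N) (A := A') (J.map (algebraMap S P')) (algebraMap S P' g) hreg c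
  have hg₁ : Function.Surjective g₁ := MvPolynomial.map_surjective _ Ideal.Quotient.mk_surjective
  obtain ⟨f₀, hf₀⟩ := Ideal.Quotient.mk_surjective (f * f')
  refine ⟨P', inferInstance, algebraMap P P', MvPolynomial.C f₀,
    fun h => mul_ne_zero hf hf' (by rw [← hf₀, Ideal.Quotient.eq_zero_iff_mem]; exact h), ?_, fun q hzq hqV => ?_, ?_⟩
  · rw [IsScalarTower.algebraMap_eq P S P', PrimeSpectrum.comap_comp]
    exact (PrimeSpectrum.isClosedEmbedding_comap_of_surjective _ _ hg₁).isInducing.comp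
      (PrimeSpectrum.localization_comap_isInducing P'
        (Submonoid.map (MvPolynomial.C (σ := Fin N)) (Submonoid.powers (f * f'))))
  · have hker : RingHom.ker g₁ ≤ q.asIdeal := by
      show RingHom.ker (MvPolynomial.map (Ideal.Quotient.mk p)) ≤ _
      rw [MvPolynomial.ker_map, Ideal.mk_ker, Ideal.map_le_iff_le_comap]
      exact fun a ha => hzq ha
    obtain ⟨q₁, rfl⟩ : q ∈ Set.range (PrimeSpectrum.comap g₁) := by
      rw [_root_.range_comap_of_surjective _ _ hg₁]
      exact hker
    obtain ⟨q₂, rfl⟩ : q₁ ∈ Set.range (PrimeSpectrum.comap (algebraMap S P')) := by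
      rw [PrimeSpectrum.localization_comap_range P'
        (Submonoid.map (MvPolynomial.C (σ := Fin N)) (Submonoid.powers (f * f')))]
      refine Set.disjoint_left.2 ?_
      rintro _ ⟨_, ⟨n, rfl⟩, rfl⟩ hmem
      have h1 : (MvPolynomial.C (f * f') : S) ∈ q₁.asIdeal := q₁.2.mem_of_pow_mem n (by simpa using hmem)
      refine hqV ?_
      show g₁ (MvPolynomial.C f₀) ∈ q₁.asIdeal
      rw [show g₁ (MvPolynomial.C f₀) = MvPolynomial.C (f * f') from (MvPolynomial.map_C _ _).trans (congrArg _ hf₀)]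
      exact h1
    exact ⟨q₂, by rw [IsScalarTower.algebraMap_eq P S P', PrimeSpectrum.comap_comp]; rfl⟩
  · have hE : PrimeSpectrum.comap (algebraMap P P') ⁻¹' (PrimeSpectrum.zeroLocus s \ PrimeSpectrum.zeroLocus {g₀}) =
        PrimeSpectrum.zeroLocus (J.map (algebraMap S P') : Set P') \ PrimeSpectrum.zeroLocus {algebraMap S P' g} := by
      have hgP : algebraMap P P' g₀ = algebraMap S P' g := IsScalarTower.algebraMap_apply P S P' g₀
      ext x
      simp only [Set.mem_preimage, Set.mem_sdiff, PrimeSpectrum.mem_zeroLocus, Set.singleton_subset_iff,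
        SetLike.mem_coe, SetLike.coe_subset_coe]
      refine ⟨fun ⟨h1, h2⟩ => ⟨?_, fun h => h2 (show algebraMap P P' g₀ ∈ x.asIdeal from hgP.symm ▸ h)⟩,
        fun ⟨h1, h2⟩ => ⟨fun a ha => ?_, fun h => h2 (hgP ▸ (h : algebraMap P P' g₀ ∈ x.asIdeal))⟩⟩
      · refine Ideal.map_le_iff_le_comap.2 (satIdeal_le I g _ (fun h => h2
          (show algebraMap P P' g₀ ∈ x.asIdeal from hgP.symm ▸ h)) (Ideal.span_le.2 ?_))
        rintro _ ⟨a, ha, rfl⟩
        show algebraMap S P' (g₁ a) ∈ x.asIdeal
        rw [← IsScalarTower.algebraMap_apply]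
        exact h1 ha
      · show algebraMap P P' a ∈ x.asIdeal
        rw [IsScalarTower.algebraMap_apply P S P']
        exact h1 (Ideal.mem_map_of_mem _ (le_satIdeal I g (Ideal.subset_span ⟨a, ha, rfl⟩)))
    convert hW using 1
    ext x
    show CodimSetGE A _ c _ ↔ _
    rw [← codimSetGE_bc (A := A) (A' := A'), hE]
    rfl

theorem isConstructible_codimSet (E : Set (PrimeSpectrum (MvPolynomial (Fin N) A))) (hE : IsConstructible E) (c : ℕ) :
    IsConstructible {q | CodimSetGE A E c q} := by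
  classical
  obtain ⟨T, rfl⟩ := PrimeSpectrum.exists_constructibleSetData_iff.2 hE
  have hset : {q | CodimSetGE A T.toSet c q} = ⋂ C ∈ T, {q | CodimSetGE A C.toSet c q} := by
    ext q
    simp only [Set.mem_iInter, Set.mem_ofPred_eq]
    refine ⟨fun h C hC t ht htC => h t ht (Set.mem_biUnion hC htC), fun h t ht htT => ?_⟩
    obtain ⟨C, hC, htC⟩ := Set.mem_iUnion₂.1 htT
    exact h C hC t ht htC
  rw [hset]
  refine IsConstructible.biInter T.finite_toSet fun C _ => ?_
  let c₀ : Finset A := C.f.coeffs ∪ Finset.univ.biUnion fun i => (C.g i).coeffs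
  let A₀ : Subalgebra ℤ A := Algebra.adjoin ℤ (c₀ : Set A)
  haveI : Algebra.FiniteType ℤ A₀ := (Subalgebra.fg_iff_finiteType A₀).1 (Subalgebra.fg_adjoin_finset c₀)
  haveI : IsNoetherianRing A₀ := Algebra.FiniteType.isNoetherianRing ℤ A₀
  let P₀ := MvPolynomial (Fin N) A₀
  have hlift : ∀ v : MvPolynomial (Fin N) A, (∀ x ∈ v.coeffs, x ∈ c₀) →
      ∃ w : P₀, algebraMap P₀ (MvPolynomial (Fin N) A) w = v := fun v hv =>
    MvPolynomial.mem_range_map_iff_coeffs_subset.2 fun x hx => ⟨⟨x, Algebra.subset_adjoin (hv x hx)⟩, rfl⟩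
  obtain ⟨f₀, hf₀⟩ := hlift C.f fun x hx => Finset.mem_union_left _ hx
  choose g₀ hg₀ using fun i => hlift (C.g i) fun x hx =>
    Finset.mem_union_right _ (Finset.mem_biUnion.2 ⟨i, Finset.mem_univ i, hx⟩)
  have hC : C.toSet = PrimeSpectrum.comap (algebraMap P₀ (MvPolynomial (Fin N) A)) ⁻¹'
      (PrimeSpectrum.zeroLocus (Set.range g₀) \ PrimeSpectrum.zeroLocus {f₀}) := by
    rw [Set.preimage_sdiff, map_image_comap, map_image_comap, Set.image_singleton, hf₀, ← Set.range_comp]
    rw [show (⇑(algebraMap P₀ (MvPolynomial (Fin N) A)) ∘ g₀) = C.g from funext hg₀]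
    rfl
  convert ProConsLib.isConstructible_preimage
    (g := PrimeSpectrum.comap (algebraMap P₀ (MvPolynomial (Fin N) A))) (WLocalLib.isSpectralMap_comap _)
    (isConstructible_codimSet_noetherian A₀ (Set.range g₀) f₀ c) using 1
  ext q
  show CodimSetGE A C.toSet c q ↔ _
  rw [hC]
  exact codimSetGE_bc _ c q

variable {A}

theorem dimSetLT_iff_codimSetGE (E : Set (PrimeSpectrum (MvPolynomial (Fin N) A))) (m : ℕ)
    (q : PrimeSpectrum (MvPolynomial (Fin N) A)) : DimSetLT A E m q ↔ CodimSetGE A E (N + 1 - m) q := by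
  refine forall₃_congr fun t _ _ => ?_
  obtain ⟨d, hd⟩ := ENat.ne_top_iff_exists.1
    (lt_of_le_of_lt (le_self_add.trans_eq (height_add_coheight_fib _ t)) (ENat.natCast_lt_top N)).ne
  obtain ⟨hdN, hc⟩ := coheight_eq_sub _ hd.symm
  rw [hc, ← hd]
  constructor
  · intro h
    have h' : N - d < m := by exact_mod_cast h
    exact_mod_cast (show N + 1 - m ≤ d by omega)
  · intro h
    have h' : N + 1 - m ≤ d := by exact_mod_cast h
    exact_mod_cast (show N - d < m by omega)

end Poly

section Affine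

variable {A B : Type u} [CommRing A] [CommRing B] [Algebra A B]

theorem dimSetLT_iff_of_surjective {P : Type u} [CommRing P] [Algebra A P] [Algebra P B] [IsScalarTower A P B]
    (hf : Function.Surjective (algebraMap P B)) (E : Set (PrimeSpectrum B)) (m : ℕ) (q : PrimeSpectrum B) :
    DimSetLT A (PrimeSpectrum.comap (algebraMap P B) '' E) m (PrimeSpectrum.comap (algebraMap P B) q) ↔
      DimSetLT A E m q := by
  refine ⟨fun h t ht htE => ?_, fun h t ht htE => ?_⟩
  · have h1 := h ⟨PrimeSpectrum.comap (algebraMap P B) t.1,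
      ((comap_comap_fib t.1).trans t.2).trans (comap_comap_fib q).symm⟩ ((comap_le_comap_iff hf _ _).2 ht)
      ⟨t.1, htE, rfl⟩
    rw [coheight_congr_fib t.2.symm t ⟨t.1, rfl⟩ rfl, transfer hf t.1]
    exact lt_of_eq_of_lt
      (coheight_congr_fib (((comap_comap_fib t.1).trans t.2).trans (comap_comap_fib q).symm) _ _ rfl) h1
  · obtain ⟨t, hty⟩ := t
    obtain ⟨b, hbE, hb⟩ := htE
    subst hb
    have h1 := h ⟨b, ((comap_comap_fib b).symm.trans hty).trans (comap_comap_fib q)⟩
      ((comap_le_comap_iff hf _ _).1 ht) hbE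
    rw [coheight_congr_fib hty.symm _ ⟨PrimeSpectrum.comap (algebraMap P B) b, rfl⟩ rfl, ← transfer hf b]
    exact lt_of_eq_of_lt
      (coheight_congr_fib (((comap_comap_fib b).symm.trans hty).trans (comap_comap_fib q)) _ _ rfl) h1

theorem isConstructible_dimSetLT [Algebra.FinitePresentation A B] (E : Set (PrimeSpectrum B))
    (hE : IsConstructible E) (m : ℕ) : IsConstructible {q : PrimeSpectrum B | DimSetLT A E m q} := by
  obtain ⟨n, f, hf, hker⟩ := Algebra.FinitePresentation.out (R := A) (A := B)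
  letI : Algebra (MvPolynomial (Fin n) A) B := f.toRingHom.toAlgebra
  haveI : IsScalarTower A (MvPolynomial (Fin n) A) B := IsScalarTower.of_algebraMap_eq fun a => (f.commutes a).symm
  have hfp : (algebraMap (MvPolynomial (Fin n) A) B).FinitePresentation :=
    RingHom.FinitePresentation.of_surjective _ hf hker
  have hc := isConstructible_codimSet A _ (PrimeSpectrum.isConstructible_comap_image hfp hE) (n + 1 - m)
  convert ProConsLib.isConstructible_preimage
    (g := PrimeSpectrum.comap (algebraMap (MvPolynomial (Fin n) A) B)) (WLocalLib.isSpectralMap_comap _) hc using 1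
  ext q
  exact (dimSetLT_iff_of_surjective (A := A) (P := MvPolynomial (Fin n) A) hf E m q).symm.trans
    (dimSetLT_iff_codimSetGE _ m _)

end Affine

section Scheme

variable {X Y : Scheme.{u}} (f : X ⟶ Y)

/-- The trace of `E` on the fibre has dimension less than `m` near `x`. -/
def DimSetLTAt (E : Set X) (m : ℕ) (x : X) : Prop :=
  ∀ z, z ⤳ x → f z = f x → z ∈ E → FibDim.rd f z < m

variable [LocallyOfFinitePresentation f] {U : X.Opens} (hU : IsAffineOpen U) {V : Y.Opens} (hV : IsAffineOpen V)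
  (hle : U ≤ f ⁻¹ᵁ V)

include hV in
theorem dimSetLTAt_iff (E : Set X) (m : ℕ) {x : X} (hx : x ∈ U) :
    letI := (f.appLE V U hle).hom.toAlgebra
    DimSetLTAt f E m x ↔ DimSetLT Γ(Y, V) (hU.fromSpec ⁻¹' E) m (hU.primeIdealOf ⟨x, hx⟩) := by
  letI := (f.appLE V U hle).hom.toAlgebra
  have hrd : ∀ z (hz : z ∈ U) (t : ↥(fib (B := Γ(X, U)) (PrimeSpectrum.comap (algebraMap Γ(Y, V) Γ(X, U))
      (hU.primeIdealOf ⟨x, hx⟩)))), t.1 = hU.primeIdealOf ⟨z, hz⟩ → Order.coheight t = FibDim.rd f z := by
    intro z hz t ht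
    obtain ⟨t, hty⟩ := t
    subst ht
    rw [coheight_congr_fib hty.symm _ ⟨hU.primeIdealOf ⟨z, hz⟩, rfl⟩ rfl, coheight_eq_rd f hU hV hle,
      hU.fromSpec_primeIdealOf]
  constructor
  · intro h t ht htE
    obtain ⟨z, hz, hzt⟩ := QCoh.exists_point hU t.1
    have hfz : f z = f x := (comap_eq_iff f hU hV hle hz hx).1 (hzt.symm ▸ t.2)
    have hzx : z ⤳ x := (primeIdealOf_le_iff hU hz hx).1 (hzt.symm ▸ ht)
    rw [hrd z hz t hzt.symm]
    have hzE : z ∈ E := by
      have : hU.fromSpec (hU.primeIdealOf ⟨z, hz⟩) ∈ E := hzt.symm ▸ htE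
      rwa [hU.fromSpec_primeIdealOf] at this
    exact_mod_cast h z hzx hfz hzE
  · intro h z hzx hfz hzE
    have hz : z ∈ U := hzx.mem_open U.isOpen hx
    let t : ↥(fib (B := Γ(X, U)) (PrimeSpectrum.comap (algebraMap Γ(Y, V) Γ(X, U)) (hU.primeIdealOf ⟨x, hx⟩))) :=
      ⟨hU.primeIdealOf ⟨z, hz⟩, (comap_eq_iff f hU hV hle hz hx).2 hfz⟩
    have h1 := h t ((primeIdealOf_le_iff hU hz hx).2 hzx) (by
      show hU.fromSpec (hU.primeIdealOf ⟨z, hz⟩) ∈ E
      rw [hU.fromSpec_primeIdealOf]
      exact hzE)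
    rw [hrd z hz t rfl] at h1
    exact_mod_cast h1

omit hU hV hle in
theorem isLC_dimSetLTAt (E : Set X) (hE : IsLocallyConstructible E) (m : ℕ) :
    IsLocallyConstructible {x : X | DimSetLTAt f E m x} := by
  refine isLC_of_charts f _ fun U hU V hV hle => ?_
  letI : Algebra Γ(Y, V) Γ(X, U) := (f.appLE V U hle).hom.toAlgebra
  haveI : Algebra.FinitePresentation Γ(Y, V) Γ(X, U) := f.finitePresentation_appLE hV hU hle
  exact ⟨_, isConstructible_dimSetLT (A := Γ(Y, V)) (hU.fromSpec ⁻¹' E)
    (hE.preimage_of_isOpenEmbedding hU.fromSpec.isOpenEmbedding).isConstructible m,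
    fun z hz => dimSetLTAt_iff f hU hV hle E m hz⟩

end Scheme

end Groth.Agent.Codepth5
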