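import Groth.Agent.CplFib6.Codepth
import Groth.Agent.FlatSyz5.Basic
import Groth.Agent.FlatSyz5.Resolution
import Groth.Agent.FlatSyz5.FibreFree
import Groth.Agent.FlatLoc6.Loc
import Groth.Agent.MorLib.UnramLocus

/-!
# Codepth over regular local rings, projective dimension of the fibres
-/

set_option autoImplicit false
set_option linter.style.haveILetI false

universe u

open IsLocalRing TensorProduct Groth.Agent.RegLoc6

namespace Groth.Agent.Codepth5

/-- Over a regular local ring the codepth is at most `n` iff the projective dimension is at most the height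
of every point of the support plus `n`. -/
theorem codepth_le_iff (R : Type u) [CommRing R] [IsRegularLocalRing R] (N : Type u) [AddCommGroup N] [Module R N]
    [Module.Finite R N] (n : ℕ) :
    Module.supportDim R N ≤ ((LocCoh.depth R N : ℕ∞) : WithBot ℕ∞) + n ↔
      ∃ e : ℕ, PdLE R e N ∧ ∀ P ∈ Module.support R N, (e : ℕ∞) ≤ P.asIdeal.height + n := by
  rcases subsingleton_or_nontrivial N with hs | hs
  · refine iff_of_true ?_ ⟨0, ?_, fun _ _ => zero_le⟩
    · rw [Module.supportDim_eq_bot_of_subsingleton]
      exact bot_le
    · exact pdLE_zero_iff.2 inferInstance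
  haveI := LC.gorenstein_of_isRegularLocalRing (R := R)
  haveI := LC.isCohenMacaulayLocalRing_of_gorenstein (R := R)
  obtain ⟨d, hd⟩ : ∃ d : ℕ, ringKrullDim R = d := by
    obtain ⟨d, hd⟩ := ENat.ne_top_iff_exists.mp
      (Ideal.height_ne_top (I := maximalIdeal R) (Ideal.IsPrime.ne_top inferInstance))
    exact ⟨d, by rw [← IsLocalRing.maximalIdeal_height_eq_ringKrullDim, ← hd]; rfl⟩
  have hdR : LocCoh.depth R R = (d : ℕ∞) := by
    have := LocCoh.IsCohenMacaulayLocalRing.supportDim_eq_depth (R := R)
    rw [Module.supportDim_self_eq_ringKrullDim, hd] at this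
    exact_mod_cast this.symm
  obtain ⟨D, hD⟩ : ∃ D : ℕ, Module.supportDim R N = D := by
    have h1 := Module.supportDim_ne_bot_of_nontrivial R N
    have h2 := (Module.supportDim_le_ringKrullDim R N).trans_eq hd
    generalize Module.supportDim R N = x at h1 h2
    induction x with
    | bot => exact absurd rfl h1
    | coe x =>
      have h2' : x ≤ (d : ℕ∞) := by exact_mod_cast h2
      obtain ⟨m, rfl⟩ := ENat.ne_top_iff_exists.mp (h2'.trans_lt (ENat.natCast_lt_top d)).ne
      exact ⟨m, rfl⟩
  have hDd : D ≤ d := by
    have := Module.supportDim_le_ringKrullDim R N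
    rw [hD, hd] at this
    exact_mod_cast this
  obtain ⟨a, ha⟩ := LC.exists_depth_eq_nat (R := R) N
  rw [hD, ha]
  constructor
  · intro h
    have h' : D ≤ a + n := by exact_mod_cast h
    refine ⟨d - a, LC.pdLE_of_le_depth R d hd _ _ ?_, fun P hP => ?_⟩
    · rw [ha]
      exact_mod_cast (show d ≤ a + (d - a) by omega)
    · refine le_trans ?_ (add_le_add_left (CplFib6.height_ge_of_mem_support R N hd hD
        (show d ≤ D + (d - D) by omega) (show (d - D) + D ≤ d by omega) P hP) _)
      exact_mod_cast (show d - a ≤ (d - D) + n by omega)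
  · rintro ⟨e, he, hP⟩
    have h1 := CplFib6.supportDim_add_le R N (e - n : ℕ) fun P hP' => by
      have := hP P hP'
      generalize P.asIdeal.height = b at this ⊢
      induction b using ENat.recTopCoe with
      | top => exact le_top
      | coe b =>
        have : e ≤ b + n := by exact_mod_cast this
        exact_mod_cast (show e - n ≤ b by omega)
    rw [hD, hd] at h1
    have h1' : D + (e - n) ≤ d := by exact_mod_cast h1
    have h2 := CplFib6.depth_add_ge R N e he
    rw [hdR, ha] at h2
    have h2' : d ≤ a + e := by exact_mod_cast h2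
    exact_mod_cast (show D ≤ a + n by omega)

section Quot

variable {A B : Type u} [CommRing A] [CommRing B] [Algebra A B]

/-- Reduction modulo an ideal of the base keeps a flat presentation exact. -/
theorem lTensor_quot_injective {K F M : Type u} [AddCommGroup K] [Module B K] [Module A K] [IsScalarTower A B K]
    [AddCommGroup F] [Module B F] [Module A F] [IsScalarTower A B F]
    [AddCommGroup M] [Module B M] [Module A M] [IsScalarTower A B M] [Module.Flat A M]
    (f : K →ₗ[B] F) (g : F →ₗ[B] M) (hf : Function.Injective f) (hex : Function.Exact f g)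
    (hg : Function.Surjective g) (I : Ideal A) :
    Function.Injective (f.lTensor (B ⧸ I.map (algebraMap A B))) := by
  have hinj := W4Lib.lTensor_injective_of_flat_quotient (f := f.restrictScalars A) (g := g.restrictScalars A)
    hf hex hg (A ⧸ I)
  rw [injective_iff_map_eq_zero]
  intro z hz
  obtain ⟨x, rfl⟩ := TensorProduct.mk_surjective B K _ Ideal.Quotient.mk_surjective z
  have h1 := congrArg (TensorProduct.quotTensorEquivQuotSMul F (I.map (algebraMap A B))) hz
  rw [map_zero] at h1
  have h1' : TensorProduct.quotTensorEquivQuotSMul F (I.map (algebraMap A B))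
      ((Ideal.Quotient.mk _ (1 : B)) ⊗ₜ[B] f x) = 0 := h1
  rw [TensorProduct.quotTensorEquivQuotSMul_mk_tmul, one_smul, Submodule.Quotient.mk_eq_zero] at h1'
  have hxI : f x ∈ (I • ⊤ : Submodule A F) := by
    have h1 : f x ∈ ((I.map (algebraMap A B)) • (⊤ : Submodule B F)).restrictScalars A := h1'
    rwa [show ((I.map (algebraMap A B)) • (⊤ : Submodule B F)).restrictScalars A = _ from
      Ideal.smul_restrictScalars I ⊤, Submodule.restrictScalars_top] at h1
  have h2 : (Ideal.Quotient.mk I (1 : A)) ⊗ₜ[A] x = 0 := by
    refine hinj ?_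
    rw [LinearMap.lTensor_tmul, map_zero]
    apply (TensorProduct.quotTensorEquivQuotSMul F I).injective
    rw [TensorProduct.quotTensorEquivQuotSMul_mk_tmul, one_smul, map_zero, Submodule.Quotient.mk_eq_zero]
    exact hxI
  have h3 := congrArg (TensorProduct.quotTensorEquivQuotSMul K I) h2
  rw [TensorProduct.quotTensorEquivQuotSMul_mk_tmul, one_smul, map_zero, Submodule.Quotient.mk_eq_zero] at h3
  apply (TensorProduct.quotTensorEquivQuotSMul K (I.map (algebraMap A B))).injective
  rw [map_zero]
  show TensorProduct.quotTensorEquivQuotSMul K (I.map (algebraMap A B))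
      ((Ideal.Quotient.mk _ (1 : B)) ⊗ₜ[B] x) = 0
  rw [TensorProduct.quotTensorEquivQuotSMul_mk_tmul, one_smul, Submodule.Quotient.mk_eq_zero]
  show x ∈ ((I.map (algebraMap A B)) • (⊤ : Submodule B K)).restrictScalars A
  rw [show ((I.map (algebraMap A B)) • (⊤ : Submodule B K)).restrictScalars A = _ from
      Ideal.smul_restrictScalars I ⊤, Submodule.restrictScalars_top]
  exact h3

/-- The base change of the kernel to the local ring of the fibre is the kernel of the base change. -/
theorem nonempty_ker_fibLoc {F M : Type u} [AddCommGroup F] [Module B F] [Module A F] [IsScalarTower A B F]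
    [AddCommGroup M] [Module B M] [Module A M] [IsScalarTower A B M] [Module.Flat A M]
    (π : F →ₗ[B] M) (hπ : Function.Surjective π) (q : Ideal B) [q.IsPrime] :
    Nonempty (EGA4.FibLocRing A B q ⊗[B] LinearMap.ker π ≃ₗ[EGA4.FibLocRing A B q]
      LinearMap.ker (π.baseChange (EGA4.FibLocRing A B q))) := by
  let L := Localization.AtPrime q
  let O := EGA4.FibLocRing A B q
  haveI : Module.Flat B L := IsLocalization.flat L q.primeCompl
  haveI : Module.Flat A (L ⊗[B] M) := FlatLoc6.flat_baseChange_left M
  let i := (LinearMap.ker π).subtype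
  have hf : Function.Injective (i.baseChange L) :=
    Module.Flat.lTensor_preserves_injective_linearMap i Subtype.val_injective
  have hexL : Function.Exact (i.baseChange L) (π.baseChange L) :=
    lTensor_exact L (LinearMap.exact_subtype_ker_map π) hπ
  have hO : Function.Injective ((i.baseChange L).lTensor O) :=
    lTensor_quot_injective (i.baseChange L) (π.baseChange L) hf hexL (LinearMap.lTensor_surjective L hπ)
      (q.comap (algebraMap A B))
  let eK := AlgebraTensorModule.cancelBaseChange B L O O (LinearMap.ker π)
  let eF := AlgebraTensorModule.cancelBaseChange B L O O F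
  have hnat : ∀ z, eF ((i.baseChange L).lTensor O z) = i.baseChange O (eK z) := fun z => by
    induction z using TensorProduct.induction_on with
    | zero => simp
    | add a b ha hb => simp only [map_add, ha, hb]
    | tmul o w =>
      induction w using TensorProduct.induction_on with
      | zero => simp
      | add a b ha hb => simp only [tmul_add, map_add, ha, hb]
      | tmul l k => simp [eK, eF]
  have hinj : Function.Injective (i.baseChange O) := by
    intro x y hxy
    obtain ⟨x, rfl⟩ := eK.surjective x
    obtain ⟨y, rfl⟩ := eK.surjective y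
    rw [← hnat, ← hnat] at hxy
    rw [hO (eF.injective hxy)]
  have hex : Function.Exact (i.baseChange O) (π.baseChange O) :=
    lTensor_exact O (LinearMap.exact_subtype_ker_map π) hπ
  refine ⟨LinearEquiv.ofBijective ((i.baseChange O).codRestrict _ fun x => hex.apply_apply_eq_zero x)
    ⟨fun x y hxy => hinj (congrArg Subtype.val hxy), fun z => ?_⟩⟩
  obtain ⟨x, hx⟩ := (hex z.1).1 z.2
  exact ⟨x, Subtype.ext hx⟩

/-- A finitely presented module flat over the base is free at `q` iff its fibre at `q` is free. -/
theorem projective_fibLoc_iff (M : Type u) [AddCommGroup M] [Module B M] [Module A M] [IsScalarTower A B M]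
    [Module.FinitePresentation B M] [Module.Flat A M] (q : Ideal B) [q.IsPrime] :
    Module.Projective (EGA4.FibLocRing A B q) (EGA4.FibLocRing A B q ⊗[B] M) ↔
      (⟨q, ‹_›⟩ : PrimeSpectrum B) ∈ Module.freeLocus B M := by
  let L := Localization.AtPrime q
  let O := EGA4.FibLocRing A B q
  haveI := FlatLoc6.isLocalRing_fibLocRing (A := A) q
  haveI : Module.Flat B L := IsLocalization.flat L q.primeCompl
  haveI : Module.Flat A (L ⊗[B] M) := FlatLoc6.flat_baseChange_left M
  haveI : Module.Finite O (O ⊗[B] M) := Module.Finite.base_change B O M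
  rw [Module.mem_freeLocus]
  have e1 := LocalizedModule.equivTensorProduct q.primeCompl M
  refine ⟨fun h => ?_, fun h => ?_⟩
  · haveI : Module.Flat O (O ⊗[B] M) := Module.Flat.of_projective
    haveI : Module.Free O (O ⊗[B] M) := Module.free_of_flat_of_isLocalRing
    haveI : Module.Free O (O ⊗[L] (L ⊗[B] M)) :=
      Module.Free.of_equiv (AlgebraTensorModule.cancelBaseChange B L O O M).symm
    haveI : Module.Free L (L ⊗[B] M) :=
      FlatSyz5.free_of_fibre (q.comap (algebraMap A B))
        (Ideal.Quotient.nontrivial_iff.1 (FlatLoc6.fibLocRing_nontrivial (A := A) q)) inferInstance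
    exact Module.Free.of_equiv e1.symm
  · haveI := h
    haveI : Module.Free L (L ⊗[B] M) := Module.Free.of_equiv e1
    exact Module.Projective.of_equiv (AlgebraTensorModule.cancelBaseChange B L O O M)

/-- The loci of bounded projective dimension of the fibres are open. -/
theorem isOpen_pdLE [Algebra.FinitePresentation A B] [Module.Flat A B] (e : ℕ) :
    ∀ (M : Type u) [AddCommGroup M] [Module B M] [Module A M] [IsScalarTower A B M]
      [Module.FinitePresentation B M] [Module.Flat A M],
      IsOpen {q : PrimeSpectrum B |
        PdLE (EGA4.FibLocRing A B q.asIdeal) e (EGA4.FibLocRing A B q.asIdeal ⊗[B] M)} := by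
  induction e with
  | zero =>
    intro M _ _ _ _ _ _
    convert Module.isOpen_freeLocus (R := B) (M := M) using 1
    ext q
    exact pdLE_zero_iff.trans (projective_fibLoc_iff M q.asIdeal)
  | succ e ih =>
    intro M _ _ _ _ _ _
    obtain ⟨a, π, hπ⟩ := Module.Finite.exists_fin' B M
    haveI := FlatSyz5.fp_ker (A := A) π hπ
    haveI : Module.Flat A (LinearMap.ker π) := FlatSyz5.flat_ker A (π.restrictScalars A) hπ
    convert ih (LinearMap.ker π) using 1
    ext q
    obtain ⟨eK⟩ := nonempty_ker_fibLoc (A := A) π hπ q.asIdeal
    refine (pdLE_succ_iff (π.baseChange (EGA4.FibLocRing A B q.asIdeal))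
      (LinearMap.lTensor_surjective _ hπ)).trans ?_
    exact ⟨fun h => pdLE_of_equiv eK.symm h, fun h => pdLE_of_equiv eK h⟩

end Quot

end Groth.Agent.Codepth5
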