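import Groth.Agent.Codepth5.ConsGen
import Groth.Agent.Codepth5.Local
import Mathlib.RingTheory.Ideal.MinimalPrime.Localization

/-!
# Fibrewise closures of locally closed sets: ring-theoretic pieces
-/

set_option autoImplicit false
set_option linter.style.haveILetI false
set_option backward.isDefEq.respectTransparency false
set_option backward.isDefEq.respectTransparency.types false

universe u

open TensorProduct

namespace Groth.Agent.Codepth5

/-- The saturation of an ideal by an element. -/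
noncomputable def satIdeal {S : Type u} [CommRing S] (I : Ideal S) (g : S) : Ideal S :=
  (I.map (algebraMap S (Localization.Away g))).comap (algebraMap S (Localization.Away g))

theorem le_satIdeal {S : Type u} [CommRing S] (I : Ideal S) (g : S) : I ≤ satIdeal I g :=
  Ideal.le_comap_map

theorem isSMulRegular_satIdeal {S : Type u} [CommRing S] (I : Ideal S) (g : S) :
    ∀ a : S, g * a ∈ satIdeal I g → a ∈ satIdeal I g := fun a ha => by
  show algebraMap S (Localization.Away g) a ∈ I.map (algebraMap S (Localization.Away g))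
  have h : algebraMap S (Localization.Away g) (g * a) ∈ I.map (algebraMap S (Localization.Away g)) := ha
  rw [map_mul] at h
  exact (Ideal.unit_mul_mem_iff_mem _ (IsLocalization.Away.algebraMap_isUnit g)).1 h

theorem satIdeal_le {S : Type u} [CommRing S] (I : Ideal S) (g : S) (t : Ideal S) [t.IsPrime] (hg : g ∉ t)
    (hI : I ≤ t) : satIdeal I g ≤ t := fun a ha => by
  obtain ⟨⟨⟨i, hi⟩, ⟨s, hs⟩⟩, he⟩ := (IsLocalization.mem_map_algebraMap_iff (Submonoid.powers g) (Localization.Away g)).1 ha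
  rw [← map_mul] at he
  obtain ⟨⟨c, hc⟩, hce⟩ := (IsLocalization.eq_iff_exists (Submonoid.powers g) (Localization.Away g)).1 he
  have hmem : c * (a * s) ∈ t := hce.symm ▸ t.mul_mem_left c (hI hi)
  obtain ⟨n, rfl⟩ := hc
  obtain ⟨m, rfl⟩ := hs
  rcases Ideal.IsPrime.mem_or_mem ‹t.IsPrime› hmem with h | h
  · exact absurd (Ideal.IsPrime.mem_of_pow_mem ‹t.IsPrime› n h) hg
  · rcases Ideal.IsPrime.mem_or_mem ‹t.IsPrime› h with h | h
    · exact h
    · exact absurd (Ideal.IsPrime.mem_of_pow_mem ‹t.IsPrime› m h) hg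

section Loc

variable {S S' : Type u} [CommRing S] [CommRing S'] [Algebra S S'] (M : Submonoid S) [IsLocalization M S']

include M in
theorem regular_map (J : Ideal S) (g : S) (h : ∀ a : S, g * a ∈ J → a ∈ J) :
    ∀ b : S', algebraMap S S' g * b ∈ J.map (algebraMap S S') → b ∈ J.map (algebraMap S S') := fun b hb => by
  obtain ⟨⟨c, s⟩, hcs⟩ := IsLocalization.surj M b
  have hc : algebraMap S S' (g * c) ∈ J.map (algebraMap S S') := by
    rw [map_mul, ← hcs, ← mul_assoc]
    exact Ideal.mul_mem_right _ _ hb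
  obtain ⟨⟨⟨i, hi⟩, t⟩, ht⟩ := (IsLocalization.mem_map_algebraMap_iff M S').1 hc
  rw [← map_mul] at ht
  obtain ⟨d, hd⟩ := (IsLocalization.eq_iff_exists M S').1 ht
  have hmem : (d : S) * t * c ∈ J := h _ (by
    rw [show g * ((d : S) * t * c) = d * (g * c * t) by ring, hd]
    exact J.mul_mem_left _ hi)
  refine (Ideal.unit_mul_mem_iff_mem _ (IsLocalization.map_units S' s)).1 ?_
  rw [mul_comm, hcs]
  refine (Ideal.unit_mul_mem_iff_mem _ (IsLocalization.map_units S' (d * t))).1 ?_
  rw [← map_mul]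
  exact Ideal.mem_map_of_mem _ hmem

end Loc

theorem flat_map_quotient {D Af S S' : Type u} [CommRing D] [CommRing Af] [CommRing S] [CommRing S']
    [Algebra S S'] [Algebra Af S'] (J : Ideal S)
    (h : @Module.Flat Af (S' ⊗[S] (S ⧸ J)) _ _ (Module.compHom _ (algebraMap Af S'))) :
    Module.Flat Af (S' ⧸ J.map (algebraMap S S')) := by
  refine of_flat_compHom (A := Af) (P := S') (M := S' ⊗[S] (S ⧸ J)) (fun _ _ hfl => ?_) h
  exact Module.Flat.of_linearEquiv ((Algebra.TensorProduct.quotIdealMapEquivTensorQuot S' J).toLinearEquiv.restrictScalars Af)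

/-- If `g` is regular on `B/J` with flat cokernel over the base, then in each fibre it avoids the components. -/
theorem exists_le_notMem {A B : Type u} [CommRing A] [CommRing B] [Algebra A B] (J : Ideal B) (g : B)
    (hg : ∀ a : B, g * a ∈ J → a ∈ J) [Module.Flat A (B ⧸ (J ⊔ Ideal.span {g}))] (t : Ideal B) [t.IsPrime]
    (ht : J ≤ t) : ∃ t₀ : Ideal B, t₀.IsPrime ∧ t₀ ≤ t ∧ J ≤ t₀ ∧
      t₀.comap (algebraMap A B) = t.comap (algebraMap A B) ∧ g ∉ t₀ := by
  let p := t.comap (algebraMap A B)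
  let pB := p.map (algebraMap A B)
  let K := J ⊔ pB
  obtain ⟨t₀, ht₀, hle⟩ := Ideal.exists_minimalPrimes_le (I := K) (J := t) (sup_le ht (Ideal.map_le_iff_le_comap.2 le_rfl))
  haveI := ht₀.1.1
  have hcomap : t₀.comap (algebraMap A B) = p :=
    le_antisymm (Ideal.comap_mono hle) (Ideal.map_le_iff_le_comap.1 (le_sup_right.trans ht₀.1.2))
  refine ⟨t₀, inferInstance, hle, le_sup_left.trans ht₀.1.2, hcomap, fun hgt => ?_⟩
  let f : (B ⧸ J) →ₗ[B] (B ⧸ J) := LinearMap.lsmul B (B ⧸ J) g
  let π : (B ⧸ J) →ₗ[B] (B ⧸ (J ⊔ Ideal.span {g})) := Submodule.factor le_sup_left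
  have hf : Function.Injective f := (injective_iff_map_eq_zero f).2 fun x hx => by
    obtain ⟨a, rfl⟩ := Ideal.Quotient.mk_surjective x
    exact Ideal.Quotient.eq_zero_iff_mem.2 (hg a (Ideal.Quotient.eq_zero_iff_mem.1 hx))
  have hπ : Function.Surjective π := Submodule.factor_surjective le_sup_left
  have hex : Function.Exact f π := fun x => by
    obtain ⟨a, rfl⟩ := Ideal.Quotient.mk_surjective x
    constructor
    · intro h
      have h' : a ∈ J ⊔ Ideal.span {g} := Ideal.Quotient.eq_zero_iff_mem.1 h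
      obtain ⟨j, hj, y, hy, hsum⟩ := Submodule.mem_sup.1 h'
      obtain ⟨c, rfl⟩ := Ideal.mem_span_singleton'.1 hy
      refine ⟨Ideal.Quotient.mk J c, ?_⟩
      show Ideal.Quotient.mk J (g * c) = Ideal.Quotient.mk J a
      rw [Ideal.Quotient.eq, ← hsum, show g * c - (j + c * g) = -j by ring]
      exact J.neg_mem hj
    · rintro ⟨y, hy⟩
      obtain ⟨c, rfl⟩ := Ideal.Quotient.mk_surjective y
      rw [← hy]
      show Ideal.Quotient.mk (J ⊔ Ideal.span {g}) (g * c) = 0
      rw [Ideal.Quotient.eq_zero_iff_mem]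
      exact Ideal.mem_sup_right (Ideal.mul_mem_right _ _ (Ideal.mem_span_singleton_self g))
  have hinj := lTensor_quot_injective (A := A) f π hf hex hπ p
  let Φ : (B ⧸ pB) ⊗[B] (B ⧸ J) →ₐ[B] B ⧸ K :=
    Algebra.TensorProduct.lift (Ideal.Quotient.factorₐ B le_sup_right) (Ideal.Quotient.factorₐ B le_sup_left)
      fun _ _ => Commute.all _ _
  have key : ∀ a : B, g * a ∈ K → a ∈ K := fun a ha => by
    obtain ⟨j, hj, q, hq, hsum⟩ := Submodule.mem_sup.1 ha
    have h1 : Ideal.Quotient.mk J (g * a) = q • (1 : B ⧸ J) := by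
      rw [← hsum, map_add, Ideal.Quotient.eq_zero_iff_mem.2 hj, zero_add, Algebra.smul_def, mul_one]
      rfl
    have h2 : f.lTensor (B ⧸ pB) ((1 : B ⧸ pB) ⊗ₜ[B] Ideal.Quotient.mk J a) = 0 := by
      rw [LinearMap.lTensor_tmul, show f (Ideal.Quotient.mk J a) = Ideal.Quotient.mk J (g * a) from rfl, h1,
        ← TensorProduct.smul_tmul, Algebra.smul_def, mul_one]
      rw [show algebraMap B (B ⧸ pB) q = 0 from Ideal.Quotient.eq_zero_iff_mem.2 hq, TensorProduct.zero_tmul]
    have h3 : (1 : B ⧸ pB) ⊗ₜ[B] Ideal.Quotient.mk J a = 0 := hinj (by rw [h2, map_zero])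
    have h4 := congrArg Φ h3
    rw [Algebra.TensorProduct.lift_tmul, map_zero, map_one, one_mul] at h4
    exact Ideal.Quotient.eq_zero_iff_mem.1 h4
  have hmem : Ideal.Quotient.mk K g ∈ t₀.map (Ideal.Quotient.mk K) := Ideal.mem_map_of_mem _ hgt
  have hmin : t₀.map (Ideal.Quotient.mk K) ∈ minimalPrimes (B ⧸ K) := by
    rw [minimalPrimes_eq_minimals]
    refine ⟨Ideal.map_isPrime_of_surjective Ideal.Quotient.mk_surjective (by rw [Ideal.mk_ker]; exact ht₀.1.2),
      fun s hs hle' => ?_⟩
    haveI : s.IsPrime := hs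
    have h5 : t₀ ≤ s.comap (Ideal.Quotient.mk K) := ht₀.2
      ⟨Ideal.IsPrime.comap _, fun z hz => by
        show Ideal.Quotient.mk K z ∈ s
        rw [Ideal.Quotient.eq_zero_iff_mem.2 hz]
        exact s.zero_mem⟩
      ((Ideal.comap_mono hle').trans_eq (by
        rw [Ideal.comap_map_of_surjective _ Ideal.Quotient.mk_surjective, ← RingHom.ker_eq_comap_bot, Ideal.mk_ker,
          sup_eq_left]
        exact ht₀.1.2))
    exact Ideal.map_le_iff_le_comap.2 h5
  refine Set.disjoint_left.1 (Ideal.disjoint_nonZeroDivisors_of_mem_minimalPrimes hmin) hmem ?_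
  rw [SetLike.mem_coe, mem_nonZeroDivisors_iff_right]
  intro x hx
  obtain ⟨a, rfl⟩ := Ideal.Quotient.mk_surjective x
  rw [← map_mul, Ideal.Quotient.eq_zero_iff_mem, mul_comm] at hx
  exact Ideal.Quotient.eq_zero_iff_mem.2 (key a hx)

end Groth.Agent.Codepth5

namespace Groth.Agent.Codepth5

open TensorProduct in
/-- Flatness of the quotient after a change of base. -/
theorem flat_of_bc_quotient {A A' P P' : Type u} [CommRing A] [CommRing A'] [CommRing P] [CommRing P']
    [Algebra A A'] [Algebra A P] [Algebra A' P'] [Algebra P P'] [Algebra A P'] [IsScalarTower A A' P']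
    [IsScalarTower A P P'] [Algebra.IsPushout A P A' P'] (J : Ideal P) (J' : Ideal P')
    (hJ : J' = J.map (algebraMap P P')) (h : Module.Flat A' (A' ⊗[A] (P ⧸ J))) : Module.Flat A' (P' ⧸ J') := by
  subst hJ
  haveI := h
  let e₁ := ((Algebra.TensorProduct.quotIdealMapEquivTensorQuot P' J).toLinearEquiv.restrictScalars A')
  haveI : Algebra.IsPushout A A' P P' := Algebra.IsPushout.symm inferInstance
  let e₂ := (Algebra.IsPushout.cancelBaseChange A A' P P' (P ⧸ J))
  exact Module.Flat.of_linearEquiv (e₁.trans e₂)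

end Groth.Agent.Codepth5
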