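import Groth.Agent.Codepth5.GeomRk
import Groth.Agent.FibDim.Comp

/-!
# Equidimensionality of the fibres at the points
-/

set_option autoImplicit false
set_option linter.style.haveILetI false
set_option backward.isDefEq.respectTransparency false
set_option backward.isDefEq.respectTransparency.types false

universe u

open Topology AlgebraicGeometry CategoryTheory Limits

namespace Groth.Agent.Codepth5

variable {X Y : Scheme.{u}} (f : X ⟶ Y) [LocallyOfFinitePresentation f]

/-- The fibre dimension at the generizations in the fibre equals that at the point. -/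
def EquiFib (x : X) : Prop :=
  ∀ z, z ⤳ x → f z = f x → FibDim.rd f z + DimFormula.fb f z = FibDim.rd f x + DimFormula.fb f x

theorem rd_le_add_of_specializes {z x : X} (h : z ⤳ x) (he : f z = f x) :
    FibDim.rd f z + DimFormula.fb f z ≤ FibDim.rd f x + DimFormula.fb f x := by
  obtain ⟨w, hw, hfw, hmax, hd⟩ := FibDim.exists_fibMax_generization f z
  rw [DimFormula.fibreDimAt_eq_add] at hd
  have hd' : FibDim.rd f z + DimFormula.fb f z = FibDim.rd f w := by exact_mod_cast hd
  rw [hd']
  exact DimFormula.rd_le_rd_add_fb f (hw.trans h) (hfw.trans he)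

theorem equiFib_iff (x : X) :
    EquiFib f x ↔ ∃ e : ℕ, ∀ z, z ⤳ x → f z = f x → FibDim.FibMax f z → FibDim.rd f z = e := by
  constructor
  · intro h
    refine ⟨FibDim.rd f x + DimFormula.fb f x, fun z hz hfz hmax => ?_⟩
    rw [← h z hz hfz, (DimFormula.fb_eq_zero_iff f z).2 hmax, add_zero]
  · rintro ⟨e, he⟩
    have key : ∀ z, z ⤳ x → f z = f x → FibDim.rd f z + DimFormula.fb f z = e := by
      intro z hz hfz
      obtain ⟨w, hw, hfw, hmax, hd⟩ := FibDim.exists_fibMax_generization f z
      rw [DimFormula.fibreDimAt_eq_add] at hd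
      rw [← he w (hw.trans hz) (hfw.trans hfz) hmax]
      exact_mod_cast hd
    exact fun z hz hfz => (key z hz hfz).trans (key x specializes_rfl rfl).symm

theorem component_iff (x : X) (e : ℕ) :
    (∀ Z ∈ irreducibleComponents (↥(f.fiber (f.base x)) : Type u), f.asFiber x ∈ Z →
        topologicalKrullDim (↥Z : Type u) = e) ↔
      ∀ z, z ⤳ x → f z = f x → FibDim.FibMax f z → FibDim.rd f z = e := by
  have hd : ∀ w : ↥(f.fiber (f.base x)), topologicalKrullDim ↥(closure ({w} : Set ↥(f.fiber (f.base x)))) =
      ((FibDim.rd f (f.fiberι (f x) w) : ℕ∞) : WithBot ℕ∞) := fun w => by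
    rw [VarDim.topologicalKrullDim_closure_singleton (k := Y.residueField (f x))
      (f.fiberToSpecResidueField (f x)), FibDim.deg_fiber]
  constructor
  · intro h z hz hfz hmax
    obtain ⟨w, rfl⟩ : z ∈ Set.range (f.fiberι (f x)) := by rw [Scheme.Hom.range_fiberι]; exact hfz
    have hw : w ⤳ f.asFiber x := (specializes_fibre_iff f w (f.asFiber x)).1 (by rwa [Scheme.Hom.fiberι_asFiber])
    have := h _ (FDescent.closure_mem_irreducibleComponents ((FibDim.fibMax_fiberι_iff f w).1 hmax))
      (specializes_iff_mem_closure.1 hw)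
    rw [hd] at this
    exact_mod_cast this
  · intro h Z hZ hx
    obtain ⟨w, rfl, hw⟩ := FDescent.exists_maximal_of_mem_irreducibleComponents hZ
    have hwx : f.fiberι (f x) w ⤳ x := by
      have := (specializes_fibre_iff f w (f.asFiber x)).2 (specializes_iff_mem_closure.2 hx)
      rwa [Scheme.Hom.fiberι_asFiber] at this
    rw [hd, h _ hwx (FibDim.fiber_apply_fiberι f w) ((FibDim.fibMax_fiberι_iff f w).2 hw)]
    norm_cast

theorem isLC_equiFib : IsLocallyConstructible {x : X | EquiFib f x} := by
  refine isLC_of_charts f _ fun U hU V hV hle => ?_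
  obtain ⟨N, hN⟩ := exists_bound f hU
  have hlc : IsLocallyConstructible (⋂ n ∈ Finset.range (N + 1),
      ({x : X | FibDim.rd f x + DimFormula.fb f x ≤ n} ∪
        {x : X | DimSetLTAt f {z | FibDim.rd f z + DimFormula.fb f z ≤ n} 0 x})) :=
    isLC_biInter _ _ fun n _ => (isLC_fibreDim_le f n).union
      (isLC_dimSetLTAt f _ (isLC_fibreDim_le f n) 0)
  refine ⟨hU.fromSpec ⁻¹' _, (hlc.preimage_of_isOpenEmbedding hU.fromSpec.isOpenEmbedding).isConstructible,
    fun z hz => ?_⟩
  rw [Set.mem_preimage, hU.fromSpec_primeIdealOf, Set.mem_iInter₂]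
  constructor
  · intro h n _
    by_cases hn : FibDim.rd f z + DimFormula.fb f z ≤ n
    · exact Or.inl hn
    · exact Or.inr fun w hw hfw (hwn : _ ≤ n) => absurd ((h w hw hfw).symm.trans_le hwn) hn
  · intro h w hw hfw
    refine le_antisymm (rd_le_add_of_specializes f hw hfw) ?_
    have hwN := hN w (hw.mem_open U.isOpen hz)
    rcases h _ (Finset.mem_range.2 (Nat.lt_succ_of_le hwN)) with h' | h'
    · exact h'
    · exact absurd (h' w hw hfw (show FibDim.rd f w + DimFormula.fb f w ≤ FibDim.rd f w + DimFormula.fb f w from le_rfl)) (Nat.not_lt_zero _)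

end Groth.Agent.Codepth5
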