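import Groth.Agent.Codepth5.Sk
import Groth.Agent.CMBCAny.Basic
import Groth.Agent.ConsPropLib.Fibre
import Groth.Agent.SyntCM12.CMProps
import Groth.Agent.FibreLoc5.Constr

/-!
# Properties of local rings which are stable along flat maps with Cohen-Macaulay fibres, in the fibres
-/

set_option autoImplicit false
set_option linter.style.haveILetI false
set_option backward.isDefEq.respectTransparency false
set_option backward.isDefEq.respectTransparency.types false

universe u

open AlgebraicGeometry CategoryTheory CategoryTheory.Limits IsLocalRing TensorProduct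

namespace Groth.Agent.Codepth5

/-- A property of rings which for local rings ascends and descends along flat maps with Cohen-Macaulay
fibres. -/
structure Stable (P : ∀ (R : Type u) [CommRing R], Prop) : Prop where
  equiv : ∀ (R S : Type u) [CommRing R] [CommRing S], (R ≃+* S) → P R → P S
  flat : ∀ (A B : Type u) [CommRing A] [CommRing B] [IsNoetherianRing A] [IsNoetherianRing B] [Algebra A B]
    [Module.Flat A B], (∀ p : PrimeSpectrum A, LocCoh.IsCohenMacaulayRing (p.asIdeal.Fiber B)) →
      ∀ (q : Ideal B) [q.IsPrime],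
        P (Localization.AtPrime q) ↔ P (Localization.AtPrime (q.comap (algebraMap A B)))

variable {P : ∀ (R : Type u) [CommRing R], Prop}

theorem Stable.congr (hP : Stable P) {R S : Type u} [CommRing R] [CommRing S] (e : R ≃+* S) : P R ↔ P S :=
  ⟨hP.equiv R S e, hP.equiv S R e.symm⟩

theorem Stable.localization_tensor (hP : Stable P) (k L S : Type u) [Field k] [Field L] [Algebra k L] [CommRing S]
    [Algebra k S] [Algebra.FiniteType k S] (v : PrimeSpectrum (S ⊗[k] L)) :
    P (Localization.AtPrime v.asIdeal) ↔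
      P (Localization.AtPrime (PrimeSpectrum.comap (algebraMap S (S ⊗[k] L)) v).asIdeal) := by
  haveI : IsNoetherianRing S := Algebra.FiniteType.isNoetherianRing k S
  haveI : IsNoetherianRing (L ⊗[k] S) := Algebra.FiniteType.isNoetherianRing L _
  haveI : IsNoetherianRing (S ⊗[k] L) :=
    isNoetherianRing_of_ringEquiv _ (Algebra.TensorProduct.comm k L S).toRingEquiv
  refine hP.flat S (S ⊗[k] L) (fun p => ?_) v.asIdeal
  obtain ⟨e⟩ := FlatLoc6.exists_fiberTensorEquiv (k := k) (T := L) p.asIdeal
  haveI := FlatLoc6.essFiniteType_residueField (k := k) p.asIdeal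
  exact FlatLoc6.isCM_of_ringEquiv e.symm (FlatLoc6.isCM_tensor_field k L p.asIdeal.ResidueField)

variable {X Y X' Y' : Scheme.{u}}

/-- The local ring of a fibre is a quotient of the local ring. -/
theorem nonempty_fibre_stalk_equiv (f : X ⟶ Y) (x : X) (s : Y) (w : ↥(f.fiber s)) (hw : f.fiberι s w = x) :
    Nonempty ((X.presheaf.stalk x ⧸ fibIdeal f x) ≃+* (f.fiber s).presheaf.stalk w) := by
  subst hw
  exact ⟨(Ideal.quotEquivOfEq (FlatDvr.ker_stalkMap_fiberι f w).symm).trans
    (RingHom.quotientKerEquivOfSurjective ((f.fiberι s).stalkMap_surjective w))⟩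

/-- Stable properties of the local rings of the fibres are invariant under base change. -/
theorem Stable.fibre_iff (hP : Stable P) {f : X ⟶ Y} {f' : X' ⟶ Y'} {g' : X' ⟶ X} {g : Y' ⟶ Y}
    (hc : IsPullback g' f' f g) [LocallyOfFiniteType f] (x' : X') :
    P (X'.presheaf.stalk x' ⧸ fibIdeal f' x') ↔ P (X.presheaf.stalk (g' x') ⧸ fibIdeal f (g' x')) := by
  obtain ⟨e, he, hι⟩ := ConsPropLib.exists_fibre_pullback hc (f' x')
  let z := f'.asFiber x'
  have hz : f'.fiberι (f' x') z = x' := f'.fiberι_asFiber x'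
  have hez : f.fiberι (g (f' x')) (e z) = g' x' := by
    rw [← Scheme.Hom.comp_apply, hι, Scheme.Hom.comp_apply, hz]
  obtain ⟨E'⟩ := nonempty_fibre_stalk_equiv f' x' _ z hz
  obtain ⟨E⟩ := nonempty_fibre_stalk_equiv f (g' x') _ (e z) hez
  rw [hP.congr E', hP.congr E]
  obtain ⟨W, hW, hzW, -⟩ := exists_isAffineOpen_mem_and_subset (U := (⊤ : (f.fiber (g (f' x'))).Opens)) (x := e z) trivial
  let k := Y.residueField (g (f' x'))
  let L := Y'.residueField (f' x')
  let S := Γ(f.fiber (g (f' x')), W)
  obtain ⟨φ, hφ⟩ := Spec.map_surjective (R := k) (S := S)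
    (hW.fromSpec ≫ f.fiberToSpecResidueField (g (f' x')))
  letI : Field k := inferInstance
  letI : Field L := inferInstance
  letI : Algebra k S := φ.hom.toAlgebra
  letI : Algebra k L := (g.residueFieldMap (f' x')).hom.toAlgebra
  haveI : Algebra.FiniteType k S := by
    have h : LocallyOfFiniteType (Spec.map φ) := by rw [hφ]; infer_instance
    exact HasRingHomProperty.Spec_iff.1 h
  have sq : IsPullback (pullback.snd e hW.fromSpec)
      (pullback.fst e hW.fromSpec ≫ f'.fiberToSpecResidueField (f' x'))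
      (Spec.map (CommRingCat.ofHom (algebraMap k S))) (Spec.map (CommRingCat.ofHom (algebraMap k L))) := by
    show IsPullback _ _ (Spec.map φ) (Spec.map (g.residueFieldMap (f' x')))
    rw [hφ]
    exact (IsPullback.of_hasPullback e hW.fromSpec).flip.paste_vert he
  obtain ⟨p, hp⟩ : ∃ p, hW.fromSpec p = e z := ⟨hW.primeIdealOf ⟨e z, hzW⟩, hW.fromSpec_primeIdealOf _⟩
  obtain ⟨z₁, h1, h2⟩ := Scheme.Pullback.exists_preimage_pullback z p hp.symm
  let i := (sq.isoPullback ≪≫ pullbackSpecIso k S L).hom
  have hi : i ≫ Spec.map (CommRingCat.ofHom (algebraMap S (S ⊗[k] L))) = pullback.snd e hW.fromSpec := by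
    simp only [i, Iso.trans_hom, Category.assoc, pullbackSpecIso_hom_fst', IsPullback.isoPullback_hom_fst]
  let v : PrimeSpectrum (S ⊗[k] L) := i z₁
  have hv : PrimeSpectrum.comap (algebraMap S (S ⊗[k] L)) v = p := by
    rw [← h2, ← hi]
    rfl
  have hL : P ((f'.fiber (f' x')).presheaf.stalk z) ↔ P (Localization.AtPrime v.asIdeal) := by
    rw [← h1]
    refine (hP.congr (asIso ((pullback.fst e hW.fromSpec).stalkMap z₁)).commRingCatIsoToRingEquiv).trans ?_
    refine (hP.congr (asIso (i.stalkMap z₁)).commRingCatIsoToRingEquiv).symm.trans ?_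
    exact hP.congr (Spec.stalkIso (CommRingCat.of (S ⊗[k] L)) v).commRingCatIsoToRingEquiv
  have hR : P ((f.fiber (g (f' x'))).presheaf.stalk (e z)) ↔ P (Localization.AtPrime p.asIdeal) := by
    rw [← hp]
    refine (hP.congr (asIso (hW.fromSpec.stalkMap p)).commRingCatIsoToRingEquiv).trans ?_
    exact hP.congr (Spec.stalkIso S p).commRingCatIsoToRingEquiv
  rw [hL, hR, ← hv]
  exact hP.localization_tensor k L S v

/-- The property of the local ring of the fibre at a point. -/
abbrev FibP (P : ∀ (R : Type u) [CommRing R], Prop) ⦃X Y : Scheme.{u}⦄ (f : X ⟶ Y) (x : X) : Prop :=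
  P ((f.fiber (f x)).presheaf.stalk (f.asFiber x))

theorem Stable.fibP_iff (hP : Stable P) (f : X ⟶ Y) (x : X) : FibP P f x ↔ P (X.presheaf.stalk x ⧸ fibIdeal f x) :=
  (hP.congr (nonempty_fibre_stalk_equiv f x _ _ (f.fiberι_asFiber x)).some).symm

theorem Stable.good (hP : Stable P)
    (hopen : ∀ ⦃X Y : Scheme.{u}⦄ (f : X ⟶ Y), LocallyOfFinitePresentation f →
      IsOpen {x : X | (f.stalkMap x).hom.Flat ∧ FibP P f x}) : FibreLoc5.Good.{u} (FibP P) where
  baseChange X Y X' Y' f p q g h _ z :=
    (hP.fibP_iff q z).trans ((hP.fibre_iff h z).trans (hP.fibP_iff f (p z)).symm)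
  source U X Y j f _ u := by
    rw [hP.fibP_iff, hP.fibP_iff]
    have hbij : Function.Bijective (j.stalkMap u).hom := ConcreteCategory.bijective_of_isIso (j.stalkMap u)
    refine (hP.congr (Ideal.quotientEquiv _ _ (RingEquiv.ofBijective _ hbij) ?_)).symm
    show fibIdeal (j ≫ f) u = Ideal.map (j.stalkMap u).hom (fibIdeal f (j u))
    rw [fibIdeal, fibIdeal, Scheme.Hom.stalkMap_comp, CommRingCat.hom_comp, ← Ideal.map_map]
    rfl
  isOpen := hopen

/-- The codepth of a ring is at most `n`. -/
def CodR (n : ℕ) (R : Type u) [CommRing R] : Prop :=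
  ∃ _ : IsLocalRing R, Cod R R n

theorem stable_codR (n : ℕ) : Stable.{u} (CodR n) where
  equiv R S _ _ e h := by
    obtain ⟨hR, h⟩ := h
    haveI : IsLocalRing S := e.isLocalRing
    exact ⟨inferInstance, (cod_congr e.toRingHom e.surjective e.toAddEquiv (fun r x => map_mul e r x) n).1 h⟩
  flat A B _ _ _ _ _ _ hfib q _ := by
    obtain ⟨h1, h2⟩ := FlatLoc6.formulas_self (q.comap (algebraMap A B)) q rfl
    rw [SyntCM12.fibDim_eq_fibDepth hfib q, ← WithBot.coe_add, WithBot.coe_inj] at h2
    have hc : ∀ (R : Type u) [CommRing R] (r : Ideal R) [r.IsPrime],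
        CodR n (Localization.AtPrime r) ↔
          r.height ≤ LocCoh.depth (Localization.AtPrime r) (Localization.AtPrime r) + n := by
      intro R _ r _
      rw [CodR, exists_prop_of_true (inferInstance : IsLocalRing (Localization.AtPrime r)), Cod,
        Module.supportDim_self_eq_ringKrullDim, IsLocalization.AtPrime.ringKrullDim_eq_height r,
        ← WithBot.coe_natCast, ← WithBot.coe_add, WithBot.coe_le_coe]
    rw [hc, hc, h1, h2, add_right_comm]
    exact WithTop.add_le_add_iff_right fun htop =>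
      Ideal.height_ne_top (I := q) (Ideal.IsPrime.ne_top inferInstance) (by rw [h2, htop]; exact add_top _)

/-- Serre's condition for a Noetherian ring. -/
def SkR (k : ℕ) (R : Type u) [CommRing R] : Prop :=
  IsNoetherianRing R ∧ LocCoh.HasSk k R R

theorem stable_skR (k : ℕ) : Stable.{u} (SkR k) where
  equiv R S _ _ e h :=
    haveI := h.1
    ⟨isNoetherianRing_of_ringEquiv R e, FlatLoc6.hasSk_of_ringEquiv e k h.2⟩
  flat A B _ _ _ _ _ _ hfib q _ := by
    haveI := IsLocalization.isNoetherianRing q.primeCompl (Localization.AtPrime q) inferInstance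
    haveI := IsLocalization.isNoetherianRing (q.comap (algebraMap A B)).primeCompl
      (Localization.AtPrime (q.comap (algebraMap A B))) inferInstance
    exact ⟨fun h => ⟨inferInstance, (SyntCM12.hasSk_iff hfib k q).1 h.2⟩,
      fun h => ⟨inferInstance, (SyntCM12.hasSk_iff hfib k q).2 h.2⟩⟩

theorem fibP_codR (n : ℕ) (f : X ⟶ Y) (x : X) :
    FibP (CodR n) f x ↔ Cod ((f.fiber (f.base x)).presheaf.stalk (f.asFiber x))
      ((f.fiber (f.base x)).presheaf.stalk (f.asFiber x)) n :=
  ⟨fun ⟨_, h⟩ => h, fun h => ⟨inferInstance, h⟩⟩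

theorem fibP_skR (k : ℕ) (f : X ⟶ Y) [LocallyOfFiniteType f] (x : X) :
    FibP (SkR k) f x ↔ LocCoh.HasSk k ((f.fiber (f.base x)).presheaf.stalk (f.asFiber x))
      ((f.fiber (f.base x)).presheaf.stalk (f.asFiber x)) := by
  haveI : IsLocallyNoetherian (f.fiber (f x)) :=
    LocallyOfFiniteType.isLocallyNoetherian (f.fiberToSpecResidueField (f x))
  exact and_iff_right inferInstance

theorem good_codR (n : ℕ) : FibreLoc5.Good.{u} (FibP (CodR n)) :=
  (stable_codR n).good fun X Y f _ => by
    convert isOpen_cod_self f n using 1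
    ext x
    exact and_congr_right fun _ => fibP_codR n f x

theorem good_skR (k : ℕ) : FibreLoc5.Good.{u} (FibP (SkR k)) :=
  (stable_skR k).good fun X Y f _ => by
    convert isOpen_sk f k using 1
    ext x
    exact and_congr_right fun _ => fibP_skR k f x

theorem isLocallyConstructible_codepth_eq (f : X ⟶ Y) [LocallyOfFinitePresentation f] (n : ℕ) :
    Topology.IsLocallyConstructible {x : X |
      ringKrullDim ((f.fiber (f.base x)).presheaf.stalk (f.asFiber x)) =
        ((LocCoh.depth ((f.fiber (f.base x)).presheaf.stalk (f.asFiber x))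
          ((f.fiber (f.base x)).presheaf.stalk (f.asFiber x)) : ℕ∞) : WithBot ℕ∞) + n} := by
  have hlc := fun m => FibreLoc5.isLocallyConstructible (good_codR m) f
  have hc : ∀ (x : X) (m : ℕ), FibP (CodR m) f x ↔
      ringKrullDim ((f.fiber (f.base x)).presheaf.stalk (f.asFiber x)) ≤
        ((LocCoh.depth ((f.fiber (f.base x)).presheaf.stalk (f.asFiber x))
          ((f.fiber (f.base x)).presheaf.stalk (f.asFiber x)) : ℕ∞) : WithBot ℕ∞) + m := fun x m => by
    rw [fibP_codR, Cod, Module.supportDim_self_eq_ringKrullDim]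
  have hnat : ∀ x : X, ∃ D a : ℕ, a ≤ D ∧
      ringKrullDim ((f.fiber (f.base x)).presheaf.stalk (f.asFiber x)) = (D : WithBot ℕ∞) ∧
      LocCoh.depth ((f.fiber (f.base x)).presheaf.stalk (f.asFiber x))
          ((f.fiber (f.base x)).presheaf.stalk (f.asFiber x)) = (a : ℕ∞) := fun x => by
    haveI : IsLocallyNoetherian (f.fiber (f x)) :=
      LocallyOfFiniteType.isLocallyNoetherian (f.fiberToSpecResidueField (f x))
    obtain ⟨a, ha⟩ := LC.exists_depth_eq_nat (R := (f.fiber (f.base x)).presheaf.stalk (f.asFiber x))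
      ((f.fiber (f.base x)).presheaf.stalk (f.asFiber x))
    obtain ⟨D, hD⟩ := LC.exists_supportDim_eq_nat (R := (f.fiber (f.base x)).presheaf.stalk (f.asFiber x))
      ((f.fiber (f.base x)).presheaf.stalk (f.asFiber x))
    have := LC.depth_le_supportDim (R := (f.fiber (f.base x)).presheaf.stalk (f.asFiber x))
      ((f.fiber (f.base x)).presheaf.stalk (f.asFiber x))
    rw [ha, hD] at this
    rw [Module.supportDim_self_eq_ringKrullDim] at hD
    exact ⟨D, a, by exact_mod_cast this, hD, ha⟩
  rcases Nat.eq_zero_or_pos n with rfl | hn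
  · convert hlc 0 using 1
    ext x
    refine Iff.trans ?_ (hc x 0).symm
    obtain ⟨D, a, haD, hD, ha⟩ := hnat x
    show _ = _ ↔ _
    rw [hD, ha]
    constructor
    · intro h
      exact h.le
    · intro h
      have h' : D ≤ a + 0 := by exact_mod_cast h
      exact_mod_cast (show D = a + 0 by omega)
  · convert (hlc n).inter (FibreLoc5.lc_compl (hlc (n - 1))) using 1
    ext x
    refine Iff.trans ?_ (and_congr (hc x n).symm (not_congr (hc x (n - 1))).symm)
    obtain ⟨D, a, haD, hD, ha⟩ := hnat x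
    show _ = _ ↔ _
    rw [hD, ha]
    have hle : ∀ m : ℕ, (D : WithBot ℕ∞) ≤ (((a : ℕ∞) : WithBot ℕ∞)) + (m : WithBot ℕ∞) ↔ D ≤ a + m := fun m => by
      exact_mod_cast Iff.rfl
    have heq : (D : WithBot ℕ∞) = (((a : ℕ∞) : WithBot ℕ∞)) + (n : WithBot ℕ∞) ↔ D = a + n := by
      exact_mod_cast Iff.rfl
    rw [heq, hle, hle]
    omega

end Groth.Agent.Codepth5
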