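import Groth.Agent.Codepth5.GeomRk
import Groth.Agent.FBaseLib.Basic

/-!
# Geometric normality of the fibres
-/

set_option autoImplicit false
set_option linter.style.haveILetI false
set_option backward.isDefEq.respectTransparency false
set_option backward.isDefEq.respectTransparency.types false

universe u

open TensorProduct Topology AlgebraicGeometry CategoryTheory Limits

namespace Groth.Agent.Codepth5

variable {F : Type u} [Field F] {Z : Scheme.{u}} (g : Z ⟶ Spec (CommRingCat.of F))

/-- Stable properties of the local rings are invariant under extensions of the base field. -/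
theorem Stable.bc_iff {P : ∀ (R : Type u) [CommRing R], Prop} (hP : Stable P) [LocallyOfFiniteType g]
    (K : Type u) [Field K] [Algebra F K] (x' : ↥(FBase.bc g K)) :
    P ((FBase.bc g K).presheaf.stalk x') ↔ P (Z.presheaf.stalk (FBase.bcπ g K x')) := by
  letI : Z.Over (Spec (CommRingCat.of F)) := ⟨g⟩
  obtain ⟨c, p, hc⟩ := GeomField.exists_chart (k := F) (FBase.bcπ g K x')
  haveI : Algebra.FiniteType F c.R := by
    have h1 : LocallyOfFiniteType (c.emb ≫ g) := inferInstance
    have h2 : LocallyOfFiniteType (Spec.map (CommRingCat.ofHom (algebraMap F c.R))) := c.over_eq ▸ h1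
    exact (RingHom.finiteType_algebraMap).1 ((HasRingHomProperty.Spec_iff (P := @LocallyOfFiniteType)).1 h2)
  obtain ⟨Q, hQ⟩ := c.exists_bcEmb_eq K p x' hc.symm
  subst hQ
  have hQp : PrimeSpectrum.comap (algebraMap c.R (c.R ⊗[F] K)) Q = p :=
    PrimeSpectrum.ext ((c.bcEmb_fst_eq_iff K p Q).1 hc.symm)
  have hL : P ((FBase.bc g K).presheaf.stalk (c.bcEmb K Q)) ↔
      P (Localization.AtPrime (PrimeSpectrum.asIdeal (R := c.R ⊗[F] K) Q)) :=
    (hP.congr (asIso ((c.bcEmb K).stalkMap Q)).commRingCatIsoToRingEquiv).trans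
      (hP.congr (Spec.stalkIso (CommRingCat.of (c.R ⊗[F] K)) Q).commRingCatIsoToRingEquiv)
  have hR : P (Z.presheaf.stalk (c.emb p)) ↔ P (Localization.AtPrime (PrimeSpectrum.asIdeal (R := c.R) p)) :=
    (hP.congr (asIso (c.emb.stalkMap p)).commRingCatIsoToRingEquiv).trans
      (hP.congr (Spec.stalkIso (CommRingCat.of c.R) p).commRingCatIsoToRingEquiv)
  rw [← hc, hL, hR, hP.localization_tensor F K c.R Q]
  subst hQp
  exact Iff.rfl

/-- Serre's criterion for a Noetherian local ring. -/
theorem normal_iff_R1_S2 (R : Type u) [CommRing R] [IsNoetherianRing R] [IsLocalRing R] :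
    (IsDomain R ∧ IsIntegrallyClosed R) ↔ LocCoh.HasRk 1 R ∧ LocCoh.HasSk 2 R R := by
  refine ⟨fun ⟨_, _⟩ => ?_, fun h => FlatLoc6.normal_of_R1_S2 h.1 h.2⟩
  refine FlatLoc6.R1_S2_of_normal fun p _ => ?_
  haveI : IsDomain (Localization.AtPrime p) := IsLocalization.isDomain_localization (Ideal.primeCompl_le_nonZeroDivisors p)
  exact ⟨inferInstance, isIntegrallyClosed_of_isLocalization (Localization.AtPrime p) p.primeCompl
    (Ideal.primeCompl_le_nonZeroDivisors p)⟩

theorem exists_over_self [LocallyOfFiniteType g] (x : Z) : ∃ x' : ↥(FBase.bc g F), FBase.bcπ g F x' = x :=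
  (FBaseLib.surjective_bcπ g F).surj x

theorem normal_bc_iff [LocallyOfFiniteType g] (K : Type u) [Field K] [Algebra F K] (x' : ↥(FBase.bc g K)) :
    (IsDomain ((FBase.bc g K).presheaf.stalk x') ∧ IsIntegrallyClosed ((FBase.bc g K).presheaf.stalk x')) ↔
      LocCoh.HasRk 1 ((FBase.bc g K).presheaf.stalk x') ∧ SkR 2 (Z.presheaf.stalk (FBase.bcπ g K x')) := by
  haveI : LocallyOfFiniteType (FBase.bcStr g K) := MorphismProperty.pullback_snd _ _ inferInstance
  haveI : IsLocallyNoetherian (FBase.bc g K) := LocallyOfFiniteType.isLocallyNoetherian (FBase.bcStr g K)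
  rw [normal_iff_R1_S2, ← (stable_skR 2).bc_iff g K x']
  refine and_congr_right fun _ => ⟨fun h => ⟨inferInstance, h⟩, fun h => h.2⟩

/-- Geometric normality in terms of (R_1) and (S_2). -/
theorem normal_fin_field_iff [LocallyOfFiniteType g] (x : Z) :
    (∀ (K : Type u) [Field K] [Algebra F K], Module.Finite F K → ∀ x' : ↥(FBase.bc g K),
      FBase.bcπ g K x' = x → IsDomain ((FBase.bc g K).presheaf.stalk x') ∧
        IsIntegrallyClosed ((FBase.bc g K).presheaf.stalk x')) ↔
    (∀ (K : Type u) [Field K] [Algebra F K], Module.Finite F K → ∀ x' : ↥(FBase.bc g K),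
      FBase.bcπ g K x' = x → LocCoh.HasRk 1 ((FBase.bc g K).presheaf.stalk x')) ∧
      SkR 2 (Z.presheaf.stalk x) := by
  constructor
  · intro h
    refine ⟨fun K _ _ hK x' hx => ((normal_bc_iff g K x').1 (h K hK x' hx)).1, ?_⟩
    obtain ⟨x', hx⟩ := exists_over_self g x
    exact hx ▸ ((normal_bc_iff g F x').1 (h F (Module.Finite.self F) x' hx)).2
  · rintro ⟨h, hS⟩ K _ _ hK x' hx
    exact (normal_bc_iff g K x').2 ⟨h K hK x' hx, hx.symm ▸ hS⟩

section Fibre

variable {X Y : Scheme.{u}} (f : X ⟶ Y) [LocallyOfFinitePresentation f]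

theorem normal_fibre_iff (y : Y) (w : ↥(f.fiber y)) :
    (∀ (K : Type u) [Field K] [Algebra (IsLocalRing.ResidueField (Y.presheaf.stalk y)) K],
      Module.Finite (IsLocalRing.ResidueField (Y.presheaf.stalk y)) K →
      ∀ x' : ↥(FBase.bc (f.fiberToSpecResidueField y) K),
        (FBase.bcπ (f.fiberToSpecResidueField y) K).base x' = w →
          IsDomain ((FBase.bc (f.fiberToSpecResidueField y) K).presheaf.stalk x') ∧
            IsIntegrallyClosed ((FBase.bc (f.fiberToSpecResidueField y) K).presheaf.stalk x')) ↔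
      RkCond f 1 (f.fiberι y w) ∧ SkR 2 ((f.fiber y).presheaf.stalk w) := by
  refine (normal_fin_field_iff (f.fiberToSpecResidueField y) w).trans (and_congr_left fun _ => ?_)
  exact ⟨rkCond_of_geomRk f 1 y w, fun h K _ _ _ x' hx => geomRk_of_rkCond f 1 y w h K x' hx⟩

theorem normal_all_iff (x : X) :
    (∀ (K : Type u) [Field K] [Algebra (IsLocalRing.ResidueField (Y.presheaf.stalk (f.base x))) K]
      (x' : ↥(FBase.bc (f.fiberToSpecResidueField (f.base x)) K)),
        (FBase.bcπ (f.fiberToSpecResidueField (f.base x)) K).base x' = f.asFiber x →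
          (IsDomain ((FBase.bc (f.fiberToSpecResidueField (f.base x)) K).presheaf.stalk x') ∧
            IsIntegrallyClosed ((FBase.bc (f.fiberToSpecResidueField (f.base x)) K).presheaf.stalk x'))) ↔
    RkCond f 1 x ∧ FibP (SkR 2) f x := by
  constructor
  · intro h
    have := (normal_fibre_iff f (f.base x) (f.asFiber x)).1 fun K _ _ _ => h K
    rwa [Scheme.Hom.fiberι_asFiber] at this
  · rintro ⟨h, hS⟩ K _ _ x' hx
    refine (normal_bc_iff (f.fiberToSpecResidueField (f.base x)) K x').2
      ⟨geomRk_of_rkCond f 1 _ (f.asFiber x) (by rw [Scheme.Hom.fiberι_asFiber]; exact h) K x' hx, hx.symm ▸ hS⟩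

theorem isLC_normal : IsLocallyConstructible {x : X | RkCond f 1 x ∧ FibP (SkR 2) f x} :=
  (isLC_rkCond f 1).inter (FibreLoc5.isLocallyConstructible (good_skR 2) f)

end Fibre

end Groth.Agent.Codepth5
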