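import Groth.Agent.Codepth5.GeomRkField
import Groth.Agent.Codepth5.DimSet
import Groth.Agent.Codepth5.Field
import Groth.Agent.Codepth5.AssBase
import Groth.Agent.FlatLoc6.SerreNormal
import Groth.Agent.FibDim.Semicont
import Groth.Agent.FormCat.Descent

/-!
# The geometric condition (R_k) and geometric normality of the fibres
-/

set_option autoImplicit false
set_option linter.style.haveILetI false
set_option backward.isDefEq.respectTransparency false
set_option backward.isDefEq.respectTransparency.types false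

universe u

open TensorProduct Topology AlgebraicGeometry CategoryTheory Limits

namespace Groth.Agent.Codepth5

variable {X Y : Scheme.{u}} (f : X ⟶ Y) [LocallyOfFinitePresentation f]

/-- The geometric condition (R_k) of the fibre at `x`, read on the fibrewise smooth points. -/
def RkCond (k : ℕ) (x : X) : Prop :=
  ∀ z, z ⤳ x → f z = f x → DimFormula.fb f z ≤ k → FibreLoc5.SmFib f z

theorem fb_fiberι (y : Y) (w : ↥(f.fiber y)) : DimFormula.fb f (f.fiberι y w) = DimFormula.codim w :=
  fibre_induction f (fun y w => DimFormula.fb f (f.fiberι y w) = DimFormula.codim w)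
    (fun x => by rw [Scheme.Hom.fiberι_asFiber]; rfl) y w

theorem smFib_fiberι (y : Y) [LocallyOfFinitePresentation (f.fiberToSpecResidueField y)] (w : ↥(f.fiber y)) :
    FibreLoc5.SmFib f (f.fiberι y w) ↔ w ∈ (f.fiberToSpecResidueField y).smoothLocus :=
  fibre_induction f (fun y w => FibreLoc5.SmFib f (f.fiberι y w) ↔
      ((f.fiberToSpecResidueField y).stalkMap w).hom.FormallySmooth)
    (fun x => by rw [Scheme.Hom.fiberι_asFiber]) y w

theorem rkCond_fiberι_iff (k : ℕ) (y : Y) [LocallyOfFinitePresentation (f.fiberToSpecResidueField y)]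
    (w : ↥(f.fiber y)) : RkCond f k (f.fiberι y w) ↔
      ∀ v, v ⤳ w → DimFormula.codim v ≤ k → v ∈ (f.fiberToSpecResidueField y).smoothLocus := by
  constructor
  · intro h v hv hk
    rw [← smFib_fiberι]
    refine h _ ((specializes_fibre_iff f v w).2 hv) ?_ (by rw [fb_fiberι]; exact hk)
    rw [FibDim.fiber_apply_fiberι, FibDim.fiber_apply_fiberι]
  · intro h z hz hfz hk
    obtain ⟨v, rfl⟩ : z ∈ Set.range (f.fiberι y) := by
      rw [Scheme.Hom.range_fiberι]
      exact hfz.trans (FibDim.fiber_apply_fiberι f w)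
    rw [fb_fiberι] at hk
    exact (smFib_fiberι f y v).2 (h v ((specializes_fibre_iff f v w).1 hz) hk)

theorem geomRk_of_rkCond (k : ℕ) (y : Y) (w : ↥(f.fiber y)) (h : RkCond f k (f.fiberι y w))
    (K : Type u) [Field K] [Algebra (IsLocalRing.ResidueField (Y.presheaf.stalk y)) K]
    (x' : ↥(FBase.bc (f.fiberToSpecResidueField y) K))
    (hx : (FBase.bcπ (f.fiberToSpecResidueField y) K).base x' = w) :
    LocCoh.HasRk k ((FBase.bc (f.fiberToSpecResidueField y) K).presheaf.stalk x') :=
  haveI := FibreLoc5.lfp_fibre f y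
  geomRk_of_smooth (f.fiberToSpecResidueField y) k w ((rkCond_fiberι_iff f k y w).1 h) K x' hx

theorem rkCond_of_geomRk (k : ℕ) (y : Y) (w : ↥(f.fiber y))
    (h : ∀ (K : Type u) [Field K] [Algebra (IsLocalRing.ResidueField (Y.presheaf.stalk y)) K],
      Module.Finite (IsLocalRing.ResidueField (Y.presheaf.stalk y)) K →
      ∀ x' : ↥(FBase.bc (f.fiberToSpecResidueField y) K),
        (FBase.bcπ (f.fiberToSpecResidueField y) K).base x' = w →
          LocCoh.HasRk k ((FBase.bc (f.fiberToSpecResidueField y) K).presheaf.stalk x')) :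
    RkCond f k (f.fiberι y w) :=
  haveI := FibreLoc5.lfp_fibre f y
  (rkCond_fiberι_iff f k y w).2 fun v hv hk => smooth_of_geomRk (f.fiberToSpecResidueField y) k w h v hv hk

theorem geomRk_fin_iff (k : ℕ) (x : X) :
    (∀ (K : Type u) [Field K] [Algebra (IsLocalRing.ResidueField (Y.presheaf.stalk (f.base x))) K],
      Module.Finite (IsLocalRing.ResidueField (Y.presheaf.stalk (f.base x))) K →
      ∀ x' : ↥(FBase.bc (f.fiberToSpecResidueField (f.base x)) K),
        (FBase.bcπ (f.fiberToSpecResidueField (f.base x)) K).base x' = f.asFiber x →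
          LocCoh.HasRk k ((FBase.bc (f.fiberToSpecResidueField (f.base x)) K).presheaf.stalk x')) ↔
    RkCond f k x :=
  ⟨fun h => f.fiberι_asFiber x ▸ rkCond_of_geomRk f k _ _ h,
    fun h K _ _ _ x' hx => geomRk_of_rkCond f k _ _ (by rw [Scheme.Hom.fiberι_asFiber]; exact h) K x' hx⟩

theorem geomRk_iff (k : ℕ) (x : X) :
    (∀ (K : Type u) [Field K] [Algebra (IsLocalRing.ResidueField (Y.presheaf.stalk (f.base x))) K]
      (x' : ↥(FBase.bc (f.fiberToSpecResidueField (f.base x)) K)),
        (FBase.bcπ (f.fiberToSpecResidueField (f.base x)) K).base x' = f.asFiber x →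
          LocCoh.HasRk k ((FBase.bc (f.fiberToSpecResidueField (f.base x)) K).presheaf.stalk x')) ↔
    RkCond f k x :=
  ⟨fun h => (geomRk_fin_iff f k x).1 fun K _ _ _ => h K,
    fun h K _ _ x' hx => geomRk_of_rkCond f k _ _ (by rw [Scheme.Hom.fiberι_asFiber]; exact h) K x' hx⟩

/-- The points which are not fibrewise smooth, in fibre dimension `n`. -/
def singDim (n : ℕ) : Set X :=
  {z | ¬ FibreLoc5.SmFib f z ∧ FibDim.rd f z + DimFormula.fb f z = n}

theorem rkCond_iff_dimSetLTAt (k : ℕ) (x : X) :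
    RkCond f k x ↔ ∀ n, DimSetLTAt f (singDim f n) (n - k) x := by
  constructor
  · intro h n z hz hfz ⟨hs, hn⟩
    have : ¬ DimFormula.fb f z ≤ k := fun hk => hs (h z hz hfz hk)
    omega
  · intro h z hz hfz hk
    by_contra hs
    have := h _ z hz hfz ⟨hs, rfl⟩
    omega

theorem fibreDimAt_le_iff_add (z : X) (n : ℕ) :
    FlatMor.fibreDimAt f z ≤ (n : WithBot ℕ∞) ↔ FibDim.rd f z + DimFormula.fb f z ≤ n := by
  rw [DimFormula.fibreDimAt_eq_add]
  norm_cast

theorem setOf_add_le_eq (n : ℕ) :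
    {z : X | FibDim.rd f z + DimFormula.fb f z ≤ n} = {z | DimSetLTAt f Set.univ (n + 1) z} := by
  ext z
  rw [Set.mem_ofPred_eq, Set.mem_ofPred_eq, ← fibreDimAt_le_iff_add, FibDim.fibreDimAt_le_iff]
  exact ⟨fun h w hw hfw _ => Nat.lt_succ_of_le (h w hw hfw),
    fun h w hw hfw => Nat.le_of_lt_succ (h w hw hfw (Set.mem_univ w))⟩

theorem isLC_fibreDim_le (n : ℕ) :
    IsLocallyConstructible {z : X | FibDim.rd f z + DimFormula.fb f z ≤ n} := by
  rw [setOf_add_le_eq]
  exact isLC_dimSetLTAt f Set.univ IsLocallyConstructible.univ _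

theorem isLC_singDim (n : ℕ) : IsLocallyConstructible (singDim f n) := by
  have h1 : IsLocallyConstructible {z : X | ¬ FibreLoc5.SmFib f z} :=
    isLC_compl (FibreLoc5.isLocallyConstructible_smFib f)
  cases n with
  | zero =>
    convert h1.inter (isLC_fibreDim_le f 0) using 1
    ext z
    simp [singDim]
  | succ n =>
    convert h1.inter ((isLC_fibreDim_le f (n + 1)).inter (isLC_compl (isLC_fibreDim_le f n))) using 1
    ext z
    simp only [singDim, Set.mem_ofPred_eq, Set.mem_inter_iff, Set.mem_compl_iff]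
    constructor
    · rintro ⟨a, b⟩
      exact ⟨a, by omega, by omega⟩
    · rintro ⟨a, b, c⟩
      exact ⟨a, by omega⟩

omit [LocallyOfFinitePresentation f] in
theorem exists_bound [LocallyOfFiniteType f] {U : X.Opens} (hU : IsAffineOpen U) :
    ∃ N : ℕ, ∀ z ∈ U, FibDim.rd f z + DimFormula.fb f z ≤ N := by
  have hcov : (U : Set X) ⊆ ⋃ n : ℕ, {z : X | FlatMor.fibreDimAt f z ≤ (n : WithBot ℕ∞)} := fun z _ => by
    refine Set.mem_iUnion.2 ⟨FibDim.rd f z + DimFormula.fb f z, ?_⟩
    rw [Set.mem_ofPred_eq, DimFormula.fibreDimAt_eq_add]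
    rfl
  obtain ⟨s, hs⟩ := hU.isCompact.elim_finite_subcover _ (fun n => FibDim.isOpen_fibreDimAt_le f n) hcov
  refine ⟨s.sup id, fun z hz => ?_⟩
  obtain ⟨n, hn, hzn⟩ := Set.mem_iUnion₂.1 (hs hz)
  rw [Set.mem_ofPred_eq, DimFormula.fibreDimAt_eq_add] at hzn
  have h1 : FibDim.rd f z + DimFormula.fb f z ≤ n := by exact_mod_cast hzn
  exact h1.trans (Finset.le_sup (f := id) hn)

theorem isLC_rkCond (k : ℕ) : IsLocallyConstructible {x : X | RkCond f k x} := by
  refine isLC_of_charts f _ fun U hU V hV hle => ?_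
  obtain ⟨N, hN⟩ := exists_bound f hU
  have hlc : IsLocallyConstructible (⋂ n ∈ Finset.range (N + 1), {x : X | DimSetLTAt f (singDim f n) (n - k) x}) :=
    isLC_biInter _ _ fun n _ => isLC_dimSetLTAt f _ (isLC_singDim f n) _
  refine ⟨hU.fromSpec ⁻¹' _, (hlc.preimage_of_isOpenEmbedding hU.fromSpec.isOpenEmbedding).isConstructible,
    fun z hz => ?_⟩
  rw [rkCond_iff_dimSetLTAt, Set.mem_preimage, hU.fromSpec_primeIdealOf, Set.mem_iInter₂]
  refine ⟨fun h n _ => h n, fun h n => ?_⟩
  rcases Nat.lt_or_ge n (N + 1) with hn | hn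
  · exact h n (Finset.mem_range.2 hn)
  · intro w hw _ hwE
    have := hN w (hw.mem_open U.isOpen hz)
    have := hwE.2
    omega

theorem isLC_base_rkCond [QuasiCompact f] (k : ℕ) :
    IsLocallyConstructible {s : Y | ∀ x : X, f.base x = s → RkCond f k x} := by
  convert isLC_compl (f.isLocallyConstructible_image (isLC_compl (isLC_rkCond f k))) using 1
  ext s
  simp only [Set.mem_ofPred_eq, Set.mem_compl_iff, Set.mem_image]
  exact ⟨fun h ⟨x, hx, hxs⟩ => hx (h x hxs), fun h x hxs => by_contra fun hx => h ⟨x, hx, hxs⟩⟩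

end Groth.Agent.Codepth5
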