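import Groth.Prelude.Def_FDesc
import Groth.Agent.SmoothReg.GeomRegularAt
import Groth.Agent.SmoothReg.Scheme
import Groth.Agent.Alg6.RkLoc
import Groth.Agent.Synt29.SmoothProps
import Groth.Agent.AlgSpPts.Dim
import Groth.Agent.DimFormula.Fibre
import Groth.Agent.S2155
import Groth.Agent.S4578
import Groth.Agent.FibreLoc5.Smooth
import Groth.Agent.Codepth5.DimSet

/-!
# The geometric condition (R_k) at a point of a scheme over a field
-/

set_option autoImplicit false
set_option linter.style.haveILetI false
set_option backward.isDefEq.respectTransparency false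
set_option backward.isDefEq.respectTransparency.types false

universe u

open TensorProduct Topology AlgebraicGeometry CategoryTheory Limits Order

attribute [local instance] specializationOrder

namespace Groth.Agent.Codepth5

/-- The condition (R_k) at a point, read on the generizations of the point. -/
theorem hasRk_stalk_iff {Z : Scheme.{u}} [IsLocallyNoetherian Z] (x : Z) (k : ℕ) :
    LocCoh.HasRk k (Z.presheaf.stalk x) ↔
      ∀ w, w ⤳ x → DimFormula.codim w ≤ k → IsRegularLocalRing (Z.presheaf.stalk w) := by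
  obtain ⟨V, hV, hx⟩ := SmoothReg.exists_chart (X := Z) x
  rw [← Synt29.SmoothProps.hasRk_congr (SmoothReg.stalkEquiv hV hx) k, Alg6.hasRk_localization_iff]
  have key : ∀ w (hw : w ∈ V), (hV.primeIdealOf ⟨w, hw⟩).asIdeal.height ≤ k ↔ DimFormula.codim w ≤ k := by
    intro w hw
    have h := (ringKrullDim_eq_of_ringEquiv (SmoothReg.stalkEquiv hV hw)).symm.trans rfl
    rw [IsLocalization.AtPrime.ringKrullDim_eq_height (hV.primeIdealOf ⟨w, hw⟩).asIdeal
      (Localization.AtPrime (hV.primeIdealOf ⟨w, hw⟩).asIdeal), DimFormula.ringKrullDim_stalk] at h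
    have h' : (hV.primeIdealOf ⟨w, hw⟩).asIdeal.height = (DimFormula.codim w : ℕ∞) := by
      exact_mod_cast h.symm
    rw [h']
    exact ENat.coe_le_coe
  constructor
  · intro h w hwx hk
    have hw : w ∈ V := hwx.mem_open V.isOpen hx
    have hle : hV.primeIdealOf ⟨w, hw⟩ ≤ hV.primeIdealOf ⟨x, hx⟩ := (primeIdealOf_le_iff hV hw hx).2 hwx
    haveI := h _ ((Alg6.disjoint_primeCompl_iff _ _).2 hle) ((key w hw).2 hk)
    exact IsRegularLocalRing.of_ringEquiv (SmoothReg.stalkEquiv hV hw)
  · intro h q hq hd hk
    obtain ⟨w, hw, hwq⟩ := QCoh.exists_point hV ⟨q, hq⟩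
    have hwx : w ⤳ x := (primeIdealOf_le_iff hV hw hx).1 (hwq.symm ▸ (Alg6.disjoint_primeCompl_iff _ _).1 hd)
    have hk' : (hV.primeIdealOf ⟨w, hw⟩).asIdeal.height ≤ k := by rw [hwq]; exact hk
    haveI := h w hwx ((key w hw).1 hk')
    have h2 := IsRegularLocalRing.of_ringEquiv (SmoothReg.stalkEquiv hV hw).symm
    rw [hwq] at h2
    exact h2

variable {F : Type u} [Field F] {Z : Scheme.{u}} (g : Z ⟶ Spec (CommRingCat.of F)) [LocallyOfFinitePresentation g]

theorem isLocallyNoetherian_bc (K : Type u) [Field K] [Algebra F K] : IsLocallyNoetherian (FBase.bc g K) :=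
  haveI : LocallyOfFiniteType (FBase.bcStr g K) := MorphismProperty.pullback_snd _ _ inferInstance
  LocallyOfFiniteType.isLocallyNoetherian (FBase.bcStr g K)

/-- Smoothness at the generizations of small codimension gives the geometric condition (R_k). -/
theorem geomRk_of_smooth (k : ℕ) (x : Z)
    (h : ∀ w, w ⤳ x → DimFormula.codim w ≤ k → w ∈ g.smoothLocus)
    (K : Type u) [Field K] [Algebra F K] (x' : ↥(FBase.bc g K)) (hx : FBase.bcπ g K x' = x) :
    LocCoh.HasRk k ((FBase.bc g K).presheaf.stalk x') := by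
  haveI : IsLocallyNoetherian Z := LocallyOfFiniteType.isLocallyNoetherian g
  haveI := isLocallyNoetherian_bc g K
  haveI : LocallyOfFinitePresentation (FBase.bcStr g K) := MorphismProperty.pullback_snd _ _ inferInstance
  haveI : Flat (Spec.map (CommRingCat.ofHom (algebraMap F K))) := GrpSchLib.flat_spec_map_field _
  haveI : Flat (FBase.bcπ g K) := MorphismProperty.pullback_fst _ _ inferInstance
  rw [hasRk_stalk_iff]
  intro w' hw' hk
  have hwx : FBase.bcπ g K w' ⤳ x := hx ▸ hw'.map (FBase.bcπ g K).continuous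
  have hle := AlgSpPts.coheight_le_of_flat (FBase.bcπ g K) w'
  rw [← DimFormula.coe_codim, ← DimFormula.coe_codim] at hle
  have hsm := h _ hwx ((ENat.coe_le_coe.1 hle).trans hk)
  have hpb : IsPullback (FBase.bcπ g K) (FBase.bcStr g K) g (Spec.map (CommRingCat.ofHom (algebraMap F K))) :=
    IsPullback.of_hasPullback _ _
  have he := S2155.result g _ (FBase.bcStr g K) (FBase.bcπ g K) hpb (Or.inr ‹_›)
  exact SmoothReg.isRegularLocalRing_stalk_of_mem_smoothLocus (FBase.bcStr g K)
    (show w' ∈ (FBase.bcStr g K).smoothLocus by rw [he]; exact hsm)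

/-- Regularity after all finite extensions of the scalars is smoothness. -/
theorem mem_smoothLocus_of_regular (w : Z)
    (h : ∀ (K : Type u) [Field K] [Algebra F K], Module.Finite F K → ∀ w' : ↥(FBase.bc g K),
      FBase.bcπ g K w' = w → IsRegularLocalRing ((FBase.bc g K).presheaf.stalk w')) :
    w ∈ g.smoothLocus := by
  letI : Z.Over (Spec (CommRingCat.of F)) := ⟨g⟩
  obtain ⟨c, P, rfl⟩ := GeomField.exists_chart (k := F) w
  haveI : Algebra.FiniteType F c.R := by
    have h1 : LocallyOfFiniteType (c.emb ≫ g) := inferInstance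
    have h2 : LocallyOfFiniteType (Spec.map (CommRingCat.ofHom (algebraMap F c.R))) := c.over_eq ▸ h1
    exact (RingHom.finiteType_algebraMap).1 ((HasRingHomProperty.Spec_iff (P := @LocallyOfFiniteType)).1 h2)
  haveI : IsNoetherianRing c.R := Algebra.FiniteType.isNoetherianRing F c.R
  let p := PrimeSpectrum.asIdeal (R := c.R) P
  have hgeo : CAlg.IsGeometricallyRegular F (Localization.AtPrime p) := by
    intro K _ _ hK
    haveI := hK
    haveI := SmoothReg.isRegularRing_tensor_local (k := F) (K := K) (A := Localization.AtPrime p) p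
      fun Q hQ hQP => (SmoothReg.isRegularLocalRing_stalk_bcEmb_iff c K ⟨Q, hQ⟩).1
        (h K hK _ ((c.bcEmb_fst_eq_iff K P ⟨Q, hQ⟩).2 hQP))
    exact IsRegularRing.of_ringEquiv (Algebra.TensorProduct.comm F (Localization.AtPrime p) K).toRingEquiv
  obtain ⟨t, ht, htfs⟩ := ((S4578.result (k₀ := F) (k := F) (C := c.R) p).out 3 2).1 hgeo
  haveI : Algebra.FinitePresentation F (Localization.Away t) :=
    Algebra.FinitePresentation.of_finiteType.1 (Algebra.FiniteType.trans (S := c.R) inferInstance
      (IsLocalization.finiteType_of_monoid_fg (Submonoid.powers t) (Localization.Away t)))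
  haveI : Algebra.Smooth F (Localization.Away t) := ⟨htfs, inferInstance⟩
  haveI hsm : Smooth (Spec.map (CommRingCat.ofHom (algebraMap F (Localization.Away t)))) := by
    rw [HasRingHomProperty.Spec_iff (P := @Smooth)]
    exact RingHom.smooth_algebraMap.2 inferInstance
  let i : Spec (CommRingCat.of (Localization.Away t)) ⟶ Spec (CommRingCat.of c.R) :=
    Spec.map (CommRingCat.ofHom (algebraMap c.R (Localization.Away t)))
  haveI : IsOpenImmersion i := IsOpenImmersion.of_isLocalization t
  obtain ⟨P', hP'⟩ : P ∈ Set.range i := by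
    show P ∈ Set.range (PrimeSpectrum.comap (algebraMap c.R (Localization.Away t)))
    rw [PrimeSpectrum.localization_away_comap_range (Localization.Away t) t]
    exact ht
  have hi : (i ≫ c.emb) ≫ g = Spec.map (CommRingCat.ofHom (algebraMap F (Localization.Away t))) := by
    rw [Category.assoc, show c.emb ≫ g = Spec.map (CommRingCat.ofHom (algebraMap F c.R)) from c.over_eq,
      ← Spec.map_comp, ← CommRingCat.ofHom_comp, ← IsScalarTower.algebraMap_eq]
  have h3 : ((Spec.map (CommRingCat.ofHom (algebraMap F (Localization.Away t)))).stalkMap P').hom.FormallySmooth := by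
    show P' ∈ (Spec.map (CommRingCat.ofHom (algebraMap F (Localization.Away t)))).smoothLocus
    rw [Scheme.Hom.smoothLocus_eq_top]
    trivial
  have h4 := (FibreLoc5.formallySmooth_openImmersion_comp (i ≫ c.emb) g P').1
    ((FibreLoc5.formallySmooth_stalkMap_congr hi P').2 h3)
  show (g.stalkMap (c.emb P)).hom.FormallySmooth
  rw [show c.emb P = (i ≫ c.emb) P' by rw [Scheme.Hom.comp_apply, hP']]
  exact h4

/-- The geometric condition (R_k) on the finite extensions is smoothness at small codimension. -/
theorem smooth_of_geomRk (k : ℕ) (x : Z)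
    (h : ∀ (K : Type u) [Field K] [Algebra F K], Module.Finite F K → ∀ x' : ↥(FBase.bc g K),
      FBase.bcπ g K x' = x → LocCoh.HasRk k ((FBase.bc g K).presheaf.stalk x'))
    (w : Z) (hwx : w ⤳ x) (hk : DimFormula.codim w ≤ k) : w ∈ g.smoothLocus := by
  haveI : IsLocallyNoetherian Z := LocallyOfFiniteType.isLocallyNoetherian g
  refine mem_smoothLocus_of_regular g w fun K _ _ hK w' hw' => ?_
  haveI := isLocallyNoetherian_bc g K
  haveI := hK
  haveI : IsFinite (Spec.map (CommRingCat.ofHom (algebraMap F K))) := by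
    rw [IsFinite.SpecMap_iff]
    exact RingHom.finite_algebraMap.2 hK
  haveI : IsFinite (FBase.bcπ g K) := MorphismProperty.pullback_fst _ _ inferInstance
  obtain ⟨x', hx', hxe⟩ : x ∈ FBase.bcπ g K '' closure ({w'} : Set ↥(FBase.bc g K)) :=
    ((FBase.bcπ g K).isClosedMap _ isClosed_closure).closure_subset_iff.2 (Set.singleton_subset_iff.2 ⟨w', subset_closure (Set.mem_singleton w'), hw'⟩)
      (specializes_iff_mem_closure.1 hwx)
  refine (hasRk_stalk_iff x' k).1 (h K hK x' hxe) w' (specializes_iff_mem_closure.2 hx') ?_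
  have hle := coheight_le_coheight_apply_of_strictMono _ (AlgSpPts.strictMono_of_lqf (FBase.bcπ g K)) w'
  rw [← DimFormula.coe_codim, ← DimFormula.coe_codim, hw'] at hle
  exact (ENat.coe_le_coe.1 hle).trans hk

end Groth.Agent.Codepth5
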