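import Groth.Agent.Codepth5.Poly

/-!
# Openness of the codepth loci of the fibres of a flat module over a finitely presented algebra
-/

set_option autoImplicit false
set_option linter.style.haveILetI false
set_option backward.isDefEq.respectTransparency false
set_option backward.isDefEq.respectTransparency.types false

universe u

open IsLocalRing TensorProduct

namespace Groth.Agent.Codepth5

/-- Dimension of the support and depth. -/
noncomputable def dd (L : Type u) [CommRing L] [IsLocalRing L] (X : Type u) [AddCommGroup X] [Module L X] :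
    WithBot ℕ∞ × ℕ∞ :=
  (Module.supportDim L X, LocCoh.depth L X)

theorem dd_congr {L L' : Type u} [CommRing L] [IsLocalRing L] [CommRing L'] [IsLocalRing L'] {X X' : Type u}
    [AddCommGroup X] [Module L X] [AddCommGroup X'] [Module L' X'] (σ : L' →+* L) (hσ : Function.Surjective σ)
    (e : X' ≃+ X) (he : ∀ (r : L') (x : X'), e (r • x) = σ r • e x) : dd L' X' = dd L X := by
  rw [dd, dd, Alg6.supportDim_eq_of_semilinear σ hσ e he, Alg6.depth_eq_of_semilinear σ hσ e he]

/-- `X` is `X'` seen over a quotient of the ring. -/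
def Semi (L' : Type u) [CommRing L'] (X' : Type u) [AddCommGroup X'] [Module L' X']
    (L : Type u) [CommRing L] (X : Type u) [AddCommGroup X] [Module L X] : Prop :=
  ∃ σ : L' →+* L, Function.Surjective σ ∧ ∃ e : X' ≃+ X, ∀ (r : L') (x : X'), e (r • x) = σ r • e x

theorem Semi.trans {L₁ L₂ L₃ : Type u} [CommRing L₁] [CommRing L₂] [CommRing L₃] {X₁ X₂ X₃ : Type u}
    [AddCommGroup X₁] [Module L₁ X₁] [AddCommGroup X₂] [Module L₂ X₂] [AddCommGroup X₃] [Module L₃ X₃]
    (h₁ : Semi L₁ X₁ L₂ X₂) (h₂ : Semi L₂ X₂ L₃ X₃) : Semi L₁ X₁ L₃ X₃ := by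
  obtain ⟨σ, hσ, e, he⟩ := h₁
  obtain ⟨τ, hτ, g, hg⟩ := h₂
  exact ⟨τ.comp σ, hτ.comp hσ, e.trans g, fun r x => (congrArg g (he r x)).trans (hg _ _)⟩

theorem Semi.dd_eq {L L' : Type u} [CommRing L] [IsLocalRing L] [CommRing L'] [IsLocalRing L'] {X X' : Type u}
    [AddCommGroup X] [Module L X] [AddCommGroup X'] [Module L' X'] (h : Semi L' X' L X) : dd L' X' = dd L X := by
  obtain ⟨σ, hσ, e, he⟩ := h
  exact dd_congr σ hσ e he

/-- The codepth of `X` is at most `k`. -/
def Cod (L : Type u) [CommRing L] [IsLocalRing L] (X : Type u) [AddCommGroup X] [Module L X] (k : ℕ) : Prop :=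
  Module.supportDim L X ≤ ((LocCoh.depth L X : ℕ∞) : WithBot ℕ∞) + k

theorem cod_congr {L L' : Type u} [CommRing L] [IsLocalRing L] [CommRing L'] [IsLocalRing L'] {X X' : Type u}
    [AddCommGroup X] [Module L X] [AddCommGroup X'] [Module L' X'] (σ : L' →+* L) (hσ : Function.Surjective σ)
    (e : X' ≃+ X) (he : ∀ (r : L') (x : X'), e (r • x) = σ r • e x) (k : ℕ) : Cod L' X' k ↔ Cod L X k := by
  rw [Cod, Cod, Alg6.supportDim_eq_of_semilinear σ hσ e he, Alg6.depth_eq_of_semilinear σ hσ e he]

theorem cod_iff_of_dd_eq {L L' : Type u} [CommRing L] [IsLocalRing L] [CommRing L'] [IsLocalRing L'] {X X' : Type u}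
    [AddCommGroup X] [Module L X] [AddCommGroup X'] [Module L' X'] (h : dd L' X' = dd L X) (k : ℕ) :
    Cod L' X' k ↔ Cod L X k := by
  rw [Cod, Cod, show Module.supportDim L' X' = Module.supportDim L X from (Prod.ext_iff.1 h).1, show LocCoh.depth L' X' = LocCoh.depth L X from (Prod.ext_iff.1 h).2]

theorem semi_quot {L L' : Type u} [CommRing L] [IsLocalRing L] [CommRing L'] [IsLocalRing L'] {X X' : Type u}
    [AddCommGroup X] [Module L X] [AddCommGroup X'] [Module L' X'] (σ : L' →+* L) (hσ : Function.Surjective σ)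
    (e : X' ≃+ X) (he : ∀ (r : L') (x : X'), e (r • x) = σ r • e x) (J' : Ideal L') (J : Ideal L)
    (hJ : J'.map σ = J) :
    Semi L' (X' ⧸ (J' • ⊤ : Submodule L' X')) L (X ⧸ (J • ⊤ : Submodule L X)) := by
  subst hJ
  have hmem : (J' • ⊤ : Submodule L' X').toAddSubgroup.map e.toAddMonoidHom =
      (J'.map σ • ⊤ : Submodule L X).toAddSubgroup := by
    ext x
    constructor
    · rintro ⟨y, hy, rfl⟩
      refine Submodule.smul_induction_on hy (fun r hr m _ => ?_) (fun a b ha hb => ?_)
      · show e (r • m) ∈ (J'.map σ • ⊤ : Submodule L X)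
        rw [he]
        exact Submodule.smul_mem_smul (Ideal.mem_map_of_mem σ hr) trivial
      · rw [map_add]
        exact add_mem ha hb
    · intro hx
      refine Submodule.smul_induction_on hx (fun r hr m _ => ?_) (fun a b ha hb => add_mem ha hb)
      obtain ⟨r, hr', rfl⟩ := (Ideal.mem_map_iff_of_surjective σ hσ).1 hr
      exact ⟨r • e.symm m, Submodule.smul_mem_smul hr' trivial, by simp [he]⟩
  let ē : (X' ⧸ (J' • ⊤ : Submodule L' X')) ≃+ (X ⧸ (J'.map σ • ⊤ : Submodule L X)) :=
    QuotientAddGroup.congr _ _ e hmem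
  refine ⟨σ, hσ, ē, fun r x => ?_⟩
  obtain ⟨x, rfl⟩ := Submodule.Quotient.mk_surjective _ x
  exact congrArg Submodule.Quotient.mk (he r x)

theorem dd_quot_congr {L L' : Type u} [CommRing L] [IsLocalRing L] [CommRing L'] [IsLocalRing L'] {X X' : Type u}
    [AddCommGroup X] [Module L X] [AddCommGroup X'] [Module L' X'] (σ : L' →+* L) (hσ : Function.Surjective σ)
    (e : X' ≃+ X) (he : ∀ (r : L') (x : X'), e (r • x) = σ r • e x) (J' : Ideal L') (J : Ideal L)
    (hJ : J'.map σ = J) :
    dd L' (X' ⧸ (J' • ⊤ : Submodule L' X')) = dd L (X ⧸ (J • ⊤ : Submodule L X)) :=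
  (semi_quot σ hσ e he J' J hJ).dd_eq

theorem cod_quot_congr {L L' : Type u} [CommRing L] [IsLocalRing L] [CommRing L'] [IsLocalRing L'] {X X' : Type u}
    [AddCommGroup X] [Module L X] [AddCommGroup X'] [Module L' X'] (σ : L' →+* L) (hσ : Function.Surjective σ)
    (e : X' ≃+ X) (he : ∀ (r : L') (x : X'), e (r • x) = σ r • e x) (J' : Ideal L') (J : Ideal L)
    (hJ : J'.map σ = J) (k : ℕ) :
    Cod L' (X' ⧸ (J' • ⊤ : Submodule L' X')) k ↔ Cod L (X ⧸ (J • ⊤ : Submodule L X)) k :=
  cod_iff_of_dd_eq (dd_quot_congr σ hσ e he J' J hJ) k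

variable {A B : Type u} [CommRing A] [CommRing B] [Algebra A B]

/-- The codepth of the fibre of `M` at `q` is at most `k`. -/
def FibCod (A : Type u) {B : Type u} [CommRing A] [CommRing B] [Algebra A B] (M : Type u) [AddCommGroup M]
    [Module B M] (k : ℕ) (q : Ideal B) [q.IsPrime] : Prop :=
  Cod (Localization.AtPrime q) (EGA4.FibLocMod A B q M) k

theorem semi_fibLocRing (M : Type u) [AddCommGroup M] [Module B M] (q : Ideal B) [q.IsPrime] :
    Semi (Localization.AtPrime q) (EGA4.FibLocMod A B q M)
      (EGA4.FibLocRing A B q) (EGA4.FibLocRing A B q ⊗[B] M) := by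
  let L := Localization.AtPrime q
  let J : Ideal L := (q.comap (algebraMap A B)).map (algebraMap A L)
  let O := EGA4.FibLocRing A B q
  let eL := LocalizedModule.equivTensorProduct q.primeCompl M
  let e : O ⊗[B] M ≃ₗ[L] EGA4.FibLocMod A B q M :=
    ((AlgebraTensorModule.cancelBaseChange B L O O M).symm.restrictScalars L) ≪≫ₗ
      (TensorProduct.congr (LinearEquiv.refl L O) eL.symm) ≪≫ₗ TensorProduct.quotTensorEquivQuotSMul _ J
  refine ⟨Ideal.Quotient.mk J, Ideal.Quotient.mk_surjective, e.symm.toAddEquiv, fun r x => ?_⟩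
  show e.symm (r • x) = (algebraMap L O r) • e.symm x
  rw [map_smul, algebraMap_smul]

theorem dd_fibLocRing (M : Type u) [AddCommGroup M] [Module B M] (q : Ideal B) [q.IsPrime]
    [IsLocalRing (EGA4.FibLocRing A B q)] :
    dd (Localization.AtPrime q) (EGA4.FibLocMod A B q M) =
      dd (EGA4.FibLocRing A B q) (EGA4.FibLocRing A B q ⊗[B] M) :=
  (semi_fibLocRing M q).dd_eq

theorem cod_fibLocRing_iff (M : Type u) [AddCommGroup M] [Module B M] (q : Ideal B) [q.IsPrime]
    [IsLocalRing (EGA4.FibLocRing A B q)] (k : ℕ) :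
    Cod (EGA4.FibLocRing A B q) (EGA4.FibLocRing A B q ⊗[B] M) k ↔ FibCod A M k q :=
  (cod_iff_of_dd_eq (dd_fibLocRing M q) k).symm

/-- The fibre module is unchanged along a surjection. -/
theorem semi_surjective {P : Type u} [CommRing P] [Algebra A P] [Algebra P B] [IsScalarTower A P B]
    (hf : Function.Surjective (algebraMap P B)) (M : Type u) [AddCommGroup M] [Module B M] [Module P M]
    [IsScalarTower P B M] (q : PrimeSpectrum B) :
    Semi (Localization.AtPrime (q.asIdeal.comap (algebraMap P B)))
        (EGA4.FibLocMod A P (q.asIdeal.comap (algebraMap P B)) M)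
      (Localization.AtPrime q.asIdeal) (EGA4.FibLocMod A B q.asIdeal M) := by
  let q' := q.asIdeal.comap (algebraMap P B)
  have := LC.isLocalizedModule_comap (M := M) hf q.asIdeal
  let g := (LocalizedModule.mkLinearMap q.asIdeal.primeCompl M).restrictScalars P
  let e := IsLocalizedModule.iso q'.primeCompl g
  let σ := Localization.localRingHom q' q.asIdeal (algebraMap P B) rfl
  refine (semi_quot σ (RingHom.surjective_localRingHom_of_surjective (algebraMap P B) hf q.asIdeal)
    e.toAddEquiv (fun z x => ?_) _ _ ?_)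
  · obtain ⟨⟨a, t⟩, hat⟩ := IsLocalization.surj q'.primeCompl z
    have hu : IsUnit (algebraMap B (Localization.AtPrime q.asIdeal) (algebraMap P B (t : P))) :=
      IsLocalization.map_units (Localization.AtPrime q.asIdeal)
        (⟨algebraMap P B t, t.2⟩ : q.asIdeal.primeCompl)
    refine hu.smul_left_cancel.1 ?_
    have h1 : algebraMap B (Localization.AtPrime q.asIdeal) (algebraMap P B (t : P)) * σ z =
        algebraMap B (Localization.AtPrime q.asIdeal) (algebraMap P B a) := by
      rw [← Localization.localRingHom_to_map q' q.asIdeal (algebraMap P B) rfl a,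
        ← Localization.localRingHom_to_map q' q.asIdeal (algebraMap P B) rfl (t : P), ← map_mul, mul_comm _ z, hat]
    have h2 : (t : P) • z • x = a • x := by
      rw [← algebraMap_smul (Localization.AtPrime q') (t : P) (z • x), smul_smul, mul_comm]
      exact (congrArg (fun c => c • x) hat).trans (algebraMap_smul _ a x)
    rw [smul_smul, h1, algebraMap_smul, algebraMap_smul, algebraMap_smul, algebraMap_smul]
    show (t : P) • e (z • x) = a • e x
    rw [← map_smul, h2, map_smul]
  · rw [Ideal.map_map]
    have hcomp : σ.comp (algebraMap A (Localization.AtPrime q')) = algebraMap A (Localization.AtPrime q.asIdeal) :=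
      RingHom.ext fun a => by
        rw [RingHom.comp_apply, IsScalarTower.algebraMap_apply A P (Localization.AtPrime q'),
          Localization.localRingHom_to_map, ← IsScalarTower.algebraMap_apply A P B,
          ← IsScalarTower.algebraMap_apply A B]
    rw [hcomp]
    exact congrArg (Ideal.map _) (by
      show (q.asIdeal.comap (algebraMap P B)).comap (algebraMap A P) = _
      rw [Ideal.comap_comap, ← IsScalarTower.algebraMap_eq])


/-- The fibre invariants are unchanged along a surjection. -/
theorem dd_surjective {P : Type u} [CommRing P] [Algebra A P] [Algebra P B] [IsScalarTower A P B]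
    (hf : Function.Surjective (algebraMap P B)) (M : Type u) [AddCommGroup M] [Module B M] [Module P M]
    [IsScalarTower P B M] (q : PrimeSpectrum B) :
    dd (Localization.AtPrime (q.asIdeal.comap (algebraMap P B)))
        (EGA4.FibLocMod A P (q.asIdeal.comap (algebraMap P B)) M) =
      dd (Localization.AtPrime q.asIdeal) (EGA4.FibLocMod A B q.asIdeal M) :=
  (semi_surjective hf M q).dd_eq

/-- Openness of the fibre codepth loci of a flat module. -/
theorem isOpen_fibCod [Algebra.FinitePresentation A B] (M : Type u) [AddCommGroup M] [Module B M] [Module A M]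
    [IsScalarTower A B M] [Module.FinitePresentation B M] [Module.Flat A M] (k : ℕ) :
    IsOpen {q : PrimeSpectrum B | FibCod A M k q.asIdeal} := by
  obtain ⟨n, f, hf, hker⟩ := Algebra.FinitePresentation.out (R := A) (A := B)
  let P := MvPolynomial (Fin n) A
  letI : Algebra P B := f.toRingHom.toAlgebra
  haveI : IsScalarTower A P B := IsScalarTower.of_algebraMap_eq fun a => (f.commutes a).symm
  letI : Module P M := Module.compHom M f.toRingHom
  haveI : IsScalarTower P B M := IsScalarTower.of_algebraMap_smul fun _ _ => rfl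
  haveI : IsScalarTower A P M := IsScalarTower.of_algebraMap_smul fun a m => by
    show f (algebraMap A P a) • m = a • m
    rw [f.commutes, algebraMap_smul]
  haveI : Module.FinitePresentation P B :=
    Module.finitePresentation_of_surjective (Algebra.linearMap P B) hf (by
      rwa [show LinearMap.ker (Algebra.linearMap P B) = RingHom.ker f.toRingHom from Submodule.ext fun _ => Iff.rfl])
  haveI := Module.FinitePresentation.trans P M B
  convert (isOpen_codepth M k).preimage (PrimeSpectrum.continuous_comap (algebraMap P B)) using 1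
  ext q
  haveI := FlatLoc6.isLocalRing_fibLocRing (A := A) (q.asIdeal.comap (algebraMap P B))
  refine Iff.trans ?_ (cod_fibLocRing_iff M (q.asIdeal.comap (algebraMap P B)) k).symm
  exact (cod_iff_of_dd_eq (dd_surjective hf M q) k).symm

end Groth.Agent.Codepth5
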