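import Groth.Agent.Codepth5.Scheme
import Groth.Agent.CMOpen5.Open
import Groth.Agent.QCoh.FT
import Groth.Agent.QCoh.Support

/-!
# The fibre codepth loci are open
-/

set_option autoImplicit false
set_option linter.style.haveILetI false
set_option backward.isDefEq.respectTransparency false
set_option backward.isDefEq.respectTransparency.types false

universe u

open AlgebraicGeometry CategoryTheory IsLocalRing

namespace Groth.Agent.Codepth5

variable {X Y : Scheme.{u}} (f : X ⟶ Y) [LocallyOfFinitePresentation f]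

/-- The locus of fibre codepth at most `k` of a flat finitely presented module is open. -/
theorem isOpen_cod_module (F : X.Modules) (hF : CohB1.IsFP F) (hflat : FlatMod.IsFlatOver f F) (k : ℕ) :
    IsOpen {x : X | Cod ((f.fiber (f.base x)).presheaf.stalk (f.asFiber x))
      (((Scheme.Modules.pullback (f.fiberι (f.base x))).obj F).presheaf.stalk (f.asFiber x)) k} := by
  have hM := QCoh.isQCoh_of_isFP hF
  rw [isOpen_iff_forall_mem_open]
  intro x hx
  obtain ⟨V, hV, hxV, -⟩ := exists_isAffineOpen_mem_and_subset (U := (⊤ : Y.Opens)) (x := f x) trivial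
  obtain ⟨U, hU, hxU, hUV⟩ := exists_isAffineOpen_mem_and_subset (U := f ⁻¹ᵁ V) (x := x) hxV
  letI : Algebra Γ(Y, V) Γ(X, U) := (f.appLE V U hUV).hom.toAlgebra
  haveI : Algebra.FinitePresentation Γ(Y, V) Γ(X, U) := f.finitePresentation_appLE hV hU hUV
  letI : Module Γ(Y, V) Γ(F, U) := Module.compHom _ (f.appLE V U hUV).hom
  haveI : IsScalarTower Γ(Y, V) Γ(X, U) Γ(F, U) := IsScalarTower.of_algebraMap_smul fun _ _ => rfl
  haveI := QCoh.finitePresentation_of_isFP hF hU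
  haveI : Module.Flat Γ(Y, V) Γ(F, U) := (QCoh.flat_appLE_iff f hM hU hV hUV).2 fun z _ => hflat z
  have key : ∀ z (hz : z ∈ U), Cod ((f.fiber (f.base z)).presheaf.stalk (f.asFiber z))
      (((Scheme.Modules.pullback (f.fiberι (f.base z))).obj F).presheaf.stalk (f.asFiber z)) k ↔
        FibCod Γ(Y, V) Γ(F, U) k (hU.primeIdealOf ⟨z, hz⟩).asIdeal := fun z hz => by
    letI := QCoh.stalkModule F hz
    haveI := QCoh.isLocalizedModule_germLin hM hU hz
    exact (fibre_cod_iff f F z _ _ (f.fiberι_asFiber z) k).trans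
      (cod_chart_iff f hU hV hUV hz (fun _ _ => rfl) (QCoh.germLin F hz) k)
  refine ⟨hU.fromSpec '' {q | FibCod Γ(Y, V) Γ(F, U) k q.asIdeal}, ?_,
    hU.fromSpec.isOpenEmbedding.isOpenMap _ (isOpen_fibCod Γ(F, U) k), ?_⟩
  · rintro _ ⟨q, hq, rfl⟩
    have hz : hU.fromSpec q ∈ U := (Set.ext_iff.1 hU.range_fromSpec _).1 (Set.mem_range_self q)
    refine (key _ hz).2 ?_
    have he : hU.primeIdealOf ⟨hU.fromSpec q, hz⟩ = q :=
      hU.fromSpec.isOpenEmbedding.injective (hU.fromSpec_primeIdealOf ⟨_, hz⟩)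
    exact he.symm ▸ hq
  · exact ⟨hU.primeIdealOf ⟨x, hxU⟩, (key x hxU).1 hx, hU.fromSpec_primeIdealOf ⟨x, hxU⟩⟩

/-- The locus of flatness and fibre codepth at most `k` is open. -/
theorem isOpen_cod_self (k : ℕ) : IsOpen {x : X | (f.stalkMap x).hom.Flat ∧
    Cod ((f.fiber (f.base x)).presheaf.stalk (f.asFiber x)) ((f.fiber (f.base x)).presheaf.stalk (f.asFiber x)) k} := by
  rw [isOpen_iff_forall_mem_open]
  intro x hx
  obtain ⟨V, hV, hxV, -⟩ := exists_isAffineOpen_mem_and_subset (U := (⊤ : Y.Opens)) (x := f x) trivial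
  let W : X.Opens := ⟨{z | (f.stalkMap z).hom.Flat}, FlatLocus.isOpen_flat_locus f⟩
  obtain ⟨U, hU, hxU, hUW⟩ := exists_isAffineOpen_mem_and_subset (U := W ⊓ f ⁻¹ᵁ V) (x := x) ⟨hx.1, hxV⟩
  have hUV : U ≤ f ⁻¹ᵁ V := fun z hz => (hUW hz).2
  letI : Algebra Γ(Y, V) Γ(X, U) := (f.appLE V U hUV).hom.toAlgebra
  haveI : Algebra.FinitePresentation Γ(Y, V) Γ(X, U) := f.finitePresentation_appLE hV hU hUV
  haveI : Module.Flat Γ(Y, V) Γ(X, U) := CMOpen5.flat_of_flat_stalks f hV hU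
    (hV.SpecMap_appLE_fromSpec f hU hUV).symm fun z hz => (hUW hz).1
  have key : ∀ z (hz : z ∈ U),
      Cod ((f.fiber (f.base z)).presheaf.stalk (f.asFiber z)) ((f.fiber (f.base z)).presheaf.stalk (f.asFiber z)) k ↔
        FibCod Γ(Y, V) Γ(X, U) k (hU.primeIdealOf ⟨z, hz⟩).asIdeal := fun z hz => by
    letI := QCoh.stalkAlg (X := X) hz
    haveI := QCoh.isLocalization_stalk' hU hz
    haveI : IsLocalizedModule (hU.primeIdealOf ⟨z, hz⟩).asIdeal.primeCompl
        (Algebra.linearMap Γ(X, U) (X.presheaf.stalk z)) := inferInstance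
    exact (fibre_cod_self_iff f z _ _ (f.fiberι_asFiber z) k).trans
      (cod_chart_iff f hU hV hUV hz (fun _ _ => rfl) (Algebra.linearMap Γ(X, U) (X.presheaf.stalk z)) k)
  refine ⟨hU.fromSpec '' {q | FibCod Γ(Y, V) Γ(X, U) k q.asIdeal}, ?_,
    hU.fromSpec.isOpenEmbedding.isOpenMap _ (isOpen_fibCod Γ(X, U) k), ?_⟩
  · rintro _ ⟨q, hq, rfl⟩
    have hz : hU.fromSpec q ∈ U := (Set.ext_iff.1 hU.range_fromSpec _).1 (Set.mem_range_self q)
    refine ⟨(hUW hz).1, (key _ hz).2 ?_⟩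
    have he : hU.primeIdealOf ⟨hU.fromSpec q, hz⟩ = q :=
      hU.fromSpec.isOpenEmbedding.injective (hU.fromSpec_primeIdealOf ⟨_, hz⟩)
    exact he.symm ▸ hq
  · exact ⟨hU.primeIdealOf ⟨x, hxU⟩, (key x hxU).1 hx.2, hU.fromSpec_primeIdealOf ⟨x, hxU⟩⟩

end Groth.Agent.Codepth5
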