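import Groth.Agent.Codepth5.GeomNormal
import Groth.Agent.Codepth5.AssScheme

/-!
# Openness of the geometric condition (R_k) for flat morphisms
-/

set_option autoImplicit false
set_option linter.style.haveILetI false
set_option backward.isDefEq.respectTransparency false
set_option backward.isDefEq.respectTransparency.types false

universe u

open TensorProduct Topology AlgebraicGeometry CategoryTheory Limits

namespace Groth.Agent.Codepth5

open FibDim (fib)

section Algebra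

variable (A : Type u) {B : Type u} [CommRing A] [CommRing B] [Algebra A B]

omit [CommRing A] [CommRing B] [Algebra A B] in
theorem smul_mk {R : Type u} [CommRing R] (I : Ideal R) (r : R) (y : R ⧸ I) :
    r • y = Ideal.Quotient.mk I r • y := by
  obtain ⟨z, rfl⟩ := Ideal.Quotient.mk_surjective y
  rfl

/-- The local ring of the fibre as a quotient module. -/
theorem semi_self (q : Ideal B) [q.IsPrime] :
    Semi (Localization.AtPrime q) (EGA4.FibLocMod A B q B)
      (EGA4.FibLocRing A B q) (EGA4.FibLocRing A B q) := by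
  let E := LC.selfLoc (R := B) q.primeCompl
  let I : Ideal (Localization.AtPrime q) := (q.comap (algebraMap A B)).map (algebraMap A (Localization.AtPrime q))
  have hI : Submodule.map E.toLinearMap (I • (⊤ : Submodule (Localization.AtPrime q) (LocalizedModule q.primeCompl B))) = I := by
    rw [Submodule.map_smul'', Submodule.map_top, LinearEquiv.range, smul_eq_mul, ← Ideal.one_eq_top, mul_one]
  exact ⟨Ideal.Quotient.mk I, Ideal.Quotient.mk_surjective, (Submodule.Quotient.equiv _ I E hI).toAddEquiv,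
    fun r x => ((Submodule.Quotient.equiv _ I E hI).map_smul r x).trans (smul_mk I r _)⟩

theorem isEquidimModule_self_iff (R : Type u) [CommRing R] :
    EGA4.IsEquidimModule R R ↔ EGA4.IsEquidim R := by
  have h : Module.annihilator R R = ⊥ := by
    rw [Module.annihilator_eq_bot]
    infer_instance
  unfold EGA4.IsEquidimModule EGA4.IsEquidim
  rw [h, Module.supportDim_self_eq_ringKrullDim]

theorem noEmb_ring_iff_hasSk (R : Type u) [CommRing R] [IsNoetherianRing R] :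
    (∀ p ∈ associatedPrimes R R, p ∈ minimalPrimes R) ↔ LocCoh.HasSk 1 R R := by
  constructor
  · intro h
    rw [FlatLoc6.hasSk_self_iff]
    intro p _
    by_cases hp : p ∈ associatedPrimes R R
    · have h0 : p.height = 0 := Ideal.height_eq_zero_iff.2 (h p hp)
      rw [h0]
      exact le_trans (min_le_right _ _) bot_le
    · rw [← FlatLoc6.depth_self_atPrime]
      refine le_trans (min_le_left _ _) ?_
      rw [Nat.cast_one]
      exact (Alg6.one_le_depth_atPrime_iff (M := R) p).2 hp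
  · intro h p hp
    haveI := hp.1
    exact Ideal.height_eq_zero_iff.1 (FlatLoc6.height_eq_zero_of_mem_ass h hp)

end Algebra

variable {X Y : Scheme.{u}} (f : X ⟶ Y) [LocallyOfFinitePresentation f]

omit [LocallyOfFinitePresentation f] in
/-- The dimension of the trace of a closed set is upper semicontinuous. -/
theorem isOpen_dimSetLTAt [LocallyOfFiniteType f] (E : Set X) (hE : IsClosed E) (m : ℕ) :
    IsOpen {x : X | DimSetLTAt f E m x} := by
  refine isOpen_iff_forall_mem_open.2 fun x hx => ?_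
  by_cases hxE : x ∈ E
  swap
  · exact ⟨Eᶜ, fun z hz w hw _ hwE => absurd (hw.mem_closed hE hwE) hz, hE.isOpen_compl, hxE⟩
  obtain ⟨n, rfl⟩ : ∃ n, m = n + 1 := ⟨m - 1, by have := hx x specializes_rfl rfl hxE; omega⟩
  haveI : IsLocallyNoetherian (f.fiber (f x)) :=
    LocallyOfFiniteType.isLocallyNoetherian (f.fiberToSpecResidueField (f x))
  obtain ⟨W, hxW, hW⟩ := FibDim.exists_nhd_generizing (X := f.fiber (f x)) (hE.preimage (f.fiberι (f x)).continuous) (f.asFiber x)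
  obtain ⟨W', hW', hWW'⟩ := (f.fiberι (f x)).isEmbedding.isInducing.isOpen_iff.mp W.isOpen
  have hxW' : x ∈ W' := by
    have : f.asFiber x ∈ (f.fiberι (f x)) ⁻¹' W' := hWW'.symm ▸ hxW
    simpa [Scheme.Hom.fiberι_asFiber] using this
  have hdim : topologicalKrullDim ↥(W' ∩ E ∩ f ⁻¹' {f x}) ≤ n := by
    refine (FibDim.dim_inter_le_iff f _ hW' hE _).2 fun w h1 h2 h3 => ?_
    obtain ⟨w', rfl⟩ : w ∈ Set.range (f.fiberι (f x)) := by rw [Scheme.Hom.range_fiberι]; exact h3
    obtain ⟨η, hηE, hηx, hηw⟩ := hW w' (hWW'.le h1) h2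
    have hfη : f (f.fiberι (f x) η) = f x := by
      have : f.fiberι (f x) η ∈ Set.range (f.fiberι (f x)) := ⟨η, rfl⟩
      rw [Scheme.Hom.range_fiberι] at this
      exact this
    refine le_trans (FibDim.rd_le_of_specializes f (hηw.map (f.fiberι (f x)).continuous)
      (hfη.trans h3.symm)) (Nat.le_of_lt_succ (hx _ ?_ hfη hηE))
    have := hηx.map (f.fiberι (f x)).continuous
    rwa [Scheme.Hom.fiberι_asFiber] at this
  obtain ⟨U, hU, hxU, -, hUb⟩ := FibDim.exists_open_dim_le f hW' hE hxW' hxE n hdim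
  exact ⟨U, fun z hz w hw _ hwE => Nat.lt_succ_of_le
    ((FibDim.dim_inter_le_iff f _ hU hE _).1 (hUb (f w)) w (hw.mem_open hU hz) hwE rfl), hU, hxU⟩

/-- The points where the fibre is equidimensional and has no embedded associated cycle. -/
def EquiNoEmb (x : X) : Prop :=
  EGA4.IsEquidim ↑((f.fiber (f.base x)).presheaf.stalk (f.asFiber x)) ∧
    (∀ p ∈ associatedPrimes ↑((f.fiber (f.base x)).presheaf.stalk (f.asFiber x))
      ↑((f.fiber (f.base x)).presheaf.stalk (f.asFiber x)),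
      p ∈ minimalPrimes ↑((f.fiber (f.base x)).presheaf.stalk (f.asFiber x)))

section Chart

variable {U : X.Opens} (hU : IsAffineOpen U) {V : Y.Opens} (hV : IsAffineOpen V) (hle : U ≤ f ⁻¹ᵁ V)

include hV in
theorem equiNoEmb_iff {x : X} (hx : x ∈ U)
    (hflat : letI := (f.appLE V U hle).hom.toAlgebra
      Module.Flat Γ(Y, V) Γ(X, U)) :
    letI := (f.appLE V U hle).hom.toAlgebra
    EquiNoEmb f x ↔ SkGen Γ(Y, V) Γ(X, U) 1 (hU.primeIdealOf ⟨x, hx⟩) ∧
      ∃ n, AssDims Γ(Y, V) Γ(X, U) {n} (hU.primeIdealOf ⟨x, hx⟩) := by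
  letI : Algebra Γ(Y, V) Γ(X, U) := (f.appLE V U hle).hom.toAlgebra
  haveI : Algebra.FinitePresentation Γ(Y, V) Γ(X, U) := f.finitePresentation_appLE hV hU hle
  haveI : Module.Flat Γ(Y, V) Γ(X, U) := hflat
  obtain ⟨e⟩ := exists_fibre_stalk_equiv f hU hV hle hx
  haveI : IsLocallyNoetherian (f.fiber (f.base x)) :=
    LocallyOfFiniteType.isLocallyNoetherian (f.fiberToSpecResidueField (f.base x))
  haveI := isNoetherianRing_of_ringEquiv _ e.symm
  rw [EquiNoEmb, noEmb_ring_iff_hasSk,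
    show EGA4.IsEquidim ↑((f.fiber (f.base x)).presheaf.stalk (f.asFiber x)) ↔
      EGA4.IsEquidim (EGA4.FibLocRing Γ(Y, V) Γ(X, U) (hU.primeIdealOf ⟨x, hx⟩).asIdeal) from
      ⟨fun h => FormCat.isEquidim_of_ringEquiv e.symm h, fun h => FormCat.isEquidim_of_ringEquiv e h⟩,
    show LocCoh.HasSk 1 _ _ ↔ LocCoh.HasSk 1 (EGA4.FibLocRing Γ(Y, V) Γ(X, U) (hU.primeIdealOf ⟨x, hx⟩).asIdeal)
      (EGA4.FibLocRing Γ(Y, V) Γ(X, U) (hU.primeIdealOf ⟨x, hx⟩).asIdeal) from
      ⟨FlatLoc6.hasSk_of_ringEquiv e.symm 1, FlatLoc6.hasSk_of_ringEquiv e 1⟩,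
    hasSk_fibLocRing_iff, ← isEquidimModule_self_iff, ← (semi_self Γ(Y, V) _).isEquidimModule_iff]
  exact ⟨fun h => ⟨h.2, (equidim_iff Γ(X, U) _ h.2).1 h.1⟩, fun h => ⟨(equidim_iff Γ(X, U) _ h.1).2 h.2, h.1⟩⟩

include hV in
/-- Where the fibre dimensions of the associated points are all `n`, so is the fibre dimension. -/
theorem add_eq_of_assDims {x : X} (hx : x ∈ U) (n : ℕ)
    (hflat : letI := (f.appLE V U hle).hom.toAlgebra
      Module.Flat Γ(Y, V) Γ(X, U))
    (h : letI := (f.appLE V U hle).hom.toAlgebra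
      AssDims Γ(Y, V) Γ(X, U) {n} (hU.primeIdealOf ⟨x, hx⟩)) :
    FibDim.rd f x + DimFormula.fb f x = n := by
  letI : Algebra Γ(Y, V) Γ(X, U) := (f.appLE V U hle).hom.toAlgebra
  haveI : Algebra.FinitePresentation Γ(Y, V) Γ(X, U) := f.finitePresentation_appLE hV hU hle
  haveI : Module.Flat Γ(Y, V) Γ(X, U) := hflat
  obtain ⟨w, hwx, hfw, hmax, hdim⟩ := FibDim.exists_fibMax_generization f x
  have hw : w ∈ U := hwx.mem_open U.isOpen hx
  have hsupp : hU.primeIdealOf ⟨w, hw⟩ ∈ Module.support Γ(X, U) Γ(X, U) := by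
    rw [Module.mem_support_iff']
    exact ⟨1, fun r hr h0 => hr (by rw [smul_eq_mul, mul_one] at h0; rw [h0]; exact Ideal.zero_mem _)⟩
  obtain ⟨t', ht', hcomap, hta⟩ := exists_assAt_le' (A := Γ(Y, V)) Γ(X, U) _ hsupp
  obtain ⟨a, ha, hat⟩ := QCoh.exists_point hU t'
  subst hat
  obtain rfl : a = w := hmax a ((primeIdealOf_le_iff hU ha hw).1 ht') ((comap_eq_iff f hU hV hle ha hw).1 hcomap)
  let t : ↥(fib (B := Γ(X, U)) (PrimeSpectrum.comap (algebraMap Γ(Y, V) Γ(X, U)) (hU.primeIdealOf ⟨x, hx⟩))) :=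
    ⟨hU.primeIdealOf ⟨a, hw⟩, (comap_eq_iff f hU hV hle hw hx).2 hfw⟩
  obtain ⟨m, hm, hc⟩ := h t ((primeIdealOf_le_iff hU hw hx).2 hwx) hta
  obtain rfl : m = n := hm
  have hrd := coheight_eq_rd f hU hV hle (hU.primeIdealOf ⟨a, hw⟩)
  rw [hU.fromSpec_primeIdealOf ⟨a, hw⟩] at hrd
  rw [coheight_congr_fib t.2.symm t ⟨hU.primeIdealOf ⟨a, hw⟩, rfl⟩ rfl, hrd] at hc
  rw [DimFormula.fibreDimAt_eq_add, hc] at hdim
  exact_mod_cast hdim

end Chart

theorem smFib_iff_of_flat (z : X) (hz : (f.stalkMap z).hom.Flat) :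
    FibreLoc5.SmFib f z ↔ z ∈ f.smoothLocus := by
  haveI := FibreLoc5.lfp_fibre f (f z)
  rw [S2156.result f z]
  exact ⟨fun h => ⟨hz, h⟩, fun h => h.2⟩

/-- Openness of the geometric condition (R_k) on the equidimensional fibres without embedded cycles. -/
theorem isOpen_rkCond (k : ℕ) :
    IsOpen {x : X | (f.stalkMap x).hom.Flat ∧ RkCond f k x ∧ EquiNoEmb f x} := by
  refine isOpen_iff_forall_mem_open.2 fun x hx => ?_
  obtain ⟨V, hV, hxV, -⟩ := exists_isAffineOpen_mem_and_subset (U := (⊤ : Y.Opens)) (x := f x) trivial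
  let W : X.Opens := ⟨{z | (f.stalkMap z).hom.Flat}, FlatLocus.isOpen_flat_locus f⟩
  obtain ⟨U, hU, hxU, hUW⟩ := exists_isAffineOpen_mem_and_subset (U := W ⊓ f ⁻¹ᵁ V) (x := x) ⟨hx.1, hxV⟩
  have hle : U ≤ f ⁻¹ᵁ V := fun z hz => (hUW hz).2
  letI : Algebra Γ(Y, V) Γ(X, U) := (f.appLE V U hle).hom.toAlgebra
  haveI : Algebra.FinitePresentation Γ(Y, V) Γ(X, U) := f.finitePresentation_appLE hV hU hle
  haveI hflat : Module.Flat Γ(Y, V) Γ(X, U) := CMOpen5.flat_of_flat_stalks f hV hU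
    (hV.SpecMap_appLE_fromSpec f hU hle).symm fun z hz => (hUW hz).1
  obtain ⟨h1, n, hn⟩ := (equiNoEmb_iff f hU hV hle hxU hflat).1 hx.2.2
  let O : Set (PrimeSpectrum Γ(X, U)) :=
    {q | SkGen Γ(Y, V) Γ(X, U) 1 q} ∩ {q | AssDims Γ(Y, V) Γ(X, U) {n} q}
  have hO : IsOpen (hU.fromSpec '' O) := hU.fromSpec.isOpenEmbedding.isOpenMap _
    ((isOpen_skGen_affine Γ(X, U) 1).inter (isOpen_assDims Γ(X, U) {n}))
  have hmemO : ∀ z (hz : z ∈ U), z ∈ hU.fromSpec '' O ↔ hU.primeIdealOf ⟨z, hz⟩ ∈ O := by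
    intro z hz
    constructor
    · rintro ⟨q, hq, rfl⟩
      rwa [show hU.primeIdealOf ⟨hU.fromSpec q, hz⟩ = q from
        hU.fromSpec.isOpenEmbedding.injective (hU.fromSpec_primeIdealOf ⟨_, hz⟩)]
    · exact fun h => ⟨_, h, hU.fromSpec_primeIdealOf ⟨z, hz⟩⟩
  have hsub : ∀ z, z ∈ hU.fromSpec '' O → z ∈ U := fun z ⟨q, _, hq⟩ =>
    hq ▸ (Set.ext_iff.1 hU.range_fromSpec _).1 (Set.mem_range_self q)
  have key : ∀ z ∈ hU.fromSpec '' O, (RkCond f k z ↔
      DimSetLTAt f ((f.smoothLocus : Set X)ᶜ) (n - k) z) := by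
    intro z hz
    have hgen : ∀ w, w ⤳ z → (FibreLoc5.SmFib f w ↔ w ∈ f.smoothLocus) ∧
        FibDim.rd f w + DimFormula.fb f w = n := fun w hw => by
      have hwO := hw.mem_open hO hz
      have hwU := hsub w hwO
      exact ⟨smFib_iff_of_flat f w (hUW hwU).1,
        add_eq_of_assDims f hU hV hle hwU n hflat ((hmemO w hwU).1 hwO).2⟩
    constructor
    · intro h w hw hfw hwS
      have h' : ¬ DimFormula.fb f w ≤ k := fun hk => hwS ((hgen w hw).1.1 (h w hw hfw hk))
      have := (hgen w hw).2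
      omega
    · intro h w hw hfw hk
      by_contra hs
      have := h w hw hfw fun hc => hs ((hgen w hw).1.2 hc)
      have := (hgen w hw).2
      omega
  refine ⟨hU.fromSpec '' O ∩ {z | DimSetLTAt f ((f.smoothLocus : Set X)ᶜ) (n - k) z}, ?_,
    hO.inter (isOpen_dimSetLTAt f _ f.smoothLocus.isOpen.isClosed_compl _), (hmemO x hxU).2 ⟨h1, hn⟩, ?_⟩
  · rintro z ⟨hz, hd⟩
    exact ⟨(hUW (hsub z hz)).1, (key z hz).2 hd,
      (equiNoEmb_iff f hU hV hle (hsub z hz) hflat).2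
        ⟨((hmemO z (hsub z hz)).1 hz).1, n, ((hmemO z (hsub z hz)).1 hz).2⟩⟩
  · exact (key x ((hmemO x hxU).2 ⟨h1, hn⟩)).1 hx.2.1

/-- A domain local ring of a fibre with (S_1) is equidimensional without embedded primes. -/
theorem equiNoEmb_of_isDomain (x : X) [IsDomain ((f.fiber (f.base x)).presheaf.stalk (f.asFiber x))]
    (hS : LocCoh.HasSk 1 ((f.fiber (f.base x)).presheaf.stalk (f.asFiber x))
      ((f.fiber (f.base x)).presheaf.stalk (f.asFiber x))) : EquiNoEmb f x := by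
  haveI : IsLocallyNoetherian (f.fiber (f.base x)) :=
    LocallyOfFiniteType.isLocallyNoetherian (f.fiberToSpecResidueField (f.base x))
  refine ⟨fun p hp => ?_, (noEmb_ring_iff_hasSk _).2 hS⟩
  have : p = ⊥ := by simpa [minimalPrimes, Ideal.minimalPrimes_eq_subsingleton_self] using hp
  subst this
  exact ringKrullDim_eq_of_ringEquiv (RingEquiv.quotientBot _)

theorem equiNoEmb_of_normal (x : X) (hR : RkCond f 1 x) (hS : FibP (SkR 2) f x) : EquiNoEmb f x := by
  haveI := FibreLoc5.lfp_fibre f (f x)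
  haveI : IsLocallyNoetherian (f.fiber (f.base x)) :=
    LocallyOfFiniteType.isLocallyNoetherian (f.fiberToSpecResidueField (f.base x))
  rw [← f.fiberι_asFiber x, rkCond_fiberι_iff] at hR
  have hR1 : LocCoh.HasRk 1 ((f.fiber (f.base x)).presheaf.stalk (f.asFiber x)) :=
    (hasRk_stalk_iff _ 1).2 fun w hw hk =>
      SmoothReg.isRegularLocalRing_stalk_of_mem_smoothLocus (k := Y.residueField (f x)) _ (hR w hw hk)
  haveI := ((normal_iff_R1_S2 _).2 ⟨hR1, hS.2⟩).1
  exact equiNoEmb_of_isDomain f x (FlatLoc6.hasSk_one_of_two hS.2)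

/-- Openness of geometric normality of the fibres at the flat points. -/
theorem isOpen_normal :
    IsOpen {x : X | (f.stalkMap x).hom.Flat ∧ RkCond f 1 x ∧ FibP (SkR 2) f x} := by
  convert (isOpen_rkCond f 1).inter ((good_skR 2).isOpen f ‹_›) using 1
  ext x
  exact ⟨fun ⟨hf, hR, hS⟩ => ⟨⟨hf, hR, equiNoEmb_of_normal f x hR hS⟩, hf, hS⟩,
    fun ⟨⟨hf, hR, _⟩, _, hS⟩ => ⟨hf, hR, hS⟩⟩

end Groth.Agent.Codepth5
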