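import Groth.Agent.Codepth5.Local
import Groth.Agent.FibDim.Semicont
import Groth.Agent.FibDim.RingLoc
import Groth.Agent.CAlgOdd.LocalDimSpec
import Groth.Agent.FlatLoc6.FiberRing
import Groth.Agent.FlatLoc6.RegCM
import Groth.Agent.S6284

/-!
# Openness of the codepth loci of the fibres: modules over a polynomial ring
-/

set_option autoImplicit false
set_option linter.style.haveILetI false
set_option backward.isDefEq.respectTransparency false
set_option backward.isDefEq.respectTransparency.types false

universe u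

open AlgebraicGeometry CategoryTheory IsLocalRing TensorProduct Groth.Agent.RegLoc6

namespace Groth.Agent.Codepth5

open FibDim (fib)

/-- The dimension of a fibre at a point, by generizations in the fibre. -/
theorem fibreDimAt_le_iff_coheight {A B : Type u} [CommRing A] [CommRing B] [Algebra A B] [Algebra.FiniteType A B]
    (q : PrimeSpectrum B) (D : ℕ) :
    FlatMor.fibreDimAt (Spec.map (CommRingCat.ofHom (algebraMap A B))) q ≤ D ↔
      ∀ t : ↥(fib (B := B) (PrimeSpectrum.comap (algebraMap A B) q)), t.1 ≤ q → Order.coheight t ≤ D := by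
  let y := PrimeSpectrum.comap (algebraMap A B) q
  let e : ↥(fib (B := B) y) ≃o PrimeSpectrum (y.asIdeal.Fiber B) := PrimeSpectrum.preimageOrderIsoFiber A B y
  let k := y.asIdeal.ResidueField
  haveI : Algebra.FiniteType k (y.asIdeal.Fiber B) := inferInstance
  let Q := e ⟨q, rfl⟩
  have hQ : Q.asIdeal.comap Algebra.TensorProduct.includeRight.toRingHom = q.asIdeal :=
    congrArg (fun z => z.1.asIdeal) (e.symm_apply_apply ⟨q, rfl⟩)
  rw [← FibDim.localDim_fiber_eq_fibreDimAt q Q hQ]
  constructor
  · intro h t ht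
    have h1 : ((Order.coheight (e t) : ℕ∞) : WithBot ℕ∞) ≤ FlatMor.localDim (PrimeSpectrum (y.asIdeal.Fiber B)) Q :=
      CAlgOdd.LocalDimSpec.coheight_le_of_le k (e.monotone ht)
    rw [Order.coheight_orderIso] at h1
    exact_mod_cast h1.trans h
  · intro h
    obtain ⟨t, ht, he⟩ := CAlgOdd.LocalDimSpec.exists_coheight_eq k Q
    obtain ⟨t, rfl⟩ := e.surjective t
    refine he.le.trans ?_
    rw [Order.coheight_orderIso]
    exact_mod_cast h t (e.le_iff_le.1 ht)

section

variable {R B : Type u} [CommRing R] [CommRing B] [Algebra R B]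

theorem mem_fib_comap (q : PrimeSpectrum B) (P' : PrimeSpectrum (EGA4.FibLocRing R B q.asIdeal)) :
    PrimeSpectrum.comap (algebraMap B (EGA4.FibLocRing R B q.asIdeal)) P' ∈
        fib (B := B) (PrimeSpectrum.comap (algebraMap R B) q) ∧
      PrimeSpectrum.comap (algebraMap B (EGA4.FibLocRing R B q.asIdeal)) P' ≤ q := by
  haveI := FlatLoc6.isLocalRing_fibLocRing (A := R) q.asIdeal
  have hle : PrimeSpectrum.comap (algebraMap B (EGA4.FibLocRing R B q.asIdeal)) P' ≤ q := by
    intro b hb
    by_contra hbq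
    exact P'.2.ne_top (Ideal.eq_top_of_isUnit_mem _ hb
      ((IsLocalization.map_units (Localization.AtPrime q.asIdeal) (⟨b, hbq⟩ : q.asIdeal.primeCompl)).map
        (Ideal.Quotient.mk _)))
  refine ⟨PrimeSpectrum.ext (le_antisymm (fun a ha => hle ha) fun a ha => ?_), hle⟩
  show algebraMap B (EGA4.FibLocRing R B q.asIdeal) (algebraMap R B a) ∈ P'.asIdeal
  replace ha : a ∈ q.asIdeal.comap (algebraMap R B) := ha
  rw [IsScalarTower.algebraMap_apply B (Localization.AtPrime q.asIdeal),
    ← IsScalarTower.algebraMap_apply R B (Localization.AtPrime q.asIdeal), Ideal.Quotient.algebraMap_eq,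
    Ideal.Quotient.eq_zero_iff_mem.2 (Ideal.mem_map_of_mem _ ha)]
  exact zero_mem _

/-- The points of the local ring of a fibre, as points of the fibre. -/
noncomputable def toFib (q : PrimeSpectrum B) (P' : PrimeSpectrum (EGA4.FibLocRing R B q.asIdeal)) :
    ↥(fib (B := B) (PrimeSpectrum.comap (algebraMap R B) q)) :=
  ⟨_, (mem_fib_comap q P').1⟩

theorem exists_toFib_eq (q : PrimeSpectrum B) (t : ↥(fib (B := B) (PrimeSpectrum.comap (algebraMap R B) q)))
    (ht : t.1 ≤ q) : ∃ P', toFib q P' = t := by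
  let L := Localization.AtPrime q.asIdeal
  let I : Ideal L := (q.asIdeal.comap (algebraMap R B)).map (algebraMap R L)
  have hdisj : Disjoint (q.asIdeal.primeCompl : Set B) t.1.asIdeal :=
    Set.disjoint_left.mpr fun x hx hxt => hx (ht hxt)
  let tL : PrimeSpectrum L := ⟨t.1.asIdeal.map (algebraMap B L),
    IsLocalization.isPrime_of_isPrime_disjoint q.asIdeal.primeCompl L _ t.1.2 hdisj⟩
  have hI : I ≤ tL.asIdeal := by
    refine Ideal.map_le_iff_le_comap.2 fun a ha => ?_
    show algebraMap R L a ∈ tL.asIdeal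
    rw [IsScalarTower.algebraMap_apply R B L]
    refine Ideal.mem_map_of_mem _ ?_
    exact (congrArg PrimeSpectrum.asIdeal t.2).ge ha
  obtain ⟨P', hP'⟩ : tL ∈ Set.range (PrimeSpectrum.comap (R := L) (S := L ⧸ I) (Ideal.Quotient.mk I)) := by
    rw [_root_.range_comap_of_surjective _ _ Ideal.Quotient.mk_surjective, Ideal.mk_ker]
    exact hI
  refine ⟨P', Subtype.ext ?_⟩
  show PrimeSpectrum.comap ((Ideal.Quotient.mk I).comp (algebraMap B L)) P' = t.1
  rw [PrimeSpectrum.comap_comp_apply, hP']
  exact PrimeSpectrum.ext (IsLocalization.comap_map_of_isPrime_disjoint q.asIdeal.primeCompl L t.1.2 hdisj)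

theorem toFib_strictMono (q : PrimeSpectrum B) : StrictMono (toFib (R := R) q) := by
  have hinj : Function.Injective (toFib (R := R) q) := fun a b h => by
    have h' : PrimeSpectrum.comap ((Ideal.Quotient.mk _).comp (algebraMap B (Localization.AtPrime q.asIdeal))) a =
        PrimeSpectrum.comap ((Ideal.Quotient.mk _).comp (algebraMap B (Localization.AtPrime q.asIdeal))) b :=
      congrArg Subtype.val h
    rw [PrimeSpectrum.comap_comp_apply, PrimeSpectrum.comap_comp_apply] at h'
    exact PrimeSpectrum.comap_injective_of_surjective _ Ideal.Quotient.mk_surjective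
      (PrimeSpectrum.localization_comap_injective (Localization.AtPrime q.asIdeal) q.asIdeal.primeCompl h')
  exact Monotone.strictMono_of_injective (fun a b h => Ideal.comap_mono h) hinj

theorem height_toFib (q : PrimeSpectrum B) (P' : PrimeSpectrum (EGA4.FibLocRing R B q.asIdeal)) :
    Order.height (toFib (R := R) q P') = P'.asIdeal.height := by
  rw [PrimeSpectrum.height_eq_orderHeight]
  refine (Order.height_eq_of_strictMono _ (toFib_strictMono q) (fun a b hb => ?_) P').symm
  obtain ⟨a', ha'⟩ := exists_toFib_eq q b ((show b.1 ≤ (toFib q a).1 from hb.le).trans (mem_fib_comap q a).2)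
  refine ⟨a', ?_, ha'⟩
  rw [← ha'] at hb
  refine lt_of_le_not_ge (fun x hx => ?_) fun h => hb.not_ge ((toFib_strictMono q).monotone h)
  obtain ⟨x, rfl⟩ := Ideal.Quotient.mk_surjective x
  obtain ⟨c, s, rfl⟩ := IsLocalization.exists_mk'_eq q.asIdeal.primeCompl x
  have hu : IsUnit (algebraMap B (Localization.AtPrime q.asIdeal) s) := IsLocalization.map_units _ s
  have hspec : IsLocalization.mk' (Localization.AtPrime q.asIdeal) c s * algebraMap B _ (s : B) =
      algebraMap B _ c := IsLocalization.mk'_spec _ c s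
  have hu' := hu.map (Ideal.Quotient.mk
    ((q.asIdeal.comap (algebraMap R B)).map (algebraMap R (Localization.AtPrime q.asIdeal))))
  have hc : c ∈ (toFib q a').1.asIdeal := by
    show algebraMap B (EGA4.FibLocRing R B q.asIdeal) c ∈ a'.asIdeal
    rw [IsScalarTower.algebraMap_apply B (Localization.AtPrime q.asIdeal), ← hspec, Ideal.Quotient.algebraMap_eq,
      map_mul]
    exact Ideal.mul_mem_right _ _ hx
  have hc' : algebraMap B (EGA4.FibLocRing R B q.asIdeal) c ∈ a.asIdeal := hb.le hc
  rw [IsScalarTower.algebraMap_apply B (Localization.AtPrime q.asIdeal), ← hspec, Ideal.Quotient.algebraMap_eq,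
    map_mul, Ideal.mul_unit_mem_iff_mem _ hu'] at hc'
  exact hc'

end

variable {R : Type u} [CommRing R] {N : ℕ}


/-- In a fibre of affine space, height and coheight add up to the dimension. -/
theorem height_add_coheight_fib (y : PrimeSpectrum R) (t : ↥(fib (B := (MvPolynomial (Fin N) R)) y)) :
    Order.height t + Order.coheight t = N := by
  let e : ↥(fib (B := (MvPolynomial (Fin N) R)) y) ≃o PrimeSpectrum (y.asIdeal.Fiber (MvPolynomial (Fin N) R)) := PrimeSpectrum.preimageOrderIsoFiber R (MvPolynomial (Fin N) R) y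
  haveI : IsDomain (y.asIdeal.Fiber (MvPolynomial (Fin N) R)) :=
    (MvPolynomial.algebraTensorAlgEquiv R y.asIdeal.ResidueField).toMulEquiv.isDomain
  rw [← Order.height_orderIso e t, ← Order.coheight_orderIso e t]
  exact VarDim.height_add_coheight_eq (k := y.asIdeal.ResidueField) N (y.asIdeal.Fiber (MvPolynomial (Fin N) R))
    (FibDim.ringKrullDim_fiber_mvPolynomial N y) _

/-- The local rings of the fibres of affine space are regular. -/
theorem isRegularLocalRing_fibLocRing (q : PrimeSpectrum (MvPolynomial (Fin N) R)) :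
    IsRegularLocalRing (EGA4.FibLocRing R (MvPolynomial (Fin N) R) q.asIdeal) := by
  let p := q.asIdeal.comap (algebraMap R (MvPolynomial (Fin N) R))
  obtain ⟨Q, hQ⟩ := FlatLoc6.exists_fiber_prime p q.asIdeal rfl
  haveI : IsRegularRing (p.Fiber (MvPolynomial (Fin N) R)) := IsRegularRing.of_ringEquiv
    (MvPolynomial.algebraTensorAlgEquiv R p.ResidueField).toRingEquiv.symm
  have key : ∀ (q' : Ideal (MvPolynomial (Fin N) R)) [q'.IsPrime],
      Q.asIdeal.comap Algebra.TensorProduct.includeRight = q' →
        IsRegularLocalRing (EGA4.FibLocRing R (MvPolynomial (Fin N) R) q') := by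
    intro q' _ h
    subst h
    obtain ⟨e⟩ := FlatLoc6.exists_fibLocEquiv p Q.asIdeal
    haveI := FlatLoc6.isLocalRing_fibLocRing (A := R) (Q.asIdeal.comap
      (Algebra.TensorProduct.includeRight : (MvPolynomial (Fin N) R) →ₐ[R] p.Fiber (MvPolynomial (Fin N) R)))
    haveI := IsRegularRing.isRegularLocalRing_localization (R := p.Fiber (MvPolynomial (Fin N) R)) Q.asIdeal
    exact IsRegularLocalRing.of_ringEquiv (R := Localization.AtPrime Q.asIdeal) e
  exact key q.asIdeal hQ

variable (M : Type u) [AddCommGroup M] [Module (MvPolynomial (Fin N) R) M] [Module.Finite (MvPolynomial (Fin N) R) M]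

/-- The loci where the support in the fibre has codimension at least `e - n` are open. -/
theorem isOpen_codim (e n : ℕ) : IsOpen {q : PrimeSpectrum (MvPolynomial (Fin N) R) |
    ∀ t : ↥(fib (B := (MvPolynomial (Fin N) R)) (PrimeSpectrum.comap (algebraMap R (MvPolynomial (Fin N) R)) q)), t.1 ≤ q → t.1 ∈ Module.support (MvPolynomial (Fin N) R) M →
      (e : ℕ∞) ≤ Order.height t + n} := by
  by_cases hen : N + n < e
  · convert (Module.isClosed_support (R := (MvPolynomial (Fin N) R)) (M := M)).isOpen_compl using 1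
    ext q
    refine ⟨fun h hq => ?_, fun hq t ht htM => absurd (Module.mem_support_mono ht htM) hq⟩
    have h1 : Order.height (α := ↥(fib (B := (MvPolynomial (Fin N) R)) (PrimeSpectrum.comap (algebraMap R (MvPolynomial (Fin N) R)) q))) ⟨q, rfl⟩ + n ≤ ((N + n : ℕ) : ℕ∞) := by
      rw [Nat.cast_add, ← height_add_coheight_fib _ ⟨q, rfl⟩]
      exact add_le_add_left le_self_add _
    have h2 : e ≤ N + n := by exact_mod_cast (h ⟨q, rfl⟩ le_rfl hq).trans h1
    omega
  let J := Module.annihilator (MvPolynomial (Fin N) R) M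
  let D := N + n - e
  let ι := PrimeSpectrum.comap (Ideal.Quotient.mk J)
  have hι : Topology.IsClosedEmbedding ι :=
    PrimeSpectrum.isClosedEmbedding_comap_of_surjective _ _ Ideal.Quotient.mk_surjective
  have hrange : Set.range ι = Module.support (MvPolynomial (Fin N) R) M := by
    rw [_root_.range_comap_of_surjective _ _ Ideal.Quotient.mk_surjective, Ideal.mk_ker]
    exact (Module.support_eq_zeroLocus (R := (MvPolynomial (Fin N) R)) (M := M)).symm
  haveI : LocallyOfFiniteType (Spec.map (CommRingCat.ofHom (algebraMap R ((MvPolynomial (Fin N) R) ⧸ J)))) :=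
    HasRingHomProperty.Spec_iff.2 (RingHom.finiteType_algebraMap.2 inferInstance)
  convert (hι.isClosedMap _ (FibDim.isOpen_fibreDimAt_le
    (Spec.map (CommRingCat.ofHom (algebraMap R ((MvPolynomial (Fin N) R) ⧸ J)))) D).isClosed_compl).isOpen_compl using 1
  ext q
  by_cases hq : q ∈ Module.support (MvPolynomial (Fin N) R) M
  swap
  · refine iff_of_true (fun t ht htM => absurd (Module.mem_support_mono ht htM) hq) ?_
    rintro ⟨r, -, rfl⟩
    exact hq (hrange ▸ Set.mem_range_self r)
  obtain ⟨r, rfl⟩ : q ∈ Set.range ι := hrange ▸ hq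
  have hmem : ι r ∈ (ι '' {x | FlatMor.fibreDimAt (Spec.map (CommRingCat.ofHom (algebraMap R ((MvPolynomial (Fin N) R) ⧸ J)))) x ≤
      (D : WithBot ℕ∞)}ᶜ)ᶜ ↔
        FlatMor.fibreDimAt (Spec.map (CommRingCat.ofHom (algebraMap R ((MvPolynomial (Fin N) R) ⧸ J)))) r ≤ (D : WithBot ℕ∞) := by
    rw [Set.mem_compl_iff, hι.injective.mem_set_image, Set.mem_compl_iff, not_not]
    rfl
  refine Iff.trans ?_ hmem.symm
  rw [fibreDimAt_le_iff_coheight r D]
  have hy : ∀ t : PrimeSpectrum ((MvPolynomial (Fin N) R) ⧸ J), PrimeSpectrum.comap (algebraMap R (MvPolynomial (Fin N) R)) (ι t) =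
      PrimeSpectrum.comap (algebraMap R ((MvPolynomial (Fin N) R) ⧸ J)) t := fun _ => rfl
  let κ : ↥(fib (B := (MvPolynomial (Fin N) R) ⧸ J) (PrimeSpectrum.comap (algebraMap R ((MvPolynomial (Fin N) R) ⧸ J)) r)) →
      ↥(fib (B := (MvPolynomial (Fin N) R)) (PrimeSpectrum.comap (algebraMap R (MvPolynomial (Fin N) R)) (ι r))) := fun t =>
    ⟨ι t.1, ((hy t.1).trans t.2).trans (hy r).symm⟩
  have hle : ∀ a b, ι a ≤ ι b ↔ a ≤ b := fun a b => by
    rw [PrimeSpectrum.le_iff_specializes, PrimeSpectrum.le_iff_specializes]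
    exact hι.isInducing.specializes_iff
  have hκ : StrictMono κ := fun a b hab =>
    lt_of_le_not_ge ((hle _ _).2 hab.le) fun h => hab.not_ge ((hle _ _).1 h)
  have hsurj : ∀ t : ↥(fib (B := (MvPolynomial (Fin N) R)) (PrimeSpectrum.comap (algebraMap R (MvPolynomial (Fin N) R)) (ι r))),
      t.1 ∈ Module.support (MvPolynomial (Fin N) R) M → ∃ t', κ t' = t := fun t htM => by
    obtain ⟨u, hu⟩ : t.1 ∈ Set.range ι := hrange ▸ htM
    exact ⟨⟨u, ((hy u).symm.trans ((congrArg _ hu).trans t.2)).trans (hy r)⟩, Subtype.ext hu⟩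
  have hco : ∀ t', Order.coheight t' = Order.coheight (κ t') := fun t' =>
    Order.coheight_eq_of_strictMono κ hκ (fun a b hb => by
      obtain ⟨b', rfl⟩ := hsurj b (Module.mem_support_mono (show (κ a).1 ≤ b.1 from hb.le)
        (hrange ▸ Set.mem_range_self a.1))
      exact ⟨b', lt_of_le_not_ge ((hle _ _).1 hb.le) fun h => hb.not_ge ((hle _ _).2 h), rfl⟩) t'
  have key : ∀ h c : ℕ∞, h + c = N → ((e : ℕ∞) ≤ h + n ↔ c ≤ (D : ℕ∞)) := by
    intro h c hc
    induction h using ENat.recTopCoe with
    | top => simp at hc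
    | coe h =>
      induction c using ENat.recTopCoe with
      | top => simp at hc
      | coe c =>
        have hc' : h + c = N := by exact_mod_cast hc
        constructor
        · intro h1
          have h1' : e ≤ h + n := by exact_mod_cast h1
          exact_mod_cast (show c ≤ N + n - e by omega)
        · intro h1
          have h1' : c ≤ N + n - e := by exact_mod_cast h1
          exact_mod_cast (show e ≤ h + n by omega)
  refine ⟨fun h t ht => ?_, fun h t ht htM => ?_⟩
  · rw [hco]
    exact (key _ _ (height_add_coheight_fib _ (κ t))).1 (h (κ t) ((hle _ _).2 ht) (hrange ▸ Set.mem_range_self t.1))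
  · obtain ⟨t', rfl⟩ := hsurj t htM
    exact (key _ _ (height_add_coheight_fib _ (κ t'))).2 (hco t' ▸ h t' ((hle _ _).1 ht))

/-- The fibre codepth loci of a flat module over a polynomial ring are open. -/
theorem isOpen_codepth [Module R M] [IsScalarTower R (MvPolynomial (Fin N) R) M] [Module.FinitePresentation (MvPolynomial (Fin N) R) M] [Module.Flat R M]
    (n : ℕ) : IsOpen {q : PrimeSpectrum (MvPolynomial (Fin N) R) |
      Module.supportDim (EGA4.FibLocRing R (MvPolynomial (Fin N) R) q.asIdeal) (EGA4.FibLocRing R (MvPolynomial (Fin N) R) q.asIdeal ⊗[(MvPolynomial (Fin N) R)] M) ≤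
        (((haveI := FlatLoc6.isLocalRing_fibLocRing (A := R) q.asIdeal
          LocCoh.depth (EGA4.FibLocRing R (MvPolynomial (Fin N) R) q.asIdeal) (EGA4.FibLocRing R (MvPolynomial (Fin N) R) q.asIdeal ⊗[(MvPolynomial (Fin N) R)] M)) : ℕ∞) :
            WithBot ℕ∞) + n} := by
  have h := isOpen_iUnion fun e : ℕ => (isOpen_pdLE (A := R) (B := (MvPolynomial (Fin N) R)) e M).inter (isOpen_codim M e n)
  convert h using 1
  ext q
  haveI := isRegularLocalRing_fibLocRing q
  haveI : Module.Finite (EGA4.FibLocRing R (MvPolynomial (Fin N) R) q.asIdeal) (EGA4.FibLocRing R (MvPolynomial (Fin N) R) q.asIdeal ⊗[(MvPolynomial (Fin N) R)] M) :=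
    Module.Finite.base_change (MvPolynomial (Fin N) R) _ M
  simp only [Set.mem_iUnion, Set.mem_inter_iff, Set.mem_setOf_eq]
  refine (codepth_le_iff _ _ n).trans (exists_congr fun e => and_congr_right fun _ => ?_)
  refine ⟨fun h t ht htM => ?_, fun h P' hP' => ?_⟩
  · obtain ⟨P', rfl⟩ := exists_toFib_eq q t ht
    rw [height_toFib]
    exact h P' ((S6284.result (R' := EGA4.FibLocRing R (MvPolynomial (Fin N) R) q.asIdeal) M).ge htM)
  · rw [← height_toFib]
    exact h (toFib q P') (mem_fib_comap q P').2 ((S6284.result (R' := EGA4.FibLocRing R (MvPolynomial (Fin N) R) q.asIdeal) M).le hP')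

end Groth.Agent.Codepth5
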