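import Groth.Agent.Codepth5.Sk
import Groth.Agent.FibDim.Top

/-!
# The rectified depth on the base of a proper morphism
-/

set_option autoImplicit false
set_option linter.style.haveILetI false
set_option backward.isDefEq.respectTransparency false
set_option backward.isDefEq.respectTransparency.types false

universe u

open AlgebraicGeometry CategoryTheory IsLocalRing

namespace Groth.Agent.Codepth5

theorem isOpen_base_rect {X Y : Scheme.{u}} (f : X ⟶ Y) [IsProper f] [LocallyOfFinitePresentation f]
    (F : X.Modules) (hF : CohB1.IsFP F) (hflat : FlatMod.IsFlatOver f F) (n : ℕ) :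
    IsOpen {y : Y | ∀ x : ↥(f.fiber y), (n : WithBot ℕ∞) ≤
      ((LocCoh.depth ((f.fiber y).presheaf.stalk x) (((Scheme.Modules.pullback (f.fiberι y)).obj F).presheaf.stalk x) : ℕ∞) : WithBot ℕ∞) +
        topologicalKrullDim ↥(closure ({x} : Set ↥(f.fiber y)))} := by
  have key : ∀ (y : Y) (w : ↥(f.fiber y)) (x : X), f.fiberι y w = x →
      ((n : WithBot ℕ∞) ≤ ((LocCoh.depth ((f.fiber y).presheaf.stalk w)
        (((Scheme.Modules.pullback (f.fiberι y)).obj F).presheaf.stalk w) : ℕ∞) : WithBot ℕ∞) +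
          topologicalKrullDim ↥(closure ({w} : Set ↥(f.fiber y))) ↔
      (n : WithBot ℕ∞) ≤ (((dd (X.presheaf.stalk x) (F.presheaf.stalk x ⧸
        (fibIdeal f x • ⊤ : Submodule (X.presheaf.stalk x) (F.presheaf.stalk x)))).2 : ℕ∞) : WithBot ℕ∞) +
          ((FibDim.rd f x : ℕ∞) : WithBot ℕ∞)) := by
    intro y w x hw
    subst hw
    rw [← fibre_dd_eq f F (f.fiberι y w) y w rfl,
      VarDim.topologicalKrullDim_closure_singleton (k := Y.residueField y) (f.fiberToSpecResidueField y) w,
      FibDim.deg_fiber]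
    rfl
  convert (f.isClosedMap _ (isOpen_rect f F hF hflat n).isClosed_compl).isOpen_compl using 1
  ext y
  refine ⟨fun h => ?_, fun h w => ?_⟩
  · rintro ⟨x, hx, rfl⟩
    exact hx (h (f.asFiber x))
  · by_contra hw
    refine h ⟨f.fiberι y w, fun hmem => hw ?_, FlatDvr.fiberι_apply_eq f w⟩
    exact (key _ w _ rfl).2 ((key _ _ _ (f.fiberι_asFiber (f.fiberι y w))).1 hmem)

end Groth.Agent.Codepth5
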