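import Groth.Agent.Codepth5.SkPoly
import Groth.Agent.Codepth5.Open
import Groth.Agent.Triage.CMMor
import Groth.Agent.FlatLoc6.FiberSelf
import Groth.Agent.FibDim.Open

/-!
# Serre's conditions and the rectified depth in the fibres of a morphism
-/

set_option autoImplicit false
set_option linter.style.haveILetI false
set_option backward.isDefEq.respectTransparency false
set_option backward.isDefEq.respectTransparency.types false

universe u

open AlgebraicGeometry CategoryTheory IsLocalRing TensorProduct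

namespace Groth.Agent.Codepth5

open FibDim (fib)

section Affine

variable {A B : Type u} [CommRing A] [CommRing B] [Algebra A B]

theorem coheight_congr_fib {P : Type u} [CommRing P] [Algebra A P] {y y' : PrimeSpectrum A} (h : y = y')
    (t : ↥(fib (B := P) y)) (t' : ↥(fib (B := P) y')) (ht : t.1 = t'.1) : Order.coheight t = Order.coheight t' := by
  subst h
  rw [Subtype.ext ht]

/-- Transfer of the pointwise conditions along a presentation. -/
theorem transfer {P : Type u} [CommRing P] [Algebra A P] [Algebra P B] [IsScalarTower A P B]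
    (hf : Function.Surjective (algebraMap P B)) (q : PrimeSpectrum B) :
    Order.coheight (⟨q, rfl⟩ : ↥(fib (B := B) (PrimeSpectrum.comap (algebraMap A B) q))) =
      Order.coheight (⟨PrimeSpectrum.comap (algebraMap P B) q, rfl⟩ : ↥(fib (B := P)
        (PrimeSpectrum.comap (algebraMap A P) (PrimeSpectrum.comap (algebraMap P B) q)))) := by
  let ι := PrimeSpectrum.comap (algebraMap P B)
  have hι : Topology.IsClosedEmbedding ι := PrimeSpectrum.isClosedEmbedding_comap_of_surjective _ _ hf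
  have hy : ∀ t : PrimeSpectrum B, PrimeSpectrum.comap (algebraMap A P) (ι t) =
      PrimeSpectrum.comap (algebraMap A B) t := fun t => by
    show PrimeSpectrum.comap _ (PrimeSpectrum.comap _ t) = _
    rw [← PrimeSpectrum.comap_comp_apply, ← IsScalarTower.algebraMap_eq]
  have hle : ∀ a b, ι a ≤ ι b ↔ a ≤ b := fun a b => by
    rw [PrimeSpectrum.le_iff_specializes, PrimeSpectrum.le_iff_specializes]
    exact hι.isInducing.specializes_iff
  let κ : ↥(fib (B := B) (PrimeSpectrum.comap (algebraMap A B) q)) →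
      ↥(fib (B := P) (PrimeSpectrum.comap (algebraMap A P) (ι q))) := fun t =>
    ⟨ι t.1, ((hy t.1).trans t.2).trans (hy q).symm⟩
  refine Order.coheight_eq_of_strictMono κ (fun a b hab =>
    lt_of_le_not_ge ((hle _ _).2 hab.le) fun h => hab.not_ge ((hle _ _).1 h)) (fun a b hb => ?_) _
  have hspec : (κ a).1 ⤳ b.1 := (PrimeSpectrum.le_iff_specializes _ _).1 hb.le
  obtain ⟨b', hb'⟩ : b.1 ∈ Set.range ι :=
    hspec.mem_closed hι.isClosed_range (Set.mem_range_self a.1)
  refine ⟨⟨b', ((hy b').symm.trans ((congrArg _ hb').trans b.2)).trans (hy q)⟩, ?_, Subtype.ext hb'⟩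
  refine lt_of_le_not_ge ((hle _ _).1 (by rw [hb']; exact hb.le)) fun h => hb.not_ge ?_
  show b.1 ≤ ι a.1
  rw [← hb']
  exact (hle _ _).2 h

theorem skGen_iff_of_surjective {P : Type u} [CommRing P] [Algebra A P] [Algebra P B] [IsScalarTower A P B]
    (hf : Function.Surjective (algebraMap P B)) (M : Type u) [AddCommGroup M] [Module B M] [Module P M]
    [IsScalarTower P B M] (k : ℕ)
    (hout : ∀ t : PrimeSpectrum P, t ∉ Set.range (PrimeSpectrum.comap (algebraMap P B)) → SkOne A M k t.asIdeal)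
    (q : PrimeSpectrum B) :
    SkGen A M k (PrimeSpectrum.comap (algebraMap P B) q) ↔ SkGen A M k q := by
  let ι := PrimeSpectrum.comap (algebraMap P B)
  have hι : Topology.IsClosedEmbedding ι := PrimeSpectrum.isClosedEmbedding_comap_of_surjective _ _ hf
  have hy : ∀ t : PrimeSpectrum B, PrimeSpectrum.comap (algebraMap A P) (ι t) =
      PrimeSpectrum.comap (algebraMap A B) t := fun t => by
    show PrimeSpectrum.comap _ (PrimeSpectrum.comap _ t) = _
    rw [← PrimeSpectrum.comap_comp_apply, ← IsScalarTower.algebraMap_eq]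
  have hle : ∀ a b, ι a ≤ ι b ↔ a ≤ b := fun a b => by
    rw [PrimeSpectrum.le_iff_specializes, PrimeSpectrum.le_iff_specializes]
    exact hι.isInducing.specializes_iff
  have hone : ∀ t : PrimeSpectrum B, SkOne A M k (ι t).asIdeal ↔ SkOne A M k t.asIdeal := fun t => by
    rw [SkOne, SkOne, show dd (Localization.AtPrime (ι t).asIdeal) (EGA4.FibLocMod A P (ι t).asIdeal M) =
      dd (Localization.AtPrime t.asIdeal) (EGA4.FibLocMod A B t.asIdeal M) from dd_surjective hf M t]
  refine ⟨fun h t ht => (hone t.1).1 (h ⟨ι t.1, ((hy t.1).trans t.2).trans (hy q).symm⟩ ((hle _ _).2 ht)),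
    fun h t ht => ?_⟩
  obtain ⟨t, htp⟩ := t
  by_cases hr : t ∈ Set.range ι
  · obtain ⟨b, rfl⟩ := hr
    exact (hone b).2 (h ⟨b, ((hy b).symm.trans htp).trans (hy q)⟩ ((hle _ _).1 ht))
  · exact hout t hr

variable [Algebra.FinitePresentation A B] (M : Type u) [AddCommGroup M] [Module B M] [Module A M]
  [IsScalarTower A B M] [Module.FinitePresentation B M] [Module.Flat A M]

theorem exists_presentation :
    ∃ (n : ℕ) (_ : Algebra (MvPolynomial (Fin n) A) B) (_ : Module (MvPolynomial (Fin n) A) M)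
      (_ : IsScalarTower A (MvPolynomial (Fin n) A) B) (_ : IsScalarTower (MvPolynomial (Fin n) A) B M)
      (_ : IsScalarTower A (MvPolynomial (Fin n) A) M),
      Function.Surjective (algebraMap (MvPolynomial (Fin n) A) B) ∧
        Module.FinitePresentation (MvPolynomial (Fin n) A) M := by
  obtain ⟨n, f, hf, hker⟩ := Algebra.FinitePresentation.out (R := A) (A := B)
  letI : Algebra (MvPolynomial (Fin n) A) B := f.toRingHom.toAlgebra
  haveI h1 : IsScalarTower A (MvPolynomial (Fin n) A) B :=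
    IsScalarTower.of_algebraMap_eq fun a => (f.commutes a).symm
  letI iM : Module (MvPolynomial (Fin n) A) M := Module.compHom M f.toRingHom
  haveI h2 : IsScalarTower (MvPolynomial (Fin n) A) B M := IsScalarTower.of_algebraMap_smul fun _ _ => rfl
  haveI h3 : IsScalarTower A (MvPolynomial (Fin n) A) M := IsScalarTower.of_algebraMap_smul fun a m => by
    show f (algebraMap A (MvPolynomial (Fin n) A) a) • m = a • m
    rw [f.commutes, algebraMap_smul]
  haveI : Module.FinitePresentation (MvPolynomial (Fin n) A) B :=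
    Module.finitePresentation_of_surjective (Algebra.linearMap (MvPolynomial (Fin n) A) B) hf (by
      rwa [show LinearMap.ker (Algebra.linearMap (MvPolynomial (Fin n) A) B) = RingHom.ker f.toRingHom from
        Submodule.ext fun _ => Iff.rfl])
  exact ⟨n, inferInstance, iM, h1, h2, h3, hf, Module.FinitePresentation.trans (MvPolynomial (Fin n) A) M B⟩

theorem isOpen_skGen_affine (k : ℕ) : IsOpen {q : PrimeSpectrum B | SkGen A M k q} := by
  obtain ⟨n, iB, iM, h1, h2, h3, hf, hfp⟩ := exists_presentation (A := A) (B := B) M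
  convert (isOpen_skGen M k).preimage (PrimeSpectrum.continuous_comap (algebraMap (MvPolynomial (Fin n) A) B)) using 1
  ext q
  refine (skGen_iff_of_surjective (A := A) (P := MvPolynomial (Fin n) A) hf M k (fun t ht => ?_) q).symm
  have hts : t ∉ Module.support (MvPolynomial (Fin n) A) M := fun h => ht <| by
    rw [_root_.range_comap_of_surjective _ _ hf]
    intro r hr
    refine (Module.support_eq_zeroLocus (R := MvPolynomial (Fin n) A) (M := M)).le h (Module.mem_annihilator.2 fun m => ?_)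
    rw [← algebraMap_smul B r m, RingHom.mem_ker.1 hr, zero_smul]
  rcases exists_invariants M t with ⟨-, hdd, -⟩ | ⟨d, D, a, -, -, -, hs, -⟩
  · rw [SkOne, hdd]
    exact le_trans (min_le_right _ _) bot_le
  · exact absurd hs hts

theorem isOpen_rectGE_affine (n : ℕ) : IsOpen {q : PrimeSpectrum B | RectGE A M n q} := by
  obtain ⟨N, iB, iM, h1, h2, h3, hf, hfp⟩ := exists_presentation (A := A) (B := B) M
  convert (isOpen_rectGE M n).preimage (PrimeSpectrum.continuous_comap (algebraMap (MvPolynomial (Fin N) A) B)) using 1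
  ext q
  show RectGE A M n q ↔ RectGE A M n _
  rw [RectGE, RectGE, transfer hf q,
    show dd (Localization.AtPrime (PrimeSpectrum.comap (algebraMap (MvPolynomial (Fin N) A) B) q).asIdeal)
      (EGA4.FibLocMod A (MvPolynomial (Fin N) A) (PrimeSpectrum.comap (algebraMap (MvPolynomial (Fin N) A) B) q).asIdeal M) =
      dd (Localization.AtPrime q.asIdeal) (EGA4.FibLocMod A B q.asIdeal M) from dd_surjective hf M q]

end Affine

section Ring

/-- `(S_k)` of a local ring of a ring, pointwise. -/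
theorem hasSk_localization_iff {R : Type u} [CommRing R] [IsNoetherianRing R] (k : ℕ) (Q : PrimeSpectrum R)
    (L : Type u) [CommRing L] [Algebra R L] [IsLocalization.AtPrime L Q.asIdeal] :
    LocCoh.HasSk k L L ↔ ∀ Q' : PrimeSpectrum R, Q' ≤ Q → min (k : ℕ∞) Q'.asIdeal.height ≤
      LocCoh.depth (Localization.AtPrime Q'.asIdeal) (Localization.AtPrime Q'.asIdeal) := by
  haveI : IsNoetherianRing L := IsLocalization.isNoetherianRing Q.asIdeal.primeCompl L inferInstance
  haveI : IsLocalRing L := IsLocalization.AtPrime.isLocalRing L Q.asIdeal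
  rw [FlatLoc6.hasSk_self_iff]
  have hloc : ∀ (P : Ideal L) [P.IsPrime] (Q' : PrimeSpectrum R), P.comap (algebraMap R L) = Q'.asIdeal →
      P.height = Q'.asIdeal.height ∧ LocCoh.depth (Localization.AtPrime P) (Localization.AtPrime P) =
        LocCoh.depth (Localization.AtPrime Q'.asIdeal) (Localization.AtPrime Q'.asIdeal) := by
    intro P _ Q' hQ'
    obtain ⟨Q', hp⟩ := Q'
    subst hQ'
    haveI := IsLocalization.isLocalization_isLocalization_atPrime_isLocalization Q.asIdeal.primeCompl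
      (Localization.AtPrime P) P
    let φ := IsLocalization.algEquiv (P.comap (algebraMap R L)).primeCompl
      (Localization.AtPrime (P.comap (algebraMap R L))) (Localization.AtPrime P)
    exact ⟨(IsLocalization.height_under Q.asIdeal.primeCompl P).symm,
      (Alg6.depth_eq_of_semilinear φ.toRingEquiv.toRingHom φ.surjective φ.toRingEquiv.toAddEquiv
        fun r x => map_mul φ r x).symm⟩
  constructor
  · intro h Q' hle
    have hdisj : Disjoint (Q.asIdeal.primeCompl : Set R) Q'.asIdeal :=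
      Set.disjoint_left.mpr fun x hx hxt => hx (hle hxt)
    haveI := IsLocalization.isPrime_of_isPrime_disjoint Q.asIdeal.primeCompl L Q'.asIdeal Q'.2 hdisj
    obtain ⟨h2, h3⟩ := hloc (Q'.asIdeal.map (algebraMap R L)) Q'
      (IsLocalization.comap_map_of_isPrime_disjoint Q.asIdeal.primeCompl L Q'.2 hdisj)
    rw [← h2, ← h3]
    exact h _
  · intro h P hP
    obtain ⟨h2, h3⟩ := hloc P (PrimeSpectrum.comap (algebraMap R L) ⟨P, hP⟩) rfl
    rw [h2, h3]
    refine h _ ?_
    refine (Ideal.comap_mono (IsLocalRing.le_maximalIdeal hP.ne_top)).trans_eq ?_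
    exact IsLocalization.AtPrime.comap_maximalIdeal L Q.asIdeal

variable {A B : Type u} [CommRing A] [CommRing B] [Algebra A B] [Algebra.FiniteType A B]

/-- `(S_k)` of the local ring of the fibre, pointwise. -/
theorem hasSk_fibLocRing_iff (k : ℕ) (q : PrimeSpectrum B) :
    LocCoh.HasSk k (EGA4.FibLocRing A B q.asIdeal) (EGA4.FibLocRing A B q.asIdeal) ↔ SkGen A B k q := by
  let y := PrimeSpectrum.comap (algebraMap A B) q
  let p := y.asIdeal
  let e : ↥(fib (B := B) y) ≃o PrimeSpectrum (p.Fiber B) := PrimeSpectrum.preimageOrderIsoFiber A B y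
  let Q := e ⟨q, rfl⟩
  have hcomap : ∀ Q' : PrimeSpectrum (p.Fiber B),
      (e.symm Q').1.asIdeal = Q'.asIdeal.comap Algebra.TensorProduct.includeRight := fun Q' => rfl
  haveI : IsNoetherianRing (p.Fiber B) := Algebra.FiniteType.isNoetherianRing p.ResidueField _
  haveI : IsNoetherianRing (Localization.AtPrime Q.asIdeal) :=
    IsLocalization.isNoetherianRing Q.asIdeal.primeCompl _ inferInstance
  have hQ : Q.asIdeal.comap Algebra.TensorProduct.includeRight = q.asIdeal := by
    rw [← hcomap, OrderIso.symm_apply_apply]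
  have hone : ∀ (Q' : PrimeSpectrum (p.Fiber B)), SkOne A B k (e.symm Q').1.asIdeal ↔
      min (k : ℕ∞) Q'.asIdeal.height ≤
        LocCoh.depth (Localization.AtPrime Q'.asIdeal) (Localization.AtPrime Q'.asIdeal) := fun Q' => by
    obtain ⟨h1, h2⟩ := FlatLoc6.fib_of_fiber_prime p Q'.asIdeal (e.symm Q').1.asIdeal (hcomap Q').symm
    show min (k : WithBot ℕ∞) (FlatLoc6.fibDim A (e.symm Q').1.asIdeal B) ≤
      ((FlatLoc6.fibDepth A (e.symm Q').1.asIdeal B : ℕ∞) : WithBot ℕ∞) ↔ _
    rw [h1, h2, ← WithBot.coe_natCast, ← WithBot.coe_min, WithBot.coe_le_coe]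
  obtain ⟨f⟩ := FlatLoc6.exists_fibLocEquiv p Q.asIdeal
  have hg : ∀ (q' : Ideal B) [q'.IsPrime], Q.asIdeal.comap Algebra.TensorProduct.includeRight = q' →
      Nonempty (Localization.AtPrime Q.asIdeal ≃+* EGA4.FibLocRing A B q') := fun q' _ h => by
    subst h
    exact ⟨f⟩
  obtain ⟨g⟩ := hg q.asIdeal hQ
  haveI : IsNoetherianRing (EGA4.FibLocRing A B q.asIdeal) := isNoetherianRing_of_ringEquiv _ g
  have hiso : LocCoh.HasSk k (EGA4.FibLocRing A B q.asIdeal) (EGA4.FibLocRing A B q.asIdeal) ↔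
      LocCoh.HasSk k (Localization.AtPrime Q.asIdeal) (Localization.AtPrime Q.asIdeal) :=
    ⟨FlatLoc6.hasSk_of_ringEquiv g.symm k, FlatLoc6.hasSk_of_ringEquiv g k⟩
  rw [hiso, hasSk_localization_iff k Q (Localization.AtPrime Q.asIdeal)]
  constructor
  · intro h t ht
    have := (hone (e t)).2 (h (e t) (e.monotone ht))
    rwa [OrderIso.symm_apply_apply] at this
  · intro h Q' hle
    refine (hone Q').1 (h (e.symm Q') ?_)
    have := e.symm.monotone hle
    rwa [OrderIso.symm_apply_apply] at this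

end Ring

section Scheme

variable {X Y : Scheme.{u}} (f : X ⟶ Y) [LocallyOfFinitePresentation f]

/-- The rectified depth, on an affine chart. -/
theorem coheight_eq_rd {U : X.Opens} (hU : IsAffineOpen U) {V : Y.Opens} (hV : IsAffineOpen V)
    (hle : U ≤ f ⁻¹ᵁ V) (q : PrimeSpectrum Γ(X, U)) :
    letI := (f.appLE V U hle).hom.toAlgebra
    Order.coheight (⟨q, rfl⟩ : ↥(fib (B := Γ(X, U)) (PrimeSpectrum.comap (algebraMap Γ(Y, V) Γ(X, U)) q))) =
      FibDim.rd f (hU.fromSpec q) := by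
  letI := (f.appLE V U hle).hom.toAlgebra
  haveI : Algebra.FiniteType Γ(Y, V) Γ(X, U) := f.finiteType_appLE hV hU hle
  let y := PrimeSpectrum.comap (algebraMap Γ(Y, V) Γ(X, U)) q
  let t : ↥(fib (B := Γ(X, U)) y) := ⟨q, rfl⟩
  let ι := PrimeSpectrum.comap (Ideal.Quotient.mk q.asIdeal)
  have hι : Topology.IsClosedEmbedding ι :=
    PrimeSpectrum.isClosedEmbedding_comap_of_surjective _ _ Ideal.Quotient.mk_surjective
  have hle' : ∀ a b, ι a ≤ ι b ↔ a ≤ b := fun a b => by
    rw [PrimeSpectrum.le_iff_specializes, PrimeSpectrum.le_iff_specializes]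
    exact hι.isInducing.specializes_iff
  have hrange : ∀ s : ↥(fib (B := Γ(X, U)) y), t ≤ s → s.1 ∈ Set.range ι := fun s hs => by
    rw [_root_.range_comap_of_surjective _ _ Ideal.Quotient.mk_surjective, Ideal.mk_ker]
    exact hs
  have hge : ∀ a : PrimeSpectrum (Γ(X, U) ⧸ q.asIdeal), q ≤ ι a := fun a x hx => by
    show Ideal.Quotient.mk q.asIdeal x ∈ a.asIdeal
    rw [Ideal.Quotient.eq_zero_iff_mem.2 hx]
    exact a.asIdeal.zero_mem
  let η : ↥(fib (B := Γ(X, U) ⧸ q.asIdeal) y) → ↥(Set.Ici t) := fun a => ⟨⟨ι a.1, a.2⟩, hge a.1⟩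
  have hη : Function.Surjective η := fun s => by
    obtain ⟨a, ha⟩ := hrange s.1 s.2
    exact ⟨⟨a, ((congrArg (PrimeSpectrum.comap (algebraMap Γ(Y, V) Γ(X, U))) ha).trans s.1.2 : _)⟩,
      Subtype.ext (Subtype.ext ha)⟩
  have hdim : ringKrullDim (y.asIdeal.Fiber (Γ(X, U) ⧸ q.asIdeal)) = ((Order.coheight t : ℕ∞) : WithBot ℕ∞) := by
    rw [← FibDim.krullDim_fib, Order.coheight_eq_krullDim_Ici]
    exact Order.krullDim_eq_of_orderIso
      (RelIso.ofSurjective (OrderEmbedding.ofMapLEIff η fun a b => hle' a.1 b.1) hη)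
  have hiff : ∀ n : ℕ, (n : ℕ∞) ≤ Order.coheight t ↔ n ≤ FibDim.rd f (hU.fromSpec q) := fun n => by
    rw [FibDim.le_rd_iff f hV hU hle q n, ← FibDim.le_dim_fiber_quotient_iff (A := Γ(Y, V)) q.asIdeal n]
    show _ ↔ (n : WithBot ℕ∞) ≤ ringKrullDim (y.asIdeal.Fiber (Γ(X, U) ⧸ q.asIdeal))
    rw [hdim]
    exact_mod_cast Iff.rfl
  show Order.coheight t = _
  refine le_antisymm ?_ ((hiff _).2 le_rfl)
  by_contra hlt
  have := (hiff (FibDim.rd f (hU.fromSpec q) + 1)).1 (by
    push_cast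
    exact Order.add_one_le_of_lt (not_le.1 hlt))
  omega

/-- The rectified depth of the fibres of a flat module is lower semicontinuous. -/
theorem isOpen_rect (F : X.Modules) (hF : CohB1.IsFP F) (hflat : FlatMod.IsFlatOver f F) (n : ℕ) :
    IsOpen {x : X | (n : WithBot ℕ∞) ≤
      ((LocCoh.depth ((f.fiber (f.base x)).presheaf.stalk (f.asFiber x))
        (((Scheme.Modules.pullback (f.fiberι (f.base x))).obj F).presheaf.stalk (f.asFiber x)) : ℕ∞) : WithBot ℕ∞) +
        topologicalKrullDim ↥(closure ({f.asFiber x} : Set ↥(f.fiber (f.base x))))} := by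
  have hM := QCoh.isQCoh_of_isFP hF
  rw [isOpen_iff_forall_mem_open]
  intro x hx
  obtain ⟨V, hV, hxV, -⟩ := exists_isAffineOpen_mem_and_subset (U := (⊤ : Y.Opens)) (x := f x) trivial
  obtain ⟨U, hU, hxU, hUV⟩ := exists_isAffineOpen_mem_and_subset (U := f ⁻¹ᵁ V) (x := x) hxV
  letI : Algebra Γ(Y, V) Γ(X, U) := (f.appLE V U hUV).hom.toAlgebra
  haveI : Algebra.FinitePresentation Γ(Y, V) Γ(X, U) := f.finitePresentation_appLE hV hU hUV
  letI : Module Γ(Y, V) Γ(F, U) := Module.compHom _ (f.appLE V U hUV).hom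
  haveI : IsScalarTower Γ(Y, V) Γ(X, U) Γ(F, U) := IsScalarTower.of_algebraMap_smul fun _ _ => rfl
  haveI := QCoh.finitePresentation_of_isFP hF hU
  haveI : Module.Flat Γ(Y, V) Γ(F, U) := (QCoh.flat_appLE_iff f hM hU hV hUV).2 fun z _ => hflat z
  have key : ∀ z (hz : z ∈ U), ((n : WithBot ℕ∞) ≤
      ((LocCoh.depth ((f.fiber (f.base z)).presheaf.stalk (f.asFiber z))
        (((Scheme.Modules.pullback (f.fiberι (f.base z))).obj F).presheaf.stalk (f.asFiber z)) : ℕ∞) : WithBot ℕ∞) +
        topologicalKrullDim ↥(closure ({f.asFiber z} : Set ↥(f.fiber (f.base z))))) ↔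
        RectGE Γ(Y, V) Γ(F, U) n (hU.primeIdealOf ⟨z, hz⟩) := fun z hz => by
    letI := QCoh.stalkModule F hz
    haveI := QCoh.isLocalizedModule_germLin hM hU hz
    have h := congrArg Prod.snd ((fibre_dd_eq f F z _ _ (f.fiberι_asFiber z)).trans
      (dd_chart_eq f hU hV hUV hz (fun _ _ => rfl) (QCoh.germLin F hz)))
    have hd : topologicalKrullDim ↥(closure ({f.asFiber z} : Set ↥(f.fiber (f.base z)))) =
        ((FibDim.rd f z : ℕ∞) : WithBot ℕ∞) :=
      VarDim.topologicalKrullDim_closure_singleton (k := Y.residueField (f z)) (f.fiberToSpecResidueField (f z))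
        (f.asFiber z)
    have hc := coheight_eq_rd f hU hV hUV (hU.primeIdealOf ⟨z, hz⟩)
    rw [hU.fromSpec_primeIdealOf ⟨z, hz⟩] at hc
    rw [hd, ← WithBot.coe_add, ← WithBot.coe_natCast, WithBot.coe_le_coe, RectGE, hc]
    exact Iff.of_eq (congrArg (fun a : ℕ∞ => (n : ℕ∞) ≤ a + _) h)
  refine ⟨hU.fromSpec '' {q | RectGE Γ(Y, V) Γ(F, U) n q}, ?_,
    hU.fromSpec.isOpenEmbedding.isOpenMap _ (isOpen_rectGE_affine Γ(F, U) n), ?_⟩
  · rintro _ ⟨q, hq, rfl⟩
    have hz : hU.fromSpec q ∈ U := (Set.ext_iff.1 hU.range_fromSpec _).1 (Set.mem_range_self q)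
    refine (key _ hz).2 ?_
    have he : hU.primeIdealOf ⟨hU.fromSpec q, hz⟩ = q :=
      hU.fromSpec.isOpenEmbedding.injective (hU.fromSpec_primeIdealOf ⟨_, hz⟩)
    exact he.symm ▸ hq
  · exact ⟨hU.primeIdealOf ⟨x, hxU⟩, (key x hxU).1 hx, hU.fromSpec_primeIdealOf ⟨x, hxU⟩⟩

/-- The local ring of the fibre, on an affine chart. -/
theorem exists_fibre_stalk_equiv {U : X.Opens} (hU : IsAffineOpen U) {V : Y.Opens} (hV : IsAffineOpen V)
    (hle : U ≤ f ⁻¹ᵁ V) {x : X} (hx : x ∈ U) :
    letI := (f.appLE V U hle).hom.toAlgebra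
    Nonempty (EGA4.FibLocRing Γ(Y, V) Γ(X, U) (hU.primeIdealOf ⟨x, hx⟩).asIdeal ≃+*
      ((f.fiber (f.base x)).presheaf.stalk (f.asFiber x))) := by
  letI := (f.appLE V U hle).hom.toAlgebra
  letI := QCoh.stalkAlg (X := X) hx
  haveI hlX := QCoh.isLocalization_stalk' hU hx
  let q := (hU.primeIdealOf ⟨x, hx⟩).asIdeal
  let σ := IsLocalization.algEquiv q.primeCompl (Localization.AtPrime q) (X.presheaf.stalk x)
  obtain ⟨e⟩ := Triage.CMMor.exists_equiv_fibre_stalk_aux f x (f x) rfl (f.asFiber x) (f.fiberι_asFiber x)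
  refine ⟨(Ideal.quotientEquiv _ _ σ.toRingEquiv ?_).trans e⟩
  show _ = Ideal.map _ _
  rw [Ideal.map_map, FibFlat.sm_self]
  refine (fibIdeal_eq f hU hV hle hx).trans ?_
  refine congrArg (fun h => Ideal.map h _) (RingHom.ext fun a => ?_)
  exact (σ.commutes _).symm

/-- The locus of flatness and `(S_k)` fibre is open. -/
theorem isOpen_sk (k : ℕ) : IsOpen {x : X | (f.stalkMap x).hom.Flat ∧
    LocCoh.HasSk k ((f.fiber (f.base x)).presheaf.stalk (f.asFiber x))
      ((f.fiber (f.base x)).presheaf.stalk (f.asFiber x))} := by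
  rw [isOpen_iff_forall_mem_open]
  intro x hx
  obtain ⟨V, hV, hxV, -⟩ := exists_isAffineOpen_mem_and_subset (U := (⊤ : Y.Opens)) (x := f x) trivial
  let W : X.Opens := ⟨{z | (f.stalkMap z).hom.Flat}, FlatLocus.isOpen_flat_locus f⟩
  obtain ⟨U, hU, hxU, hUW⟩ := exists_isAffineOpen_mem_and_subset (U := W ⊓ f ⁻¹ᵁ V) (x := x) ⟨hx.1, hxV⟩
  have hUV : U ≤ f ⁻¹ᵁ V := fun z hz => (hUW hz).2
  letI : Algebra Γ(Y, V) Γ(X, U) := (f.appLE V U hUV).hom.toAlgebra
  haveI : Algebra.FinitePresentation Γ(Y, V) Γ(X, U) := f.finitePresentation_appLE hV hU hUV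
  haveI : Module.Flat Γ(Y, V) Γ(X, U) := CMOpen5.flat_of_flat_stalks f hV hU
    (hV.SpecMap_appLE_fromSpec f hU hUV).symm fun z hz => (hUW hz).1
  have key : ∀ z (hz : z ∈ U),
      LocCoh.HasSk k ((f.fiber (f.base z)).presheaf.stalk (f.asFiber z))
        ((f.fiber (f.base z)).presheaf.stalk (f.asFiber z)) ↔
      SkGen Γ(Y, V) Γ(X, U) k (hU.primeIdealOf ⟨z, hz⟩) := fun z hz => by
    rw [← hasSk_fibLocRing_iff]
    obtain ⟨e⟩ := exists_fibre_stalk_equiv f hU hV hUV hz
    haveI : IsLocallyNoetherian (f.fiber (f.base z)) :=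
      LocallyOfFiniteType.isLocallyNoetherian (f.fiberToSpecResidueField (f.base z))
    haveI := isNoetherianRing_of_ringEquiv _ e.symm
    exact ⟨FlatLoc6.hasSk_of_ringEquiv e.symm k, FlatLoc6.hasSk_of_ringEquiv e k⟩
  refine ⟨hU.fromSpec '' {q | SkGen Γ(Y, V) Γ(X, U) k q}, ?_,
    hU.fromSpec.isOpenEmbedding.isOpenMap _ (isOpen_skGen_affine Γ(X, U) k), ?_⟩
  · rintro _ ⟨q, hq, rfl⟩
    have hz : hU.fromSpec q ∈ U := (Set.ext_iff.1 hU.range_fromSpec _).1 (Set.mem_range_self q)
    refine ⟨(hUW hz).1, (key _ hz).2 ?_⟩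
    have he : hU.primeIdealOf ⟨hU.fromSpec q, hz⟩ = q :=
      hU.fromSpec.isOpenEmbedding.injective (hU.fromSpec_primeIdealOf ⟨_, hz⟩)
    exact he.symm ▸ hq
  · exact ⟨hU.primeIdealOf ⟨x, hxU⟩, (key x hxU).1 hx.2, hU.fromSpec_primeIdealOf ⟨x, hxU⟩⟩

end Scheme

end Groth.Agent.Codepth5
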