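import Groth.Agent.Codepth5.Field

/-!
# Serre's conditions on the fibres of a proper flat morphism
-/

set_option autoImplicit false
set_option linter.style.haveILetI false

universe u

open AlgebraicGeometry CategoryTheory

namespace Groth.Agent.Codepth5

theorem isOpen_base_sk {X Y : Scheme.{u}} (f : X ⟶ Y) [IsProper f] [Flat f] [LocallyOfFinitePresentation f]
    (k : ℕ) :
    IsOpen {y : Y | ∀ x : ↥(f.fiber y), LocCoh.HasSk k ((f.fiber y).presheaf.stalk x) ((f.fiber y).presheaf.stalk x)} := by
  have hW : IsOpen {x : X | FibP (SkR k) f x} := by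
    convert isOpen_sk f k using 1
    ext x
    exact (fibP_skR k f x).trans (and_iff_right (Flat.stalkMap f x)).symm
  convert (f.isClosedMap _ hW.isClosed_compl).isOpen_compl using 1
  ext y
  refine ⟨fun h => ?_, fun h w => ?_⟩
  · rintro ⟨x, hx, rfl⟩
    exact hx ((fibP_skR k f x).2 (h (f.asFiber x)))
  · by_contra hw
    refine h ⟨f.fiberι y w, fun hmem => hw ?_, FlatDvr.fiberι_apply_eq f w⟩
    exact (((stable_skR k).congr (nonempty_fibre_stalk_equiv f _ y w rfl).some).1
      (((stable_skR k).fibP_iff f _).1 hmem)).2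

end Groth.Agent.Codepth5
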