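import Groth.Agent.Codepth5.Module
import Groth.Agent.LC.ExtDim
import Groth.Agent.FlatLoc6.NormFlat

/-!
# Serre's conditions and the rectified depth in the fibres of affine space
-/

set_option autoImplicit false
set_option linter.style.haveILetI false
set_option backward.isDefEq.respectTransparency false
set_option backward.isDefEq.respectTransparency.types false

universe u

open IsLocalRing TensorProduct Groth.Agent.RegLoc6

namespace Groth.Agent.Codepth5

open FibDim (fib)

/-- The inequality of `(S_k)` at the point `q` of its fibre. -/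
def SkOne (A : Type u) {B : Type u} [CommRing A] [CommRing B] [Algebra A B] (M : Type u) [AddCommGroup M]
    [Module B M] (k : ℕ) (q : Ideal B) [q.IsPrime] : Prop :=
  min (k : WithBot ℕ∞) (dd (Localization.AtPrime q) (EGA4.FibLocMod A B q M)).1 ≤
    (((dd (Localization.AtPrime q) (EGA4.FibLocMod A B q M)).2 : ℕ∞) : WithBot ℕ∞)

/-- `(S_k)` at `q` in its fibre. -/
def SkGen (A : Type u) {B : Type u} [CommRing A] [CommRing B] [Algebra A B] (M : Type u) [AddCommGroup M]
    [Module B M] (k : ℕ) (q : PrimeSpectrum B) : Prop :=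
  ∀ t : ↥(fib (B := B) (PrimeSpectrum.comap (algebraMap A B) q)), t.1 ≤ q → SkOne A M k t.1.asIdeal

/-- The rectified depth at `q` in its fibre is at least `n`. -/
def RectGE (A : Type u) {B : Type u} [CommRing A] [CommRing B] [Algebra A B] (M : Type u) [AddCommGroup M]
    [Module B M] (n : ℕ) (q : PrimeSpectrum B) : Prop :=
  (n : ℕ∞) ≤ (dd (Localization.AtPrime q.asIdeal) (EGA4.FibLocMod A B q.asIdeal M)).2 +
    Order.coheight (⟨q, rfl⟩ : ↥(fib (B := B) (PrimeSpectrum.comap (algebraMap A B) q)))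

variable {R : Type u} [CommRing R] {N : ℕ}

theorem height_congr_fib {y y' : PrimeSpectrum R} (h : y = y') (t : ↥(fib (B := MvPolynomial (Fin N) R) y))
    (t' : ↥(fib (B := MvPolynomial (Fin N) R) y')) (ht : t.1 = t'.1) : Order.height t = Order.height t' := by
  subst h
  rw [Subtype.ext ht]

/-- The dimension of the local ring of the fibre. -/
theorem exists_dim_fibLocRing (q : PrimeSpectrum (MvPolynomial (Fin N) R)) :
    ∃ d : ℕ, d ≤ N ∧ ringKrullDim (EGA4.FibLocRing R (MvPolynomial (Fin N) R) q.asIdeal) = d ∧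
      Order.height (⟨q, rfl⟩ : ↥(fib (B := MvPolynomial (Fin N) R)
        (PrimeSpectrum.comap (algebraMap R (MvPolynomial (Fin N) R)) q))) = d := by
  haveI := isRegularLocalRing_fibLocRing q
  let t : ↥(fib (B := MvPolynomial (Fin N) R) (PrimeSpectrum.comap (algebraMap R (MvPolynomial (Fin N) R)) q)) :=
    ⟨q, rfl⟩
  obtain ⟨P', hP'⟩ := exists_toFib_eq q t le_rfl
  have hmax : P' = IsLocalRing.closedPoint _ := by
    by_contra hne
    have hlt := toFib_strictMono q (lt_of_le_of_ne (show P' ≤ IsLocalRing.closedPoint _ from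
      IsLocalRing.le_maximalIdeal P'.2.ne_top) hne)
    rw [hP'] at hlt
    exact (lt_of_lt_of_le hlt (mem_fib_comap q (IsLocalRing.closedPoint _)).2).false
  have hN := height_add_coheight_fib _ t
  obtain ⟨d, hd⟩ : ∃ d : ℕ, Order.height t = d := by
    generalize Order.height t = h at hN
    induction h using ENat.recTopCoe with
    | top => simp at hN
    | coe d => exact ⟨d, rfl⟩
  refine ⟨d, ?_, ?_, hd⟩
  · have : (d : ℕ∞) ≤ N := hd ▸ hN ▸ le_self_add
    exact_mod_cast this
  · rw [← IsLocalRing.maximalIdeal_height_eq_ringKrullDim]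
    have h := height_toFib q P'
    rw [hP', hd, hmax] at h
    rw [show (IsLocalRing.closedPoint (EGA4.FibLocRing R (MvPolynomial (Fin N) R) q.asIdeal)).asIdeal =
      maximalIdeal _ from rfl] at h
    rw [← h]
    rfl

variable (M : Type u) [AddCommGroup M] [Module (MvPolynomial (Fin N) R) M] [Module.Finite (MvPolynomial (Fin N) R) M]

local notation "O" q:max => EGA4.FibLocRing R (MvPolynomial (Fin N) R) (PrimeSpectrum.asIdeal q)

/-- The point is outside the support or the fibre invariants are natural numbers. -/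
theorem exists_invariants (q : PrimeSpectrum (MvPolynomial (Fin N) R)) :
    (q ∉ Module.support (MvPolynomial (Fin N) R) M ∧
      dd (Localization.AtPrime q.asIdeal) (EGA4.FibLocMod R (MvPolynomial (Fin N) R) q.asIdeal M) = (⊥, ⊤) ∧
      ∀ j, PdLE (O q) j ((O q) ⊗[MvPolynomial (Fin N) R] M)) ∨
    ∃ d D a : ℕ, a ≤ D ∧ D ≤ d ∧ d ≤ N ∧ q ∈ Module.support (MvPolynomial (Fin N) R) M ∧
      dd (Localization.AtPrime q.asIdeal) (EGA4.FibLocMod R (MvPolynomial (Fin N) R) q.asIdeal M) =
        ((D : WithBot ℕ∞), (a : ℕ∞)) ∧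
      Order.height (⟨q, rfl⟩ : ↥(fib (B := MvPolynomial (Fin N) R)
        (PrimeSpectrum.comap (algebraMap R (MvPolynomial (Fin N) R)) q))) = d ∧
      (∀ j, PdLE (O q) j ((O q) ⊗[MvPolynomial (Fin N) R] M) ↔ d ≤ a + j) ∧
      ∀ e : ℕ, (∀ t : ↥(fib (B := MvPolynomial (Fin N) R)
          (PrimeSpectrum.comap (algebraMap R (MvPolynomial (Fin N) R)) q)),
          t.1 ≤ q → t.1 ∈ Module.support (MvPolynomial (Fin N) R) M → (e : ℕ∞) ≤ Order.height t + (0 : ℕ)) ↔
        D + e ≤ d := by
  haveI := isRegularLocalRing_fibLocRing q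
  haveI : Module.Finite (O q) ((O q) ⊗[MvPolynomial (Fin N) R] M) :=
    Module.Finite.base_change (MvPolynomial (Fin N) R) _ M
  have hsupp : Module.support (O q) ((O q) ⊗[MvPolynomial (Fin N) R] M) =
      PrimeSpectrum.comap (algebraMap (MvPolynomial (Fin N) R) (O q)) ⁻¹' Module.support (MvPolynomial (Fin N) R) M :=
    S6284.result M
  have hmem : ∀ P', PrimeSpectrum.comap (algebraMap (MvPolynomial (Fin N) R) (O q)) P' ∈
      Module.support (MvPolynomial (Fin N) R) M → q ∈ Module.support (MvPolynomial (Fin N) R) M := fun P' h =>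
    Module.mem_support_mono (mem_fib_comap q P').2 h
  rw [dd_fibLocRing M q.asIdeal]
  rcases subsingleton_or_nontrivial ((O q) ⊗[MvPolynomial (Fin N) R] M) with hs | hs
  · refine Or.inl ⟨fun hq => ?_, ?_, fun j =>
      pdLE_mono (Nat.zero_le j) (pdLE_zero_iff.2 (@Module.Projective.of_free _ _ _ _ _ (Module.Free.of_subsingleton _ _)))⟩
    · obtain ⟨P', hP'⟩ := exists_toFib_eq (R := R) q ⟨q, rfl⟩ le_rfl
      have hin : P' ∈ Module.support (O q) ((O q) ⊗[MvPolynomial (Fin N) R] M) := by
        rw [hsupp, Set.mem_preimage, show PrimeSpectrum.comap _ P' = q from congrArg Subtype.val hP']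
        exact hq
      rw [Module.support_eq_empty] at hin
      exact hin
    · exact Prod.ext (Module.supportDim_eq_bot_of_subsingleton _ _)
        (FlatLoc6.depth_top_of_subsingleton _)
  obtain ⟨d, hdN, hd, hdh⟩ := exists_dim_fibLocRing q
  haveI := LC.gorenstein_of_isRegularLocalRing (R := O q)
  haveI := LC.isCohenMacaulayLocalRing_of_gorenstein (R := O q)
  obtain ⟨D, hD⟩ : ∃ D : ℕ, Module.supportDim (O q) ((O q) ⊗[MvPolynomial (Fin N) R] M) = D := by
    have h1 := Module.supportDim_ne_bot_of_nontrivial (O q) ((O q) ⊗[MvPolynomial (Fin N) R] M)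
    have h2 := (Module.supportDim_le_ringKrullDim (O q) ((O q) ⊗[MvPolynomial (Fin N) R] M)).trans_eq hd
    generalize Module.supportDim (O q) ((O q) ⊗[MvPolynomial (Fin N) R] M) = x at h1 h2
    induction x with
    | bot => exact absurd rfl h1
    | coe x =>
      have h2' : x ≤ (d : ℕ∞) := by exact_mod_cast h2
      obtain ⟨m, rfl⟩ := ENat.ne_top_iff_exists.mp (h2'.trans_lt (ENat.natCast_lt_top d)).ne
      exact ⟨m, rfl⟩
  have hDd : D ≤ d := by
    have := Module.supportDim_le_ringKrullDim (O q) ((O q) ⊗[MvPolynomial (Fin N) R] M)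
    rw [hD, hd] at this
    exact_mod_cast this
  obtain ⟨a, ha⟩ := LC.exists_depth_eq_nat (R := O q) ((O q) ⊗[MvPolynomial (Fin N) R] M)
  have haD : a ≤ D := by
    have := LC.depth_le_supportDim (R := O q) ((O q) ⊗[MvPolynomial (Fin N) R] M)
    rw [ha, hD] at this
    exact_mod_cast this
  have hdR : LocCoh.depth (O q) (O q) = (d : ℕ∞) := by
    have := LocCoh.IsCohenMacaulayLocalRing.supportDim_eq_depth (R := O q)
    rw [Module.supportDim_self_eq_ringKrullDim, hd] at this
    exact_mod_cast this.symm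
  refine Or.inr ⟨d, D, a, haD, hDd, hdN, ?_, Prod.ext hD ha, hdh, fun j => ⟨fun h => ?_, fun h => ?_⟩, fun e => ?_⟩
  · obtain ⟨P', hP'⟩ := (Module.nonempty_support_iff (R := O q)).2 hs
    rw [hsupp] at hP'
    exact hmem _ hP'
  · have h2 := CplFib6.depth_add_ge (O q) _ j h
    rw [hdR, ha] at h2
    exact_mod_cast h2
  · refine LC.pdLE_of_le_depth (O q) d hd _ _ ?_
    rw [ha]
    exact_mod_cast h
  · have htr : (∀ t : ↥(fib (B := MvPolynomial (Fin N) R)
          (PrimeSpectrum.comap (algebraMap R (MvPolynomial (Fin N) R)) q)),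
          t.1 ≤ q → t.1 ∈ Module.support (MvPolynomial (Fin N) R) M → (e : ℕ∞) ≤ Order.height t + (0 : ℕ)) ↔
        ∀ P ∈ Module.support (O q) ((O q) ⊗[MvPolynomial (Fin N) R] M), (e : ℕ∞) ≤ P.asIdeal.height := by
      refine ⟨fun h P hP => ?_, fun h t ht htM => ?_⟩
      · rw [hsupp] at hP
        have := h (toFib q P) (mem_fib_comap q P).2 hP
        rwa [height_toFib, Nat.cast_zero, add_zero] at this
      · obtain ⟨P, rfl⟩ := exists_toFib_eq q t ht
        rw [height_toFib, Nat.cast_zero, add_zero]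
        exact h P (hsupp.ge htM)
    rw [htr]
    constructor
    · intro h
      have h1 := CplFib6.supportDim_add_le (O q) _ (e : ℕ∞) h
      rw [hD, hd] at h1
      exact_mod_cast h1
    · intro h P hP
      exact le_trans (by exact_mod_cast (show e ≤ d - D by omega)) (CplFib6.height_ge_of_mem_support (O q) _ hd hD
        (show d ≤ D + (d - D) by omega) (show (d - D) + D ≤ d by omega) P hP)

variable [Module R M] [IsScalarTower R (MvPolynomial (Fin N) R) M] [Module.FinitePresentation (MvPolynomial (Fin N) R) M]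
  [Module.Flat R M]

/-- The `(S_k)` loci of the fibres are open. -/
theorem isOpen_skGen (k : ℕ) : IsOpen {q : PrimeSpectrum (MvPolynomial (Fin N) R) | SkGen R M k q} := by
  let W : ℕ → Set (PrimeSpectrum (MvPolynomial (Fin N) R)) := fun j =>
    {q | PdLE (O q) j ((O q) ⊗[MvPolynomial (Fin N) R] M)}
  let G : ℕ → Set (PrimeSpectrum (MvPolynomial (Fin N) R)) := fun e =>
    {q | ∀ t : ↥(fib (B := MvPolynomial (Fin N) R) (PrimeSpectrum.comap (algebraMap R (MvPolynomial (Fin N) R)) q)),
      t.1 ≤ q → t.1 ∈ Module.support (MvPolynomial (Fin N) R) M → (e : ℕ∞) ≤ Order.height t + (0 : ℕ)}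
  let Bad : ℕ → Set (PrimeSpectrum (MvPolynomial (Fin N) R)) := fun j => (W j)ᶜ ∩ (G (j + 1))ᶜ
  have hBad : ∀ j, IsClosed (Bad j) := fun j =>
    (isOpen_pdLE (A := R) (B := MvPolynomial (Fin N) R) j M).isClosed_compl.inter
      (isOpen_codim M (j + 1) 0).isClosed_compl
  choose I hI using fun j => (PrimeSpectrum.isClosed_iff_zeroLocus_ideal (Bad j)).1 (hBad j)
  have hBadI : ∀ j, Module.support (MvPolynomial (Fin N) R) (MvPolynomial (Fin N) R ⧸ I j) = Bad j := fun j => by
    rw [Module.support_eq_zeroLocus, Ideal.annihilator_quotient, ← hI j]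
  have key : ∀ (z : PrimeSpectrum (MvPolynomial (Fin N) R)), SkOne R M k z.asIdeal ↔
      ∀ j < N, z ∈ Bad j → ((k + j + 1 : ℕ) : ℕ∞) ≤ Order.height (⟨z, rfl⟩ : ↥(fib (B := MvPolynomial (Fin N) R)
        (PrimeSpectrum.comap (algebraMap R (MvPolynomial (Fin N) R)) z))) := by
    intro z
    rw [SkOne]
    rcases exists_invariants M z with ⟨-, hdd, hW⟩ | ⟨d, D, a, haD, hDd, hdN, -, hdd, hh, hW, hG⟩
    · refine iff_of_true ?_ fun j _ hj => absurd (hW j) hj.1
      rw [hdd]
      exact le_trans (min_le_right _ _) bot_le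
    · rw [hdd, hh]
      have e1 : min (k : WithBot ℕ∞) ((D : ℕ) : WithBot ℕ∞) ≤ (((a : ℕ) : ℕ∞) : WithBot ℕ∞) ↔ min k D ≤ a := by
        rcases le_total k D with h | h
        · rw [min_eq_left h, min_eq_left (by exact_mod_cast h : (k : WithBot ℕ∞) ≤ D)]
          exact_mod_cast Iff.rfl
        · rw [min_eq_right h, min_eq_right (by exact_mod_cast h : (D : WithBot ℕ∞) ≤ k)]
          exact_mod_cast Iff.rfl
      refine e1.trans ⟨fun h j _ hj => ?_, fun h => ?_⟩
      · have h1 : ¬ d ≤ a + j := fun h' => hj.1 ((hW j).2 h')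
        have h2 : ¬ D + (j + 1) ≤ d := fun h' => hj.2 ((hG (j + 1)).2 h')
        exact_mod_cast (show k + j + 1 ≤ d by omega)
      · by_contra hc
        have := h (d - a - 1) (by omega) ⟨fun h' => absurd ((hW _).1 h') (by omega),
          fun h' => absurd ((hG _).1 h') (by omega)⟩
        have : k + (d - a - 1) + 1 ≤ d := by exact_mod_cast this
        omega
  have heq : {q : PrimeSpectrum (MvPolynomial (Fin N) R) | SkGen R M k q} = ⋂ j ∈ Finset.range N,
      {q | ∀ t : ↥(fib (B := MvPolynomial (Fin N) R) (PrimeSpectrum.comap (algebraMap R (MvPolynomial (Fin N) R)) q)),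
        t.1 ≤ q → t.1 ∈ Module.support (MvPolynomial (Fin N) R) (MvPolynomial (Fin N) R ⧸ I j) →
          ((k + j + 1 : ℕ) : ℕ∞) ≤ Order.height t + (0 : ℕ)} := by
    ext q
    simp only [Set.mem_iInter, Finset.mem_range, Set.mem_ofPred_eq, hBadI]
    refine ⟨fun h j hj t ht htB => ?_, fun h t ht => (key t.1).2 fun j hj htB => ?_⟩
    · rw [Nat.cast_zero, add_zero, height_congr_fib t.2.symm t ⟨t.1, rfl⟩ rfl]
      exact (key t.1).1 (h t ht) j hj htB
    · have := h j hj t ht htB
      rwa [Nat.cast_zero, add_zero, height_congr_fib t.2.symm t ⟨t.1, rfl⟩ rfl] at this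
  rw [heq]
  exact isOpen_biInter_finset fun j _ => isOpen_codim _ _ 0

/-- The rectified depth of the fibres is lower semicontinuous. -/
theorem isOpen_rectGE (n : ℕ) : IsOpen {q : PrimeSpectrum (MvPolynomial (Fin N) R) | RectGE R M n q} := by
  have key : ∀ q, RectGE R M n q ↔
      q ∉ Module.support (MvPolynomial (Fin N) R) M ∨
        (n ≤ N ∧ PdLE (O q) (N - n) ((O q) ⊗[MvPolynomial (Fin N) R] M)) := by
    intro q
    rw [RectGE]
    rcases exists_invariants M q with ⟨hns, hdd, -⟩ | ⟨d, D, a, haD, hDd, hdN, hs, hdd, hh, hW, -⟩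
    · refine iff_of_true ?_ (Or.inl hns)
      rw [hdd, top_add]
      exact le_top
    · have hc := height_add_coheight_fib _ (⟨q, rfl⟩ : ↥(fib (B := MvPolynomial (Fin N) R)
        (PrimeSpectrum.comap (algebraMap R (MvPolynomial (Fin N) R)) q)))
      rw [hh] at hc
      rw [hdd, hW]
      dsimp only
      generalize Order.coheight (⟨q, rfl⟩ : ↥(fib (B := MvPolynomial (Fin N) R)
        (PrimeSpectrum.comap (algebraMap R (MvPolynomial (Fin N) R)) q))) = c at hc
      induction c using ENat.recTopCoe with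
      | top => simp at hc
      | coe c =>
        have hc' : d + c = N := by exact_mod_cast hc
        constructor
        · intro h
          have h' : n ≤ a + c := by exact_mod_cast h
          exact Or.inr ⟨by omega, by omega⟩
        · rintro (h | ⟨h1, h2⟩)
          · exact absurd hs h
          · exact_mod_cast (show n ≤ a + c by omega)
  by_cases hn : n ≤ N
  · convert ((Module.isClosed_support (R := MvPolynomial (Fin N) R) (M := M)).isOpen_compl).union
      (isOpen_pdLE (A := R) (B := MvPolynomial (Fin N) R) (N - n) M) using 1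
    ext q
    exact (key q).trans (or_congr Iff.rfl (and_iff_right hn))
  · convert (Module.isClosed_support (R := MvPolynomial (Fin N) R) (M := M)).isOpen_compl using 1
    ext q
    exact (key q).trans (or_iff_left fun h => hn h.1)

end Groth.Agent.Codepth5
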