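import Groth.Agent.Codepth5.ConsScheme
import Groth.Agent.AssLib.Basic
import Groth.Agent.Alg6.AssDepth
import Groth.Agent.QCoh.DevissageP
import Groth.Agent.QCoh.Pullback
import Groth.Agent.QCoh.RpushStalk
import Groth.Agent.FibreLoc5.Constr

/-!
# Torsion of the restrictions of a module to integral fibres
-/

set_option autoImplicit false
set_option linter.style.haveILetI false
set_option backward.isDefEq.respectTransparency false
set_option backward.isDefEq.respectTransparency.types false

universe u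

open AlgebraicGeometry CategoryTheory TopologicalSpace Topology IsLocalRing

namespace Groth.Agent.Codepth5

section Algebra

variable {A : Type u} [CommRing A] (p : Ideal A) [p.IsPrime] {L : Type u} [CommRing L] [Algebra A L]
  [IsLocalization.AtPrime L p] [IsDomain L]
  {M : Type u} [AddCommGroup M] [Module A M] {N : Type u} [AddCommGroup N] [Module A N] [Module L N]
  [IsScalarTower A L N] (g : M →ₗ[A] N) [IsLocalizedModule p.primeCompl g]

/-- The minimal prime below `p`. -/
abbrev genPrime : Ideal A := RingHom.ker (algebraMap A L)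

include p in
theorem genPrime_le : genPrime (A := A) (L := L) ≤ p := fun a ha => by
  by_contra h
  exact (IsLocalization.map_units L (⟨a, h⟩ : p.primeCompl)).ne_zero (RingHom.mem_ker.1 ha)

include p in
theorem genPrime_min (q : Ideal A) [q.IsPrime] (hq : q ≤ p) : genPrime (A := A) (L := L) ≤ q := fun a ha => by
  obtain ⟨⟨c, hc⟩, hca⟩ := (IsLocalization.map_eq_zero_iff p.primeCompl L a).1 ha
  rcases Ideal.IsPrime.mem_or_mem ‹q.IsPrime› (show c * a ∈ q by rw [show c * a = 0 from hca]; exact zero_mem q) with h | h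
  · exact absurd (hq h) hc
  · exact h

variable [Module.Finite A M]
include p g

theorem torsion_eq_top_iff :
    Submodule.torsion L N = ⊤ ↔
      ¬ ∃ m : M, ∀ a ∉ genPrime (A := A) (L := L), a • m ≠ 0 := by
  constructor
  · rintro h ⟨m, hm⟩
    obtain ⟨⟨r, hr⟩, hrm⟩ := (Submodule.mem_torsion_iff _).1 (h.ge (Submodule.mem_top (x := g m)))
    obtain ⟨⟨a, s⟩, has⟩ := IsLocalization.surj p.primeCompl r
    have ha : a ∉ genPrime (A := A) (L := L) := fun h0 => by
      rw [RingHom.mem_ker.1 h0] at has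
      exact nonZeroDivisors.ne_zero hr
        ((mul_eq_zero.1 has).resolve_right (IsLocalization.map_units L s).ne_zero)
    have h1 : g (a • m) = 0 := by
      rw [map_smul, ← algebraMap_smul L a (g m), ← has, mul_comm, mul_smul]
      rw [show r • g m = 0 from hrm, smul_zero]
    obtain ⟨⟨c, hc⟩, hcam⟩ := (IsLocalizedModule.eq_zero_iff p.primeCompl g).1 h1
    refine hm (c * a) ?_ (by rw [mul_smul]; exact hcam)
    rw [RingHom.mem_ker, map_mul]
    exact mul_ne_zero (IsLocalization.map_units L (⟨c, hc⟩ : p.primeCompl)).ne_zero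
      fun h0 => ha (RingHom.mem_ker.2 h0)
  · intro h
    push Not at h
    refine eq_top_iff.2 fun v _ => ?_
    obtain ⟨⟨m, s⟩, hms⟩ := IsLocalizedModule.surj p.primeCompl g v
    obtain ⟨a, ha, ham⟩ := h m
    refine (Submodule.mem_torsion_iff _).2
      ⟨⟨algebraMap A L (a * s.1), mem_nonZeroDivisors_of_ne_zero ?_⟩, ?_⟩
    · rw [map_mul]
      exact mul_ne_zero (fun h0 => ha (RingHom.mem_ker.2 h0)) (IsLocalization.map_units L s).ne_zero
    · show algebraMap A L (a * s.1) • v = 0
      rw [algebraMap_smul, mul_smul, show (s : A) • v = g m from hms, ← map_smul, ham, map_zero]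

theorem torsion_eq_bot_iff [IsNoetherianRing A] :
    Submodule.torsion L N = ⊥ ↔
      ∀ q ∈ associatedPrimes A M, q ≤ p → q = genPrime (A := A) (L := L) := by
  have hpre := Module.associatedPrimes.preimage_comap_associatedPrimes_eq_associatedPrimes_of_isLocalizedModule
    p.primeCompl L g
  haveI : IsNoetherianRing L := IsLocalization.isNoetherianRing p.primeCompl L inferInstance
  constructor
  · intro h q hq hqp
    haveI : q.IsPrime := hq.1
    have hmap : (q.map (algebraMap A L)).comap (algebraMap A L) = q :=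
      IsLocalization.comap_map_of_isPrime_disjoint p.primeCompl L ‹q.IsPrime›
        (Set.disjoint_left.2 fun a ha haq => ha (hqp haq))
    have hQ : q.map (algebraMap A L) ∈ associatedPrimes L N := by
      rw [← hpre, Set.mem_preimage, hmap]
      exact hq
    obtain ⟨hQp, z, hz⟩ := Alg6.mem_ass_iff.1 hQ
    have hbot : q.map (algebraMap A L) = ⊥ := by
      refine eq_bot_iff.2 fun r hr => ?_
      by_contra hr0
      have hz0 : z ∈ Submodule.torsion L N :=
        (Submodule.mem_torsion_iff _).2 ⟨⟨r, mem_nonZeroDivisors_of_ne_zero hr0⟩, (hz r).1 hr⟩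
      rw [h, Submodule.mem_bot] at hz0
      exact hQp.ne_top ((Ideal.eq_top_iff_one _).2 ((hz 1).2 (by rw [hz0, smul_zero])))
    rw [← hmap, hbot, ← RingHom.ker_eq_comap_bot]
  · intro h
    refine eq_bot_iff.2 fun v hv => ?_
    obtain ⟨⟨r, hr⟩, hrv⟩ := (Submodule.mem_torsion_iff _).1 hv
    by_contra hv0
    obtain ⟨Q, hQ, hle⟩ := exists_le_isAssociatedPrime_of_isNoetherianRing L v hv0
    have hrQ : r ∈ Q := hle (by
      show r ∈ (⊥ : Submodule L N).colon ({v} : Set N)
      rw [Submodule.mem_colon_singleton, Submodule.mem_bot]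
      exact hrv)
    have hQA : Q.comap (algebraMap A L) ∈ associatedPrimes A M := by
      have hQ' : Q ∈ associatedPrimes L N := hQ
      rwa [← hpre, Set.mem_preimage] at hQ'
    have hQ0 := h _ hQA (fun a ha => by
      by_contra hap
      exact hQ.1.ne_top (Ideal.eq_top_of_isUnit_mem _ ha (IsLocalization.map_units L (⟨a, hap⟩ : p.primeCompl))))
    obtain ⟨⟨a, s⟩, has⟩ := IsLocalization.surj p.primeCompl r
    have haQ : a ∈ Q.comap (algebraMap A L) := by
      show algebraMap A L a ∈ Q
      rw [← has]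
      exact Ideal.mul_mem_right _ _ hrQ
    rw [hQ0, RingHom.mem_ker] at haQ
    rw [haQ] at has
    exact nonZeroDivisors.ne_zero hr ((mul_eq_zero.1 has).resolve_right (IsLocalization.map_units L s).ne_zero)

end Algebra

section Scheme

variable {Z : Scheme.{u}} [IsLocallyNoetherian Z] {M : Z.Modules}

/-- Over an integral local ring: the generic point of the component through `x`. -/
theorem exists_gen_point (hM : Coh.IsQCoh M) (hfp : CohB1.IsFP M) (x : Z) [IsDomain (Z.presheaf.stalk x)] :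
    ∃ η : Z, η ⤳ x ∧ (∀ w, w ⤳ x → η ⤳ w) ∧
      (Submodule.torsion (Z.presheaf.stalk x) (M.presheaf.stalk x) = ⊤ ↔ η ∉ CohB1.support M) ∧
      (Submodule.torsion (Z.presheaf.stalk x) (M.presheaf.stalk x) = ⊥ ↔
        ∀ w ∈ AssSch.Ass M, w ⤳ x → w = η) := by
  obtain ⟨U, hU, hxU, -⟩ := exists_isAffineOpen_mem_and_subset (x := x) (U := ⊤) trivial
  letI := QCoh.stalkAlg (X := Z) hxU
  letI := QCoh.stalkModule M hxU
  haveI := QCoh.isScalarTower_stalk M hxU
  haveI := QCoh.isLocalization_stalk' hU hxU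
  haveI := QCoh.isLocalizedModule_germLin hM hU hxU
  haveI : IsNoetherianRing Γ(Z, U) := IsLocallyNoetherian.component_noetherian ⟨U, hU⟩
  haveI := QCoh.finitePresentation_of_isFP hfp hU
  let p := (hU.primeIdealOf ⟨x, hxU⟩).asIdeal
  let P0 := genPrime (A := Γ(Z, U)) (L := Z.presheaf.stalk x)
  obtain ⟨η, hηU, hη⟩ := QCoh.exists_point hU ⟨P0, RingHom.ker_isPrime _⟩
  have hη' : (hU.primeIdealOf ⟨η, hηU⟩).asIdeal = P0 := congrArg PrimeSpectrum.asIdeal hη
  refine ⟨η, (AssLib.primeIdealOf_le_iff hU hxU hηU).1 (hη'.le.trans (genPrime_le p)), fun w hw => ?_, ?_, ?_⟩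
  · have hwU : w ∈ U := hw.mem_open U.isOpen hxU
    exact (AssLib.primeIdealOf_le_iff hU hwU hηU).1 (hη'.le.trans
      (genPrime_min p _ ((AssLib.primeIdealOf_le_iff hU hxU hwU).2 hw)))
  · refine (torsion_eq_top_iff p (QCoh.germLin M hxU)).trans (not_congr ?_)
    rw [← QCoh.mem_moduleSupport_iff hM hU hηU, Module.mem_support_iff', hη']
  · refine (torsion_eq_bot_iff p (QCoh.germLin M hxU)).trans ⟨fun h w hw hwx => ?_, fun h q hq hqp => ?_⟩
    · have hwU : w ∈ U := hwx.mem_open U.isOpen hxU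
      exact AssLib.eq_of_primeIdealOf_eq hU hηU hwU
        ((h _ ((AssLib.mem_ass_iff hM hU hwU).1 hw) ((AssLib.primeIdealOf_le_iff hU hxU hwU).2 hwx)).trans hη'.symm)
    · haveI : q.IsPrime := hq.1
      obtain ⟨w, hwU, hw⟩ := QCoh.exists_point hU ⟨q, inferInstance⟩
      have hw' : (hU.primeIdealOf ⟨w, hwU⟩).asIdeal = q := congrArg PrimeSpectrum.asIdeal hw
      obtain rfl := h w ((AssLib.mem_ass_iff hM hU hwU).2 (hw' ▸ hq))
        ((AssLib.primeIdealOf_le_iff hU hxU hwU).1 (hw' ▸ hqp))
      exact hw'.symm.trans hη'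

end Scheme

section Loci

variable {X Y : Scheme.{u}} (f : X ⟶ Y) [LocallyOfFinitePresentation f]

theorem isFP_fibMod (F : X.Modules) (hF : CohB1.IsFP F) (y : Y) : CohB1.IsFP (fibMod f F y) := by
  haveI : IsLocallyNoetherian (f.fiber y) :=
    LocallyOfFiniteType.isLocallyNoetherian (f.fiberToSpecResidueField y)
  exact QCoh.isCoh_iff_isFP.1 ⟨QCoh.isQCoh_pullback _ (QCoh.isQCoh_of_isFP hF),
    QCoh.isFT_pullback _ (QCoh.isQCoh_of_isFP hF) (QCoh.isFT_of_isFP hF)⟩

/-- A locally constructible condition indexed by the local dimension of a support. -/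
theorem isLC_exists_dimSuppEq (G : X.Modules) (hG : CohB1.IsFP G) (E : ℕ → X → Prop)
    (hE : ∀ n, IsLocallyConstructible {x | E n x}) :
    IsLocallyConstructible {x : X | ∃ n, DimSuppEq f G n x ∧ E n x} := by
  refine isLC_of_charts f _ fun U hU V hV hle => ?_
  letI : Algebra Γ(Y, V) Γ(X, U) := (f.appLE V U hle).hom.toAlgebra
  haveI : Algebra.FinitePresentation Γ(Y, V) Γ(X, U) := f.finitePresentation_appLE hV hU hle
  haveI := QCoh.finitePresentation_of_isFP hG hU
  obtain ⟨N, iB, iM, h1, h2, hf, hfp⟩ := exists_presentation' (A := Γ(Y, V)) (B := Γ(X, U)) Γ(G, U)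
  have hb : ∀ z (hz : z ∈ U), DimSuppAt f G N z := fun z hz =>
    (dimSuppAt_iff f G hU hV hle hG N hz).2
      ((dimLE_iff_of_surjective (A := Γ(Y, V)) (P := MvPolynomial (Fin N) Γ(Y, V)) hf Γ(G, U) N _).1
        fun t _ _ => le_add_self.trans_eq (height_add_coheight_fib _ t))
  refine ⟨hU.fromSpec ⁻¹' (⋃ n ∈ Set.Iic N, ({x | DimSuppEq f G n x} ∩ {x | E n x})),
    ((IsLocallyConstructible.biUnion (Set.finite_Iic N) fun n _ => (isLC_dimSuppEq f G hG n).inter
      (hE n)).preimage_of_isOpenEmbedding hU.fromSpec.isOpenEmbedding).isConstructible, fun z hz => ?_⟩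
  simp only [Set.mem_preimage, Set.mem_iUnion, hU.fromSpec_primeIdealOf, Set.mem_inter_iff, Set.mem_ofPred_eq,
    Set.mem_Iic]
  constructor
  · rintro ⟨n, hn, hEn⟩
    refine ⟨n, ?_, hn, hEn⟩
    by_contra hc
    exact hn.2 N (not_le.1 hc) (hb z hz)
  · rintro ⟨n, -, hn, hEn⟩
    exact ⟨n, hn, hEn⟩

omit [LocallyOfFinitePresentation f] in
theorem mem_fibSupp_unit [IsLocallyNoetherian X] {y : Y} (w : ↥(f.fiber y)) :
    w ∈ fibSupp f (Coh.structureModule X) y := by
  have hfp : CohB1.IsFP (Coh.structureModule X) := QCoh.isCoh_iff_isFP.1 QCoh.isCoh_structureModule'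
  rw [mem_fibSupp_iff f _ hfp]
  obtain ⟨U, hU, hxU, -⟩ := exists_isAffineOpen_mem_and_subset (x := f.fiberι y w) (U := ⊤) trivial
  rw [← mem_support_sections_iff _ hfp hU hxU, Module.mem_support_iff']
  refine ⟨(1 : Γ(X, U)), fun r hr h0 => hr ?_⟩
  have h1 : r * 1 = 0 := h0
  rw [mul_one] at h1
  rw [h1]
  exact zero_mem _

theorem deg_le_of_dimSuppEq [IsLocallyNoetherian X] {x : X} {n : ℕ}
    (h : DimSuppEq f (Coh.structureModule X) n x) {w : ↥(f.fiber (f.base x))} (hw : w ⤳ f.asFiber x) :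
    VarDim.deg (f.fiberToSpecResidueField (f.base x)) w ≤ n := by
  have := h.1 w (mem_fibSupp_unit f w) hw
  rw [dim_closure_eq_deg] at this
  exact_mod_cast this

variable [QuasiCompact f] [QuasiSeparated f] [IsLocallyNoetherian Y] (F : X.Modules)
  (hF : CohB1.IsFP F) (hint : ∀ (s : Y) (x : ↥(f.fiber s)), IsDomain ((f.fiber s).presheaf.stalk x))
include hF hint

theorem isLC_base_torsion : IsLocallyConstructible {s : Y | ∀ x : ↥(f.fiber s),
    Submodule.torsion ((f.fiber s).presheaf.stalk x) ((fibMod f F s).presheaf.stalk x) = ⊤} := by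
  haveI : IsLocallyNoetherian X := LocallyOfFiniteType.isLocallyNoetherian f
  have hO : CohB1.IsFP (Coh.structureModule X) := QCoh.isCoh_iff_isFP.1 QCoh.isCoh_structureModule'
  convert isLC_compl (f.isLocallyConstructible_image ((isLC_fibSupp f F hF).inter
    (isLC_exists_dimSuppEq f (Coh.structureModule X) hO (fun n x => DimSuppEq f F n x)
      fun n => isLC_dimSuppEq f F hF n))) using 1
  ext s
  constructor
  · rintro h ⟨x, ⟨hs, n, hO', hn⟩, rfl⟩
    haveI := hint (f.base x) (f.asFiber x)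
    haveI : IsLocallyNoetherian (f.fiber (f.base x)) :=
      LocallyOfFiniteType.isLocallyNoetherian (f.fiberToSpecResidueField _)
    obtain ⟨η, hη, hmin, hiff, -⟩ := exists_gen_point (QCoh.isQCoh_pullback _ (QCoh.isQCoh_of_isFP hF))
      (isFP_fibMod f F hF (f.base x)) (f.asFiber x)
    obtain ⟨w, hw, hwx, hd⟩ := hn.exists_isMaxSupp f F hs
    rw [dim_closure_eq_deg] at hd
    have hd' : VarDim.deg (f.fiberToSpecResidueField (f.base x)) w = n := by exact_mod_cast hd
    have : η = w := VarDim.eq_of_specializes_of_deg_le _ (hmin w hwx)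
      ((deg_le_of_dimSuppEq f hO' hη).trans hd'.ge)
    exact hiff.1 (h _) (this ▸ not_subsingleton_iff_nontrivial.2 hw.1)
  · intro h z
    refine fibre_induction f (fun s z => s ∉ f.base '' ({x | f.asFiber x ∈ fibSupp f F (f.base x)} ∩
      {x | ∃ n, DimSuppEq f (Coh.structureModule X) n x ∧ DimSuppEq f F n x}) →
        Submodule.torsion ((f.fiber s).presheaf.stalk z) ((fibMod f F s).presheaf.stalk z) = ⊤)
      (fun x h => ?_) s z h
    haveI := hint (f.base x) (f.asFiber x)
    haveI : IsLocallyNoetherian (f.fiber (f.base x)) :=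
      LocallyOfFiniteType.isLocallyNoetherian (f.fiberToSpecResidueField _)
    obtain ⟨η, hη, hmin, hiff, -⟩ := exists_gen_point (QCoh.isQCoh_pullback _ (QCoh.isQCoh_of_isFP hF))
      (isFP_fibMod f F hF (f.base x)) (f.asFiber x)
    refine hiff.2 fun hηs => ?_
    obtain ⟨n, hn⟩ := exists_dim_nat f η
    have hmax : ∀ w, w ⤳ η → w = η := fun w hw => (hw.antisymm (hmin w (hw.trans hη))).eq
    obtain ⟨y, hy, hys, hye⟩ : ∃ y, f.base y = f.base x ∧ f.asFiber y ∈ fibSupp f F (f.base y) ∧
        ∃ n, DimSuppEq f (Coh.structureModule X) n y ∧ DimSuppEq f F n y := by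
      refine fibre_induction f (fun s η => (∀ w, w ⤳ η → w = η) → η ∈ fibSupp f F s →
        topologicalKrullDim ↥(closure ({η} : Set ↥(f.fiber s))) = (n : WithBot ℕ∞) →
          ∃ y, f.base y = s ∧ f.asFiber y ∈ fibSupp f F (f.base y) ∧
            ∃ n, DimSuppEq f (Coh.structureModule X) n y ∧ DimSuppEq f F n y)
        (fun y hmax hs hd => ?_) _ η hmax (not_subsingleton_iff_nontrivial.1 hηs) hn
      have key : ∀ G : X.Modules, f.asFiber y ∈ fibSupp f G (f.base y) → DimSuppEq f G n y := fun G hG => by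
        refine ⟨fun w _ hw => by rw [hmax w hw]; exact hd.le, fun m hm hc => ?_⟩
        have := hc _ hG specializes_rfl
        rw [hd] at this
        exact absurd (show n ≤ m by exact_mod_cast this) (not_le.2 hm)
      exact ⟨y, rfl, hs, n, key _ (mem_fibSupp_unit f _), key F hs⟩
    exact h ⟨y, ⟨hys, hye⟩, hy⟩

theorem isLC_base_torsionFree : IsLocallyConstructible {s : Y | ∀ x : ↥(f.fiber s),
    Submodule.torsion ((f.fiber s).presheaf.stalk x) ((fibMod f F s).presheaf.stalk x) = ⊥} := by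
  haveI : IsLocallyNoetherian X := LocallyOfFiniteType.isLocallyNoetherian f
  have hO : CohB1.IsFP (Coh.structureModule X) := QCoh.isCoh_iff_isFP.1 QCoh.isCoh_structureModule'
  convert isLC_compl (f.isLocallyConstructible_image
    (isLC_exists_dimSuppEq f (Coh.structureModule X) hO (fun n x => ¬ AssDimsAt f F {n} x)
      fun n => isLC_compl (isLC_assDimsAt f F hF {n}))) using 1
  ext s
  constructor
  · rintro h ⟨x, ⟨n, hO', hn⟩, rfl⟩
    haveI := hint (f.base x) (f.asFiber x)
    haveI : IsLocallyNoetherian (f.fiber (f.base x)) :=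
      LocallyOfFiniteType.isLocallyNoetherian (f.fiberToSpecResidueField _)
    obtain ⟨η, hη, hmin, -, hiff⟩ := exists_gen_point (QCoh.isQCoh_pullback _ (QCoh.isQCoh_of_isFP hF))
      (isFP_fibMod f F hF (f.base x)) (f.asFiber x)
    refine hn fun w hw hwx => ⟨n, rfl, ?_⟩
    obtain rfl := hiff.1 (h _) w hw hwx
    obtain ⟨w0, hw0, hw0x, hd⟩ := hO'.exists_isMaxSupp f _ (mem_fibSupp_unit f _)
    rwa [← (hw0.2 w (mem_fibSupp_unit f w) (hmin w0 hw0x))] at hd
  · intro h z
    refine fibre_induction f (fun s z => s ∉ f.base '' {x | ∃ n, DimSuppEq f (Coh.structureModule X) n x ∧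
        ¬ AssDimsAt f F {n} x} →
        Submodule.torsion ((f.fiber s).presheaf.stalk z) ((fibMod f F s).presheaf.stalk z) = ⊥)
      (fun x h => ?_) s z h
    haveI := hint (f.base x) (f.asFiber x)
    haveI : IsLocallyNoetherian (f.fiber (f.base x)) :=
      LocallyOfFiniteType.isLocallyNoetherian (f.fiberToSpecResidueField _)
    obtain ⟨η, hη, hmin, -, hiff⟩ := exists_gen_point (QCoh.isQCoh_pullback _ (QCoh.isQCoh_of_isFP hF))
      (isFP_fibMod f F hF (f.base x)) (f.asFiber x)
    refine hiff.2 fun w hw hwx => ?_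
    obtain ⟨n, hn⟩ := exists_dimSuppEq f (Coh.structureModule X) hO x
    by_contra hne
    refine h ⟨x, ⟨n, hn, fun hc => ?_⟩, rfl⟩
    obtain ⟨m, hm, hd⟩ := hc w hw hwx
    rw [Set.mem_singleton_iff.1 hm, dim_closure_eq_deg] at hd
    have hd' : VarDim.deg (f.fiberToSpecResidueField (f.base x)) w = n := by exact_mod_cast hd
    exact hne (VarDim.eq_of_specializes_of_deg_le _ (hmin w hwx) ((deg_le_of_dimSuppEq f hn hη).trans hd'.ge)).symm

end Loci

end Groth.Agent.Codepth5
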